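/-
Simply laced data: the inner product of roots and its table checks.
-/
import Cfsg.Agent.Lib.Lie.Rel.Inst
import Cfsg.Agent.Lib.Lie.Chev.All

set_option autoImplicit false

namespace CfsgLib.Lie.Chev

open Cfsg.Lie (ChevalleyDatum)

namespace Inv2

variable (D : ChevalleyDatum) (X : Aux)

/-- the inner product of two roots (roots of squared length two) -/
def inn (r s : ℕ) : ℤ := ((List.range D.rank).map fun j => X.coef j s * D.cartan j r).sum

/-- a lexicographic key of a root -/
def key (r : ℕ) : ℤ := ((List.range D.rank).map fun j => X.coef j r * 16 ^ (D.rank - 1 - j)).sum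

/-- symmetric Cartan matrix, roots equal to coroots, keys increasing -/
def chkSym : Bool :=
  ((List.range D.rank).all fun i => (List.range D.rank).all fun j =>
    decide (D.cartan i (D.simple j) = D.cartan j (D.simple i))) &&
  ((List.range D.nroots).all fun s => (List.range D.rank).all fun j => decide (X.cor j s = X.coef j s)) &&
  ((List.range D.nroots).all fun s => Nat.beq (s + 1) D.nroots || decide (key D X s < key D X (s + 1)))

/-- every chain has length one with odd coefficient and inner product `-1` -/
def chkChain : Bool :=
  (List.range D.nroots).all fun r =>
    decide (inn D X r r = 2) && decide (inn D X r (D.nroots - 1 - r) = -2) &&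
    (row D r).all fun e =>
      Nat.beq e.2.toList.length 1 && decide (inn D X r e.1 = -1) && e.2.toList.all fun q => decide (q.2 % 2 = 1)

/-- positive pairs -/
def chkPos : Bool :=
  (List.range' (half D) (half D)).all fun r => (List.range' (half D) (half D)).all fun s =>
    Nat.beq r s ||
      (decide (inn D X r s = 0)) ||
      (decide (inn D X r s = -1) && (row D r).any fun e => Nat.beq e.1 s) ||
      (decide (inn D X r s = 1) && (Nat.blt s r ||
        (row D r).any fun e => Nat.ble (half D) e.1 && e.2.toList.any fun q => Nat.beq q.1 s))

end Inv2

end CfsgLib.Lie.Chev
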