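/-
Consequences of the simply laced table checks.
-/
import Cfsg.Agent.Lib.Lie.CharTwoInv.Checks

set_option autoImplicit false

namespace CfsgLib.Lie.Chev

open Cfsg.Lie (ChevalleyDatum)

namespace Inv2

/-- the table checks for simply laced data -/
structure SL (D : ChevalleyDatum) (X : Aux) : Prop where
  cert : Cert D X
  sym : chkSym D X = true
  chain : chkChain D X = true
  pos : chkPos D X = true

theorem inn_eq (D : ChevalleyDatum) (X : Aux) (r s : ℕ) :
    inn D X r s = ∑ j ∈ Finset.range D.rank, X.coef j s * D.cartan j r := rfl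

theorem key_eq (D : ChevalleyDatum) (X : Aux) (r : ℕ) :
    key D X r = ∑ j ∈ Finset.range D.rank, X.coef j r * 16 ^ (D.rank - 1 - j) := rfl

namespace SL

variable {D : ChevalleyDatum} {X : Aux} (S : SL D X)
include S

theorem sym' : (∀ i < D.rank, ∀ j < D.rank, D.cartan i (D.simple j) = D.cartan j (D.simple i)) ∧
    (∀ s < D.nroots, ∀ j < D.rank, X.cor j s = X.coef j s) ∧
    ∀ s, s + 1 < D.nroots → key D X s < key D X (s + 1) := by
  have h := S.sym
  simp only [chkSym, Bool.and_eq_true, List.all_eq_true, List.mem_range, decide_eq_true_iff, Bool.or_eq_true,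
    nat_beq_iff] at h
  exact ⟨h.1.1, h.1.2, fun s hs => (h.2 s (by omega)).resolve_left (by omega)⟩

theorem cor_eq {s j : ℕ} (hs : s < D.nroots) (hj : j < D.rank) : X.cor j s = X.coef j s := S.sym'.2.1 s hs j hj

theorem key_lt {s t : ℕ} (h : s < t) (ht : t < D.nroots) : key D X s < key D X t := by
  induction t with
  | zero => omega
  | succ t ih =>
    have h1 := S.sym'.2.2 t ht
    rcases (Nat.lt_succ_iff.1 h).lt_or_eq with h2 | rfl
    · exact (ih h2 (by omega)).trans h1
    · exact h1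

theorem lt_of_key {s t : ℕ} (hs : s < D.nroots) (h : key D X s < key D X t) : s < t := by
  by_contra hne
  rcases (not_lt.1 hne).lt_or_eq with h2 | rfl
  · exact absurd (S.key_lt h2 hs) h.not_gt
  · exact lt_irrefl _ h

theorem key_add {u r s : ℕ} (h : ∀ j < D.rank, X.coef j u = X.coef j r + X.coef j s) :
    key D X u = key D X r + key D X s := by
  have _ := S
  rw [key_eq, key_eq, key_eq, ← Finset.sum_add_distrib]
  exact Finset.sum_congr rfl fun j hj => by rw [h j (Finset.mem_range.1 hj)]; ring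

/-- translation preserves the order -/
theorem add_lt_add {u r s v r' : ℕ} (hu : u < D.nroots) (hr' : r' < D.nroots)
    (h : ∀ j < D.rank, X.coef j u = X.coef j r + X.coef j s)
    (h' : ∀ j < D.rank, X.coef j v = X.coef j r' + X.coef j s) (hlt : r < r') : u < v :=
  S.lt_of_key hu (by have := S.key_lt hlt hr'; rw [S.key_add h, S.key_add h']; linarith)

theorem inn_comm {r s : ℕ} (hr : r < D.nroots) (hs : s < D.nroots) : inn D X r s = inn D X s r := by
  have e : ∀ {r s : ℕ}, r < D.nroots → inn D X r s = ∑ j ∈ Finset.range D.rank, ∑ m ∈ Finset.range D.rank,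
      X.coef j s * (X.coef m r * D.cartan j (D.simple m)) := by
    intro r s hr
    rw [inn_eq]
    refine Finset.sum_congr rfl fun j hj => ?_
    rw [S.cert.cartan_eq hr (Finset.mem_range.1 hj), Finset.mul_sum]
  rw [e hr, e hs, Finset.sum_comm]
  refine Finset.sum_congr rfl fun m hm => Finset.sum_congr rfl fun j hj => ?_
  rw [S.sym'.1 j (Finset.mem_range.1 hj) m (Finset.mem_range.1 hm)]; ring

theorem inn_add {l u r s : ℕ} (h : ∀ j < D.rank, X.coef j u = X.coef j r + X.coef j s) :
    inn D X l u = inn D X l r + inn D X l s := by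
  have _ := S
  simp only [inn_eq, ← Finset.sum_add_distrib]
  exact Finset.sum_congr rfl fun j hj => by rw [h j (Finset.mem_range.1 hj)]; ring

theorem inn_w {i r s : ℕ} (hi : i < D.rank) (hr : r < D.nroots) (hs : s < D.nroots) :
    inn D X (X.w i r) (X.w i s) = inn D X r s := by
  have C := S.cert
  have e1 : inn D X r (X.w i s) = inn D X r s - D.cartan i s * D.cartan i r := by
    rw [inn_eq, inn_eq, Finset.sum_eq_add_sum_sdiff_singleton_of_mem (Finset.mem_range.2 hi) _,
      Finset.sum_eq_add_sum_sdiff_singleton_of_mem (Finset.mem_range.2 hi) (fun j => X.coef j s * D.cartan j r), C.coef_w hi hs hi,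
      if_pos rfl]
    rw [Finset.sum_congr rfl (g := fun j => X.coef j s * D.cartan j r) fun j hj => by
      simp only [Finset.mem_sdiff, Finset.mem_range, Finset.mem_singleton] at hj
      rw [C.coef_w hi hs hj.1, if_neg hj.2]]
    ring
  have e2 : inn D X (X.w i r) (X.w i s) =
      inn D X r (X.w i s) - D.cartan i r * D.cartan i (X.w i s) := by
    rw [C.cartan_eq (C.w_lt hi hs) hi, inn_eq, inn_eq, Finset.mul_sum, ← Finset.sum_sub_distrib]
    refine Finset.sum_congr rfl fun j hj => ?_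
    rw [C.cartan_w hr hi (Finset.mem_range.1 hj), S.sym'.1 j (Finset.mem_range.1 hj) i hi]
    ring
  rw [e2, e1, C.cartan_w_self hi hs]
  ring

theorem chain' {r : ℕ} (hr : r < D.nroots) : inn D X r r = 2 ∧ inn D X r (D.neg r) = -2 ∧
    ∀ e ∈ row D r, e.2.toList.length = 1 ∧ inn D X r e.1 = -1 ∧ ∀ q ∈ e.2.toList, q.2 % 2 = 1 := by
  have h := S.chain
  simp only [chkChain, Bool.and_eq_true, List.all_eq_true, List.mem_range, decide_eq_true_iff, nat_beq_iff] at h
  obtain ⟨⟨h1, h2⟩, h3⟩ := h r hr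
  exact ⟨h1, by rw [S.cert.neg_eq hr]; exact h2, fun e he => ⟨(h3 e he).1.1, (h3 e he).1.2, (h3 e he).2⟩⟩

theorem inn_self {r : ℕ} (hr : r < D.nroots) : inn D X r r = 2 := (S.chain' hr).1

theorem ne_of_inn {r s : ℕ} (hr : r < D.nroots) (h : inn D X r s ≠ 2 ∧ inn D X r s ≠ -2) :
    s ≠ r ∧ s ≠ D.neg r :=
  ⟨fun e => h.1 (by rw [e]; exact S.inn_self hr), fun e => h.2 (by rw [e]; exact (S.chain' hr).2.1)⟩

/-- the only possible term of the commutator formula -/
theorem commTerms_eq {r s : ℕ} (hr : r < D.nroots) (hs : s < D.nroots) :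
    D.commTerms r s = ((D.chainRoot r s 1).map fun u => (u, D.chainM r s 1, 1, 1)).toList := by
  have h : ∀ a b m, a < D.nroots → 2 ≤ m → D.chainRoot a b m = none := fun a b m ha hm =>
    S.cert.chainRoot_eq_none ha fun e he => by have := ((S.chain' ha).2.2 e he).1; omega
  unfold ChevalleyDatum.commTerms
  simp only [h r s 2 hr le_rfl, h s r 2 hs le_rfl, h r s 3 hr (by norm_num), h s r 3 hs (by norm_num),
    Option.bind_none, List.filterMap_cons, List.filterMap_nil, Option.map_none]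
  cases D.chainRoot r s 1 <;> rfl

theorem chainRoot_some {r s u : ℕ} (hr : r < D.nroots) (h : D.chainRoot r s 1 = some u) :
    inn D X r s = -1 ∧ D.chainM r s 1 % 2 = 1 := by
  unfold ChevalleyDatum.chainRoot at h
  unfold ChevalleyDatum.chainM
  obtain ⟨q, hq, -⟩ := Option.map_eq_some_iff.1 h
  have hq' : q ∈ D.chainEntry r s := List.mem_of_getElem? hq
  obtain ⟨e, he, h2, h3⟩ := S.cert.mem_chainEntry hq'
  obtain ⟨-, h5, h6⟩ := (S.chain' hr).2.2 e he
  refine ⟨h2 ▸ h5, ?_⟩
  rw [hq]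
  exact h6 q h3

/-- root groups of roots that do not sum to a root commute -/
theorem commTerms_nil {r s : ℕ} (hr : r < D.nroots) (hs : s < D.nroots) (h : inn D X r s ≠ -1) :
    D.commTerms r s = [] := by
  rw [S.commTerms_eq hr hs]
  cases e : D.chainRoot r s 1 with
  | none => rfl
  | some u => exact absurd (S.chainRoot_some hr e).1 h

theorem pos' {r s : ℕ} (hr : r < D.nroots) (hp : half D ≤ r) (hs : s < D.nroots) (hp' : half D ≤ s) (hne : r ≠ s) :
    inn D X r s = 0 ∨ (inn D X r s = -1 ∧ ∃ e ∈ row D r, e.1 = s) ∨ (inn D X r s = 1 ∧ (r < s →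
      ∃ e ∈ row D r, half D ≤ e.1 ∧ ∃ q ∈ e.2.toList, q.1 = s)) := by
  have h := S.pos
  simp only [chkPos, Bool.and_eq_true, List.all_eq_true, List.mem_range'_1, decide_eq_true_iff, nat_beq_iff,
    Bool.or_eq_true, List.any_eq_true, nat_blt_iff, nat_ble_iff] at h
  have hn := S.cert.nroots_eq
  rcases h r ⟨hp, by omega⟩ s ⟨hp', by omega⟩ with ((h | h) | h) | ⟨h, h'⟩
  · exact absurd h hne
  · exact Or.inl h
  · exact Or.inr (Or.inl h)
  · exact Or.inr (Or.inr ⟨h, fun hlt => h'.resolve_left (by omega)⟩)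

theorem inn_pos_cases {r s : ℕ} (hr : r < D.nroots) (hp : half D ≤ r) (hs : s < D.nroots) (hp' : half D ≤ s)
    (hne : r ≠ s) : inn D X r s = 0 ∨ inn D X r s = -1 ∨ inn D X r s = 1 := by
  rcases S.pos' hr hp hs hp' hne with h | h | h
  · exact Or.inl h
  · exact Or.inr (Or.inl h.1)
  · exact Or.inr (Or.inr h.1)

/-- two positive roots with inner product `-1` sum to a root -/
theorem exists_sum {r s : ℕ} (hr : r < D.nroots) (hp : half D ≤ r) (hs : s < D.nroots) (hp' : half D ≤ s)
    (h : inn D X r s = -1) : ∃ u, u < D.nroots ∧ half D ≤ u ∧ r < u ∧ s < u ∧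
      (∀ j < D.rank, X.coef j u = X.coef j r + X.coef j s) ∧
      ∃ C : ℤ, C % 2 = 1 ∧ D.commTerms r s = [(u, C, 1, 1)] := by
  have hne : r ≠ s := by rintro rfl; rw [S.inn_self hr] at h; norm_num at h
  rcases S.pos' hr hp hs hp' hne with h' | ⟨-, e, he, rfl⟩ | ⟨h', -⟩
  · omega
  · have e1 := S.cert.chainEntry_eq hr he
    obtain ⟨hl, -, -⟩ := (S.chain' hr).2.2 e he
    obtain ⟨q, hq⟩ := List.length_eq_one_iff.1 hl
    have hu : D.chainRoot r e.1 1 = some q.1 := by
      unfold ChevalleyDatum.chainRoot; rw [e1, hq]; rfl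
    obtain ⟨-, hC⟩ := S.chainRoot_some hr hu
    have hterm : D.commTerms r e.1 = [(q.1, D.chainM r e.1 1, 1, 1)] := by
      rw [S.commTerms_eq hr hs, hu]; rfl
    obtain ⟨g1, -, -, g4, g5⟩ := S.cert.commTerms_props hr hs (q.1, D.chainM r e.1 1, 1, 1) (by rw [hterm]; simp)
    obtain ⟨p1, p2, p3⟩ := g4 hp hp'
    exact ⟨q.1, g1, p3, p1, p2, fun j hj => by rw [g5 j hj]; simp, _, hC, hterm⟩
  · omega

/-- two positive roots with inner product `1` differ by a positive root -/
theorem exists_diff {r s : ℕ} (hr : r < D.nroots) (hp : half D ≤ r) (hs : s < D.nroots) (hlt : r < s)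
    (h : inn D X r s = 1) : ∃ d, d < D.nroots ∧ half D ≤ d ∧ inn D X r d = -1 ∧
      (∀ j < D.rank, X.coef j s = X.coef j r + X.coef j d) ∧
      ∃ C : ℤ, C % 2 = 1 ∧ D.commTerms r d = [(s, C, 1, 1)] := by
  rcases S.pos' hr hp hs (by omega) hlt.ne with h' | ⟨h', -⟩ | ⟨-, h'⟩
  · omega
  · omega
  · obtain ⟨e, he, hd, q, hq, rfl⟩ := h' hlt
    obtain ⟨hl, hi, -⟩ := (S.chain' hr).2.2 e he
    have hd' : e.1 < D.nroots := ((S.cert.rows' hr).2 e he).1
    obtain ⟨q', hq'⟩ := List.length_eq_one_iff.1 hl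
    obtain rfl : q = q' := by rw [hq'] at hq; simpa using hq
    have hu : D.chainRoot r e.1 1 = some q.1 := by
      unfold ChevalleyDatum.chainRoot; rw [S.cert.chainEntry_eq hr he, hq']; rfl
    have hterm : D.commTerms r e.1 = [(q.1, D.chainM r e.1 1, 1, 1)] := by
      rw [S.commTerms_eq hr hd', hu]; rfl
    obtain ⟨-, -, -, -, g5⟩ := S.cert.commTerms_props hr hd' (q.1, D.chainM r e.1 1, 1, 1) (by rw [hterm]; simp)
    exact ⟨e.1, hd', hd, hi, fun j hj => by rw [g5 j hj]; simp, _, (S.chainRoot_some hr hu).2, hterm⟩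

end SL

end Inv2

end CfsgLib.Lie.Chev
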