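/-
In characteristic two an involution of `U` of a simply laced group is conjugate to a product over pairwise
orthogonal roots.
-/
import Cfsg.Agent.Lib.Lie.CharTwoInv.Roots
import Cfsg.Agent.Lib.Lie.CharTwoCent.Product
import Cfsg.Agent.Lib.Lie.Rel.BorelTits
import Mathlib.Algebra.CharP.Two

set_option autoImplicit false

namespace CfsgLib.Lie.Chev

open Cfsg.Lie (ChevalleyDatum)

namespace Inv2

/-- positive roots from `lo` on, orthogonal to all roots of `L` -/
def oS (D : ChevalleyDatum) (X : Aux) (L : List (Fin D.nroots)) (lo : ℕ) : Set (Fin D.nroots) :=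
  {s | half D ≤ (s : ℕ) ∧ lo ≤ (s : ℕ) ∧ ∀ l ∈ L, inn D X (l : ℕ) s = 0}

/-- the roots left after killing those with inner product one below `k` -/
def killSet (D : ChevalleyDatum) (X : Aux) (L : List (Fin D.nroots)) (r k : ℕ) : Set (Fin D.nroots) :=
  {s | s ∈ oS D X L (r + 1) ∧ (inn D X r s ≠ 1 ∨ k ≤ (s : ℕ))}

/-- the roots left after killing those with inner product minus one below `k` -/
def freeSet (D : ChevalleyDatum) (X : Aux) (L : List (Fin D.nroots)) (r k : ℕ) : Set (Fin D.nroots) :=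
  {s | s ∈ oS D X L (r + 1) ∧ inn D X r s ≠ 1 ∧ (inn D X r s = 0 ∨ k ≤ (s : ℕ))}

theorem cast_of_odd {F : Type*} [Field F] [CharP F 2] {C : ℤ} (h : C % 2 = 1) : (C : F) = 1 := by
  rw [← Int.emod_add_mul_ediv C 2, h]
  push_cast
  rw [CharTwo.two_eq_zero, zero_mul, add_zero]

end Inv2

open Inv2

namespace Rel

variable {D : ChevalleyDatum} {X : Aux} {F : Type*} [Field F] {G : Type*} [Group G] (R : Rel D X F G)
include R

/-- a product splits off the factor of one root -/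
theorem split_at {A : Set (Fin D.nroots)} (hA : PosClosed D A) (k : Fin D.nroots) {g : G} (hg : g ∈ R.US A) :
    ∃ b, ∃ y ∈ R.US (A \ {k}), (k ∉ A → b = 0) ∧ g = R.xe (k : ℕ) b * y := by
  refine closure_induction_symm R.gens_symm ?h1 ?hmul hg
  case h1 => exact ⟨0, 1, one_mem _, fun _ => rfl, by rw [R.xe_zero, one_mul]⟩
  case hmul =>
    intro x hx y ih
    obtain ⟨r, hr, t, rfl⟩ := hx
    obtain ⟨b, z, hz, hb, rfl⟩ := ih
    by_cases hrk : r = k
    · subst hrk
      exact ⟨t + b, z, hz, fun h => absurd hr h, by rw [← mul_assoc, R.xe_add']⟩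
    · by_cases hkA : k ∈ A
      · refine ⟨b, (R.xe (k : ℕ) b)⁻¹ * R.xe (r : ℕ) t * R.xe (k : ℕ) b * z, mul_mem ?_ hz, hb, by group⟩
        refine R.xe_conj_mem (Ne.symm hrk) (fun e => ?_) (show r ∈ A \ {k} from ⟨hr, hrk⟩)
          (fun c hc h => ⟨hA.2 r hr k hkA c hc h, fun e => ?_⟩) t b
        · exact (R.negF_pos_iff r).1 (e ▸ hA.1 hkA) (hA.1 hr)
        · have h1 := ((R.cert.commTerms_props r.2 k.2 c hc).2.2.2.1 (hA.1 hr) (hA.1 hkA)).2.1
          have h2 : c.1 = (k : ℕ) := congrArg Fin.val e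
          omega
      · refine ⟨0, R.xe (r : ℕ) t * z, mul_mem (R.xe_mem_US (show r ∈ A \ {k} from ⟨hr, hrk⟩) t) hz, fun _ => rfl, ?_⟩
        rw [hb hkA, R.xe_zero, one_mul, one_mul]

theorem eq_zero_of_mem_closed {T : Set (Fin D.nroots)} (hT : PosClosed D T) {j : Fin D.nroots}
    (hj : half D ≤ (j : ℕ)) (hjT : j ∉ T) {t : F} (h : R.xe (j : ℕ) t ∈ R.US T) : t = 0 := by
  obtain ⟨f, hf, e⟩ := R.exists_oprod_closed hT h
  have h1 : R.PV (Pi.single (j : ℕ) t) = R.PV f := by rw [R.PV_single hj j.2]; exact e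
  have h2 := R.PV_inj h1 hj j.2
  rwa [Pi.single_eq_same, hf j fun _ h => hjT h] at h2

theorem conj_mem_of_gens {A : Set (Fin D.nroots)} {H : Subgroup G} (g : G)
    (h : ∀ s ∈ A, ∀ t, g * R.xe (s : ℕ) t * g⁻¹ ∈ H) {y : G} (hy : y ∈ R.US A) : g * y * g⁻¹ ∈ H :=
  (R.US_le (H := H.comap (MulAut.conj g).toMonoidHom) h) hy

variable [CharP F 2]

theorem xe_inv (r : ℕ) (t : F) : (R.xe r t)⁻¹ = R.xe r t := by
  rw [← R.xe_neg, CharTwo.neg_eq]

variable (S : SL D X)
include S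

theorem commute_of_inn {r s : ℕ} (hr : r < D.nroots) (hs : s < D.nroots) (hn : s ≠ D.neg r)
    (h : inn D X r s ≠ -1) (t u : F) : Commute (R.xe r t) (R.xe s u) := by
  by_cases hrs : s = r
  · subst hrs
    show _ * _ = _ * _
    rw [R.xe_add', R.xe_add', add_comm]
  · have := R.xe_comm r s t u hr hs hrs hn
    rw [ChevalleyDatum.commWord, S.commTerms_nil hr hs h, List.map_nil, List.map_nil, List.prod_nil, mul_one] at this
    exact this.symm

theorem commute_of_orth {r s : ℕ} (hr : r < D.nroots) (hs : s < D.nroots) (h : inn D X r s = 0) (t u : F) :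
    Commute (R.xe r t) (R.xe s u) :=
  R.commute_of_inn S hr hs (fun e => by rw [e, (S.chain' hr).2.1] at h; omega) (by omega) t u

theorem commute_of_pos {r s : Fin D.nroots} (hr : half D ≤ (r : ℕ)) (hs : half D ≤ (s : ℕ))
    (h : inn D X (r : ℕ) s ≠ -1) (t u : F) : Commute (R.xe (r : ℕ) t) (R.xe (s : ℕ) u) :=
  R.commute_of_inn S r.2 s.2 (fun e => ((R.cert.half_le_neg_iff r.2).1 (e ▸ hs)).not_ge hr) h t u

/-- conjugating by a root element when the sum is a root -/
theorem conj_of_term {r s u : ℕ} (hr : r < D.nroots) (hs : s < D.nroots) {C : ℤ} (hC : C % 2 = 1)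
    (h : D.commTerms r s = [(u, C, 1, 1)]) (hi : inn D X r s = -1) (t v : F) :
    R.xe s v * R.xe r t * (R.xe s v)⁻¹ = R.xe r t * R.xe u (t * v) := by
  obtain ⟨hne, hneg⟩ := S.ne_of_inn hr (s := s) ⟨by omega, by omega⟩
  have h1 := R.xe_comm r s t v hr hs hne hneg
  rw [ChevalleyDatum.commWord, h] at h1
  simp only [List.map_cons, List.map_nil, List.prod_cons, List.prod_nil, mul_one, pow_one, cast_of_odd hC,
    one_mul, CharTwo.neg_eq] at h1
  obtain ⟨hu, -, -, -, h5⟩ := R.cert.commTerms_props hr hs (u, C, 1, 1) (by rw [h]; simp)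
  have hsu : inn D X s u = 1 := by
    rw [S.inn_add (r := r) (s := s) fun j hj => by rw [h5 j hj]; simp, S.inn_comm hs hr, hi, S.inn_self hs]
    norm_num
  have hc : Commute (R.xe s v) (R.xe u (t * v)) :=
    R.commute_of_inn S hs hu (S.ne_of_inn hs (s := u) ⟨by rw [hsu]; norm_num, by rw [hsu]; norm_num⟩).2 (by rw [hsu]; norm_num) _ _
  rw [h1, mul_assoc (R.xe r t), hc.eq, ← mul_assoc, mul_inv_cancel_right]

omit [CharP F 2] in
theorem closed_of_sum {A : Set (Fin D.nroots)} (hpos : A ⊆ posSet D)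
    (h : ∀ r ∈ A, ∀ s ∈ A, ∀ u : Fin D.nroots, half D ≤ (u : ℕ) → (r : ℕ) < u → (s : ℕ) < u →
      (∀ j < D.rank, X.coef j u = X.coef j r + X.coef j s) → u ∈ A) : PosClosed D A := by
  refine ⟨hpos, fun r hr s hs c hc hlt => ?_⟩
  have hi : inn D X (r : ℕ) s = -1 := by
    by_contra hne
    rw [S.commTerms_nil r.2 s.2 hne] at hc
    simp at hc
  obtain ⟨u, hu, hp, h1, h2, h3, C, -, he⟩ := S.exists_sum r.2 (hpos hr) s.2 (hpos hs) hi
  rw [he, List.mem_singleton] at hc
  subst hc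
  exact h r hr s hs ⟨u, hu⟩ hp h1 h2 h3

omit [CharP F 2] in
theorem oS_closed (L : List (Fin D.nroots)) (lo : ℕ) : PosClosed D (oS D X L lo) := by
  refine R.closed_of_sum S (fun r hr => hr.1) fun r hr s hs u hu h1 _ h3 => ⟨hu, ?_, fun l hl => ?_⟩
  · have := hr.2.1; omega
  · rw [S.inn_add h3, hr.2.2 l hl, hs.2.2 l hl, add_zero]

/-- conjugating a generated subgroup by a root element, generator by generator -/
theorem conj_gen_mem {A T : Set (Fin D.nroots)} {d : Fin D.nroots} (hd : half D ≤ (d : ℕ))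
    (hA : A ⊆ posSet D) (hAT : A ⊆ T)
    (h : ∀ s ∈ A, inn D X (s : ℕ) d = -1 → ∀ w : Fin D.nroots, half D ≤ (w : ℕ) → (s : ℕ) < w → (d : ℕ) < w →
      (∀ j < D.rank, X.coef j w = X.coef j s + X.coef j d) → w ∈ T) (v : F) {y : G} (hy : y ∈ R.US A) :
    R.xe (d : ℕ) v * y * (R.xe (d : ℕ) v)⁻¹ ∈ R.US T := by
  refine R.conj_mem_of_gens _ (fun s hs t => ?_) hy
  by_cases hi : inn D X (s : ℕ) d = -1
  · obtain ⟨w, hw, hp, h1, h2, h3, C, hC, he⟩ := S.exists_sum s.2 (hA hs) d.2 hd hi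
    rw [R.conj_of_term S s.2 d.2 hC he hi]
    exact mul_mem (R.xe_mem_US (hAT hs) t) (R.xe_mem_US (r := ⟨w, hw⟩) (h s hs hi ⟨w, hw⟩ hp h1 h2 h3) _)
  · rw [← (R.commute_of_pos S (hA hs) hd hi t v).eq, mul_inv_cancel_right]
    exact R.xe_mem_US (hAT hs) t

/-- first step: the coordinates with inner product one are removed -/
theorem kill_one {L : List (Fin D.nroots)} {r : Fin D.nroots} (hr : r ∈ oS D X L (r : ℕ)) {c : F} (hc : c ≠ 0)
    {v : G} (hv : v ∈ R.US (oS D X L ((r : ℕ) + 1))) :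
    ∀ k, (r : ℕ) + 1 ≤ k → k ≤ D.nroots → ∃ h ∈ R.US (oS D X L (half D)), ∃ v' ∈ R.US (killSet D X L r k),
      h * (R.xe (r : ℕ) c * v) * h⁻¹ = R.xe (r : ℕ) c * v' := by
  have hrp : half D ≤ (r : ℕ) := hr.1
  intro k hk
  induction k, hk using Nat.le_induction with
  | base =>
    intro _
    exact ⟨1, one_mem _, v, R.US_mono (T := killSet D X L r ((r : ℕ) + 1)) (fun s hs => ⟨hs, Or.inr hs.2.1⟩) hv, by simp⟩
  | succ k hk ih =>
    intro hkn
    obtain ⟨h, hh, v', hv', e⟩ := ih (by omega)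
    obtain ⟨kk, hkk⟩ : ∃ kk : Fin D.nroots, (kk : ℕ) = k := ⟨⟨k, by omega⟩, rfl⟩
    by_cases hmem : kk ∈ oS D X L ((r : ℕ) + 1) ∧ inn D X (r : ℕ) kk = 1
    · have hkill : PosClosed D (killSet D X L r k) := by
        refine R.closed_of_sum S (fun s hs => hs.1.1) fun a ha b hb u hu h1 h2 h3 => ?_
        refine ⟨⟨hu, by have := ha.1.2.1; omega, fun l hl => ?_⟩, ?_⟩
        · rw [S.inn_add h3, ha.1.2.2 l hl, hb.1.2.2 l hl, add_zero]
        · rcases ha.2 with ha2 | ha2
          swap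
          · exact Or.inr (by omega)
          rcases hb.2 with hb2 | hb2
          swap
          · exact Or.inr (by omega)
          refine Or.inl ?_
          have ha3 := S.inn_pos_cases r.2 hrp a.2 ha.1.1 (by have := ha.1.2.1; omega)
          have hb3 := S.inn_pos_cases r.2 hrp b.2 hb.1.1 (by have := hb.1.2.1; omega)
          rw [S.inn_add h3]; omega
      obtain ⟨b, y, hy, -, rfl⟩ := R.split_at hkill kk hv'
      obtain ⟨d, hd, hdp, hdi, hd3, C, hC, hd5⟩ :=
        S.exists_diff r.2 hrp kk.2 (by have := hmem.1.2.1; omega) hmem.2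
      have hdO : (⟨d, hd⟩ : Fin D.nroots) ∈ oS D X L (half D) := by
        refine ⟨hdp, hdp, fun l hl => ?_⟩
        have := S.inn_add (l := (l : ℕ)) hd3
        rw [hmem.1.2.2 l hl, hr.2.2 l hl] at this
        show inn D X (l : ℕ) d = 0
        omega
      have hdk : inn D X d kk = 1 := by
        rw [S.inn_add hd3, S.inn_comm hd r.2, hdi, S.inn_self hd]; norm_num
      have hck : Commute (R.xe d (b / c)) (R.xe (kk : ℕ) b) :=
        R.commute_of_inn S hd kk.2 (S.ne_of_inn hd (s := (kk : ℕ)) ⟨by omega, by omega⟩).2 (by omega) _ _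
      refine ⟨R.xe d (b / c) * h, mul_mem (R.xe_mem_US (r := ⟨d, hd⟩) hdO _) hh,
        R.xe d (b / c) * y * (R.xe d (b / c))⁻¹, ?_, ?_⟩
      · refine R.conj_gen_mem S (T := killSet D X L (r : ℕ) (k + 1)) (A := killSet D X L (r : ℕ) k \ {kk}) (d := ⟨d, hd⟩) hdp (fun s hs => hs.1.1.1) (fun s hs => ⟨hs.1.1, ?_⟩)
          (fun s hs _ w hw h1 h2 h3 => ?_) _ hy
        · rcases hs.1.2 with h' | h'
          · exact Or.inl h'
          · refine Or.inr ?_
            have : (s : ℕ) ≠ k := fun e => hs.2 (Fin.ext (e.trans hkk.symm))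
            omega
        · have hs1 := hs.1.1.2.1
          refine ⟨⟨hw, by omega, fun l hl => ?_⟩, Or.inr ?_⟩
          · rw [S.inn_add h3, hs.1.1.2.2 l hl, hdO.2.2 l hl, add_zero]
          · have := S.add_lt_add (u := (kk : ℕ)) (r := (r : ℕ)) (s := d) (v := (w : ℕ)) (r' := (s : ℕ)) kk.2 s.2
              hd3 h3 (by omega)
            omega
      · rw [show R.xe d (b / c) * h * (R.xe (r : ℕ) c * v) * (R.xe d (b / c) * h)⁻¹ =
          R.xe d (b / c) * (h * (R.xe (r : ℕ) c * v) * h⁻¹) * (R.xe d (b / c))⁻¹ by group, e]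
        calc R.xe d (b / c) * (R.xe (r : ℕ) c * (R.xe (kk : ℕ) b * y)) * (R.xe d (b / c))⁻¹
            = (R.xe d (b / c) * R.xe (r : ℕ) c * (R.xe d (b / c))⁻¹) *
                ((R.xe d (b / c) * R.xe (kk : ℕ) b) * y * (R.xe d (b / c))⁻¹) := by group
          _ = R.xe (r : ℕ) c * R.xe (kk : ℕ) b *
                ((R.xe (kk : ℕ) b * R.xe d (b / c)) * y * (R.xe d (b / c))⁻¹) := by
              rw [R.conj_of_term S r.2 hd hC hd5 hdi, mul_div_cancel₀ b hc, hck.eq]
          _ = R.xe (r : ℕ) c * (R.xe (kk : ℕ) b * R.xe (kk : ℕ) b) *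
                (R.xe d (b / c) * y * (R.xe d (b / c))⁻¹) := by group
          _ = _ := by rw [R.xe_add', CharTwo.add_self_eq_zero, R.xe_zero, mul_one]
    · refine ⟨h, hh, v', R.US_mono (T := killSet D X L r (k + 1)) (fun s hs => ⟨hs.1, ?_⟩) hv', e⟩
      rcases hs.2 with h' | h'
      · exact Or.inl h'
      · by_cases hsk : (s : ℕ) = k
        · refine Or.inl fun h1 => hmem ?_
          have : s = kk := Fin.ext (hsk.trans hkk.symm)
          subst this
          exact ⟨hs.1, h1⟩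
        · exact Or.inr (by omega)

omit [CharP F 2] in
theorem free_closed {L : List (Fin D.nroots)} {r : Fin D.nroots} (hrp : half D ≤ (r : ℕ)) (k : ℕ) :
    PosClosed D (freeSet D X L r k) := by
  refine R.closed_of_sum S (fun s hs => hs.1.1) fun a ha b hb u hu h1 h2 h3 => ?_
  have ha3 := S.inn_pos_cases r.2 hrp a.2 ha.1.1 (by have := ha.1.2.1; omega)
  have hb3 := S.inn_pos_cases r.2 hrp b.2 hb.1.1 (by have := hb.1.2.1; omega)
  have ha4 := ha.2.1
  have hb4 := hb.2.1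
  have e := S.inn_add (l := (r : ℕ)) h3
  refine ⟨⟨hu, by have := ha.1.2.1; omega, fun l hl => ?_⟩, by omega, ?_⟩
  · rw [S.inn_add h3, ha.1.2.2 l hl, hb.1.2.2 l hl, add_zero]
  · rcases ha.2.2 with ha2 | ha2
    swap
    · exact Or.inr (by omega)
    rcases hb.2.2 with hb2 | hb2
    swap
    · exact Or.inr (by omega)
    exact Or.inl (by omega)

/-- second step: in an involution the coordinates with inner product minus one vanish -/
theorem kill_negOne {L : List (Fin D.nroots)} {r : Fin D.nroots} (hr : r ∈ oS D X L (r : ℕ)) {c : F} (hc : c ≠ 0)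
    {v : G} (hv : v ∈ R.US (killSet D X L r D.nroots))
    (h2 : R.xe (r : ℕ) c * v * (R.xe (r : ℕ) c * v) = 1) :
    ∀ k, (r : ℕ) + 1 ≤ k → k ≤ D.nroots → v ∈ R.US (freeSet D X L r k) := by
  have hrp : half D ≤ (r : ℕ) := hr.1
  intro k hk
  induction k, hk using Nat.le_induction with
  | base =>
    intro _
    refine R.US_mono (T := freeSet D X L r ((r : ℕ) + 1)) (fun s hs => ⟨hs.1, ?_, Or.inr hs.1.2.1⟩) hv
    rcases hs.2 with h | h
    · exact h
    · exact absurd s.2 (by omega)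
  | succ k hk ih =>
    intro hkn
    have hv' := ih (by omega)
    obtain ⟨kk, hkk⟩ : ∃ kk : Fin D.nroots, (kk : ℕ) = k := ⟨⟨k, by omega⟩, rfl⟩
    obtain ⟨b, y, hy, hb0, hvy⟩ := R.split_at (R.free_closed S hrp k) kk hv'
    have hsub : freeSet D X L r k \ {kk} ⊆ freeSet D X L r (k + 1) := by
      rintro s ⟨hs, hne⟩
      refine ⟨hs.1, hs.2.1, hs.2.2.imp id fun h => ?_⟩
      have : (s : ℕ) ≠ k := fun e => hne (Fin.ext (e.trans hkk.symm))
      omega
    by_cases hb : b = 0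
    · rw [hvy, hb, R.xe_zero, one_mul]
      exact R.US_mono hsub hy
    have hkF : kk ∈ freeSet D X L r k := by_contra fun h => hb (hb0 h)
    have hkp : half D ≤ (kk : ℕ) := hkF.1.1
    by_cases hk0 : inn D X (r : ℕ) kk = 0
    · rw [hvy]
      exact mul_mem (R.xe_mem_US (S := freeSet D X L r (k + 1)) ⟨hkF.1, hkF.2.1, Or.inl hk0⟩ b) (R.US_mono hsub hy)
    exfalso
    have hkr : inn D X (kk : ℕ) r = -1 := by
      rw [S.inn_comm kk.2 r.2]
      rcases S.inn_pos_cases r.2 hrp kk.2 hkp (by omega) with h | h | h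
      · exact absurd h hk0
      · exact h
      · exact absurd h hkF.2.1
    obtain ⟨j, hj, hjp, hjk, hjr, hj3, C, hC, hj5⟩ := S.exists_sum kk.2 hkp r.2 hrp hkr
    obtain ⟨T, hT⟩ : ∃ T : Set (Fin D.nroots),
        T = freeSet D X L r (k + 1) ∪ {s | s ∈ oS D X L ((r : ℕ) + 1) ∧ j + 1 ≤ (s : ℕ)} := ⟨_, rfl⟩
    have hTc : PosClosed D T := by
      rw [hT]
      refine R.closed_of_sum S ?_ fun a ha b' hb' u hu h1 h2' h3 => ?_
      · rintro s (hs | hs) <;> exact hs.1.1
      · have hmem : ∀ s : Fin D.nroots, s ∈ freeSet D X L r (k + 1) ∪ {s | s ∈ oS D X L ((r : ℕ) + 1) ∧ j + 1 ≤ (s : ℕ)} →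
            s ∈ oS D X L ((r : ℕ) + 1) := by rintro s (hs | hs) <;> exact hs.1
        have huO : u ∈ oS D X L ((r : ℕ) + 1) := by
          refine ⟨hu, by have := (hmem a ha).2.1; omega, fun l hl => ?_⟩
          rw [S.inn_add h3, (hmem a ha).2.2 l hl, (hmem b' hb').2.2 l hl, add_zero]
        rcases ha with ha | ha
        swap
        · exact Or.inr ⟨huO, by have := ha.2; omega⟩
        rcases hb' with hb' | hb'
        swap
        · exact Or.inr ⟨huO, by have := hb'.2; omega⟩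
        refine Or.inl ?_
        have ha3 := S.inn_pos_cases r.2 hrp a.2 ha.1.1 (by have := ha.1.2.1; omega)
        have hb3 := S.inn_pos_cases r.2 hrp b'.2 hb'.1.1 (by have := hb'.1.2.1; omega)
        have ha4 := ha.2.1
        have hb4 := hb'.2.1
        have e := S.inn_add (l := (r : ℕ)) h3
        refine ⟨huO, by omega, ?_⟩
        rcases ha.2.2 with ha2 | ha2
        swap
        · exact Or.inr (by omega)
        rcases hb'.2.2 with hb2 | hb2
        swap
        · exact Or.inr (by omega)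
        exact Or.inl (by omega)
    have hjT : (⟨j, hj⟩ : Fin D.nroots) ∉ T := by
      rw [hT]
      rintro (h | h)
      · refine h.2.1 ?_
        show inn D X (r : ℕ) j = 1
        rw [S.inn_add hj3, S.inn_self r.2, S.inn_comm r.2 kk.2, hkr]; norm_num
      · have h' : j + 1 ≤ j := h.2
        omega
    have hsubT : freeSet D X L r (k + 1) ⊆ T := by rw [hT]; exact Set.subset_union_left
    have h1 : R.xe (kk : ℕ) b * y⁻¹ * (R.xe (kk : ℕ) b)⁻¹ ∈ R.US T := by
      refine R.conj_gen_mem S hkp (fun s hs => hs.1.1.1) (hsub.trans hsubT) (fun s hs _ w hw h1 h2' h3 => hsubT ?_)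
        b (inv_mem hy)
      have hw' := (R.free_closed S hrp k).2 s hs.1 kk hkF
      have hi : inn D X (s : ℕ) kk = -1 := by assumption
      obtain ⟨w', hw1, -, -, -, hw3, C', -, hw5⟩ := S.exists_sum s.2 hs.1.1.1 kk.2 hkp hi
      have hww : w' = (w : ℕ) := by
        have e1 := S.key_add hw3
        have e2 := S.key_add h3
        rcases lt_trichotomy w' (w : ℕ) with h | h | h
        · exact absurd (S.key_lt h w.2) (by omega)
        · exact h
        · exact absurd (S.key_lt h hw1) (by omega)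
      subst hww
      have hwF := hw' _ (by rw [hw5]; exact List.mem_singleton_self _) hw1
      exact ⟨hwF.1, hwF.2.1, hwF.2.2.imp id fun h => by omega⟩
    have h3 : R.xe (r : ℕ) c * y * (R.xe (r : ℕ) c)⁻¹ ∈ R.US T := by
      refine R.conj_gen_mem S hrp (fun s hs => hs.1.1.1) (hsub.trans hsubT) (fun s hs hi w hw h1' h2' h3' => ?_) c hy
      rw [hT]
      refine Or.inr ⟨⟨hw, by omega, fun l hl => ?_⟩, ?_⟩
      · rw [S.inn_add h3', hs.1.1.2.2 l hl, hr.2.2 l hl, add_zero]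
      · have hs' := hsub hs
        have hsr : inn D X (r : ℕ) s ≠ 0 := by rw [S.inn_comm r.2 s.2, hi]; norm_num
        have := S.add_lt_add (u := j) (r := (kk : ℕ)) (s := (r : ℕ)) (v := (w : ℕ)) (r' := (s : ℕ)) hj s.2 hj3 h3'
          (by have := hs'.2.2.resolve_left hsr; omega)
        omega
    have hstep := R.conj_of_term S kk.2 r.2 hC hj5 hkr b c
    have hxj : R.xe j (b * c) = R.xe (kk : ℕ) b * y⁻¹ * (R.xe (kk : ℕ) b)⁻¹ *
        (R.xe (r : ℕ) c * y * (R.xe (r : ℕ) c)⁻¹)⁻¹ := by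
      rw [hvy] at h2
      rw [R.xe_inv] at hstep ⊢
      rw [R.xe_inv]
      have e3 : R.xe (r : ℕ) c * (R.xe (kk : ℕ) b * y) * R.xe (r : ℕ) c = (R.xe (kk : ℕ) b * y)⁻¹ :=
        eq_inv_of_mul_eq_one_left (by rw [← h2]; group)
      have e4 : R.xe (r : ℕ) c * R.xe (r : ℕ) c = 1 := by
        rw [R.xe_add', CharTwo.add_self_eq_zero, R.xe_zero]
      have e5 : R.xe (r : ℕ) c * R.xe (kk : ℕ) b * R.xe (r : ℕ) c * (R.xe (r : ℕ) c * y * R.xe (r : ℕ) c) =
          (R.xe (kk : ℕ) b * y)⁻¹ := by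
        rw [← e3]
        calc _ = R.xe (r : ℕ) c * R.xe (kk : ℕ) b * (R.xe (r : ℕ) c * R.xe (r : ℕ) c) * y * R.xe (r : ℕ) c := by group
          _ = _ := by rw [e4]; group
      rw [hstep, mul_inv_rev, R.xe_inv, mul_assoc (R.xe (kk : ℕ) b), ← eq_inv_mul_iff_mul_eq, R.xe_inv] at e5
      rw [eq_mul_inv_iff_mul_eq, e5]
      group
    have h4 : R.xe j (b * c) ∈ R.US T := by
      rw [hxj]; exact mul_mem h1 (inv_mem h3)
    exact mul_ne_zero hb hc (R.eq_zero_of_mem_closed hTc (j := ⟨j, hj⟩) hjp hjT h4)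

theorem prod_orth_sq {T : List (Fin D.nroots × F)} (hT : T.Pairwise fun p q => inn D X (p.1 : ℕ) q.1 = 0) :
    (T.map fun p => R.xe (p.1 : ℕ) p.2).prod * (T.map fun p => R.xe (p.1 : ℕ) p.2).prod = 1 := by
  induction T with
  | nil => simp
  | cons p T ih =>
    obtain ⟨h1, h2⟩ := List.pairwise_cons.1 hT
    have hc : Commute (R.xe (p.1 : ℕ) p.2) (T.map fun p => R.xe (p.1 : ℕ) p.2).prod :=
      Commute.list_prod_right _ _ fun x hx => by
        obtain ⟨q, hq, rfl⟩ := List.mem_map.1 hx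
        exact R.commute_of_orth S p.1.2 q.1.2 (h1 q hq) _ _
    rw [List.map_cons, List.prod_cons, mul_assoc, ← mul_assoc _ (R.xe (p.1 : ℕ) p.2), ← hc.eq, mul_assoc, ← mul_assoc,
      R.xe_add', CharTwo.add_self_eq_zero, R.xe_zero, one_mul, ih h2]

/-- **reduction to orthogonal roots** -/
theorem exists_orth_form : ∀ (n lo : ℕ) (L : List (Fin D.nroots)) (a : G), D.nroots ≤ lo + n → half D ≤ lo →
    a ∈ R.US (oS D X L lo) → a * a = 1 →
    ∃ h ∈ R.US (oS D X L (half D)), ∃ T : List (Fin D.nroots × F),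
      (∀ p ∈ T, p.1 ∈ oS D X L lo ∧ p.2 ≠ 0) ∧ T.Pairwise (fun p q => inn D X (p.1 : ℕ) q.1 = 0) ∧
      h * a * h⁻¹ = (T.map fun p => R.xe (p.1 : ℕ) p.2).prod := by
  intro n
  induction n with
  | zero =>
    intro lo L a hn hlo ha _
    refine ⟨1, one_mem _, [], by simp, List.Pairwise.nil, ?_⟩
    have := R.US_mono (T := geSet D lo) (fun s hs => hs.2.1) ha
    rw [R.US_geSet_eq_bot (by omega), Subgroup.mem_bot] at this
    simp [this]
  | succ n ih =>
    intro lo L a hn hlo ha h2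
    by_cases hlt : lo < D.nroots
    swap
    · exact ih lo L a (by omega) hlo ha h2
    obtain ⟨r, rfl⟩ : ∃ r : Fin D.nroots, (r : ℕ) = lo := ⟨⟨lo, hlt⟩, rfl⟩
    obtain ⟨c, y, hy, hc0, rfl⟩ := R.split_at (R.oS_closed S L r) r ha
    have hy' : y ∈ R.US (oS D X L ((r : ℕ) + 1)) := by
      refine R.US_mono (T := oS D X L ((r : ℕ) + 1)) (fun s hs => ⟨hs.1.1, ?_, hs.1.2.2⟩) hy
      have h1 : (r : ℕ) ≤ (s : ℕ) := hs.1.2.1
      have h3 : (s : ℕ) ≠ r := fun e => hs.2 (Fin.ext e)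
      omega
    by_cases hc : c = 0
    · subst hc
      rw [R.xe_zero, one_mul] at h2 ⊢
      obtain ⟨h, hh, T, hT1, hT2, e⟩ := ih ((r : ℕ) + 1) L y (by omega) (by omega) hy' h2
      exact ⟨h, hh, T, fun p hp => ⟨⟨(hT1 p hp).1.1, by have := (hT1 p hp).1.2.1; omega, (hT1 p hp).1.2.2⟩, (hT1 p hp).2⟩, hT2, e⟩
    have hr : r ∈ oS D X L (r : ℕ) := by_contra fun h => hc (hc0 h)
    obtain ⟨h1, hh1, v, hv, e1⟩ := R.kill_one S hr hc hy' D.nroots (by omega) le_rfl
    have h2' : R.xe (r : ℕ) c * v * (R.xe (r : ℕ) c * v) = 1 := by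
      rw [← e1]
      calc _ = h1 * (R.xe (r : ℕ) c * y * (R.xe (r : ℕ) c * y)) * h1⁻¹ := by group
        _ = 1 := by rw [h2]; group
    have hvf := R.kill_negOne S hr hc hv h2' D.nroots (by omega) le_rfl
    have hvz : v ∈ R.US (oS D X (r :: L) ((r : ℕ) + 1)) := by
      refine R.US_mono (T := oS D X (r :: L) ((r : ℕ) + 1)) (fun s hs => ⟨hs.1.1, hs.1.2.1, fun l hl => ?_⟩) hvf
      rcases List.mem_cons.1 hl with rfl | hl
      · exact hs.2.2.resolve_right (by omega)
      · exact hs.1.2.2 l hl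
    have hcom : ∀ {lo' : ℕ} {g : G}, g ∈ R.US (oS D X (r :: L) lo') → Commute g (R.xe (r : ℕ) c) := by
      intro lo' g hg
      refine closure_induction_symm R.gens_symm ?_ ?_ hg
      · exact Commute.one_left _
      · rintro x ⟨s, hs, t, rfl⟩ z hz
        refine Commute.mul_left ?_ hz
        exact (R.commute_of_orth S r.2 s.2 (hs.2.2 r List.mem_cons_self) c t).symm
    have hv2 : v * v = 1 := by
      have hcv := hcom hvz
      rw [← h2', show R.xe (r : ℕ) c * v * (R.xe (r : ℕ) c * v) = R.xe (r : ℕ) c * (v * R.xe (r : ℕ) c) * v by group,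
        hcv.eq, ← mul_assoc, R.xe_add', CharTwo.add_self_eq_zero, R.xe_zero, one_mul]
    obtain ⟨h3, hh3, T, hT1, hT2, e3⟩ := ih ((r : ℕ) + 1) (r :: L) v (by omega) (by omega) hvz hv2
    refine ⟨h3 * h1, mul_mem (R.US_mono (T := oS D X L (half D)) (fun s hs => ⟨hs.1, hs.2.1, fun l hl => hs.2.2 l (List.mem_cons_of_mem _ hl)⟩) hh3)
      hh1, (r, c) :: T, ?_, ?_, ?_⟩
    · intro p hp
      rcases List.mem_cons.1 hp with rfl | hp
      · exact ⟨hr, hc⟩
      · exact ⟨⟨(hT1 p hp).1.1, by have := (hT1 p hp).1.2.1; omega,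
          fun l hl => (hT1 p hp).1.2.2 l (List.mem_cons_of_mem _ hl)⟩, (hT1 p hp).2⟩
    · exact List.pairwise_cons.2 ⟨fun q hq => (hT1 q hq).1.2.2 r List.mem_cons_self, hT2⟩
    · rw [List.map_cons, List.prod_cons, ← e3]
      have hc3 := hcom hh3
      calc h3 * h1 * (R.xe (r : ℕ) c * y) * (h3 * h1)⁻¹ = h3 * (h1 * (R.xe (r : ℕ) c * y) * h1⁻¹) * h3⁻¹ := by group
        _ = h3 * R.xe (r : ℕ) c * v * h3⁻¹ := by rw [e1]; group
        _ = _ := by rw [hc3.eq]; group

end Rel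

end CfsgLib.Lie.Chev
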