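/-
Products over pairwise orthogonal roots up to conjugation.
-/
import Cfsg.Agent.Lib.Lie.CharTwoInv.Reduce
import Cfsg.Agent.Lib.Lie.TwoGen.Main
import Cfsg.Agent.Lib.Lie.Rel.Sylow
import Cfsg.Agent.Lib.Techniques.Basic

set_option autoImplicit false

namespace CfsgLib.Lie.Chev

open Cfsg.Lie (ChevalleyDatum)
open TwoGen (wp)

namespace Inv2

/-- certificate for the classification of orthogonal sets of roots -/
structure ClassData where
  /-- representatives -/
  reps : List (List ℕ)
  /-- a quadruple whose product is conjugate to that of its last three roots -/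
  q0 : List ℕ
  /-- the conjugating roots of that relation -/
  qs : List ℕ
  /-- per representative: (root, word, image) -/
  tab : List (List ℕ × List (ℕ × List ℕ × List ℕ))

variable (D : ChevalleyDatum) (X : Aux)

/-- mutual orthogonality -/
def Orth (r s : ℕ) : Prop := inn D X r s = 0 ∧ inn D X s r = 0

theorem orth_symm {r s : ℕ} (h : Orth D X r s) : Orth D X s r := ⟨h.2, h.1⟩

/-- a list of pairwise orthogonal roots -/
def OrthL (T : List ℕ) : Prop := (∀ r ∈ T, r < D.nroots) ∧ T.Pairwise (Orth D X)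

/-- the table covers all one-root extensions of the representatives -/
def chkTab (d : ClassData) : Bool :=
  d.reps.any (fun T => T.isEmpty) && d.reps.all fun T =>
    decide (T.all fun r => Nat.blt r D.nroots) && d.tab.any fun b =>
      decide (b.1 = T) && (List.range D.nroots).all fun j =>
        T.any (fun r => !decide (inn D X j r = 0)) || b.2.any fun e =>
          Nat.beq e.1 j && e.2.1.all (fun i => Nat.blt i D.rank) &&
            decide (((j :: T).map (wp X e.2.1)).Perm e.2.2) &&
            (decide (e.2.2 ∈ d.reps) || decide (e.2.2.take 4 = d.q0))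

/-- one rewriting step towards increasing order -/
def collectStep (D : ChevalleyDatum) : List ℕ → List ℕ
  | p :: q :: L =>
    bif Nat.blt p D.nroots && Nat.blt q D.nroots && Nat.beq p q then L
    else bif Nat.blt p D.nroots && Nat.blt q D.nroots && Nat.blt q p && !Nat.beq p (D.neg q) then
      (match D.chainRoot q p 1 with
        | none => q :: p :: L
        | some u => q :: p :: u :: L)
    else p :: collectStep D (q :: L)
  | L => L

/-- iterated rewriting -/
def collect (D : ChevalleyDatum) : ℕ → List ℕ → List ℕ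
  | 0, L => L
  | n + 1, L => collect D n (collectStep D L)

/-- the relation of the quadruple -/
def chkQuad (d : ClassData) : Bool :=
  decide (d.q0.length = 4) && d.q0.all (fun r => Nat.blt r D.nroots) &&
  d.qs.all (fun s => Nat.blt s D.nroots && (List.range D.nroots).all fun p =>
    d.q0.any (fun q => !decide (inn D X p q = 0)) || decide (inn D X p s = 0)) &&
  decide (collect D 100 (d.qs.reverse ++ d.q0.tail ++ d.qs) = collect D 100 d.q0)

end Inv2

open Inv2

namespace Rel

variable {D : ChevalleyDatum} {X : Aux} {F : Type*} [Field F] {G : Type*} [Group G] (R : Rel D X F G)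
include R

/-- the product of the `x_r(1)` -/
def prodOne (T : List ℕ) : G := (T.map fun r => R.xe r 1).prod

theorem prodOne_cons (r : ℕ) (T : List ℕ) : R.prodOne (r :: T) = R.xe r 1 * R.prodOne T := by simp [prodOne]

theorem prodOne_append (T T' : List ℕ) : R.prodOne (T ++ T') = R.prodOne T * R.prodOne T' := by simp [prodOne]

theorem prodOne_nil : R.prodOne [] = 1 := by simp [prodOne]

/-- the torus element of a tuple acts by characters -/
theorem torusHom_conj_inn (c : Fin D.rank → Fˣ) (r : Fin D.nroots) (t : F) :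
    ((R.torusHom c : R.HS) : G) * R.xe r t * ((R.torusHom c : R.HS) : G)⁻¹ =
      R.xe r (((∏ i : Fin D.rank, c i ^ D.cartan i r : Fˣ) : F) * t) := by
  classical
  let P : Submonoid (Fin D.rank → Fˣ) :=
    { carrier := {c | ∀ t : F, ((R.torusHom c : R.HS) : G) * R.xe r t * ((R.torusHom c : R.HS) : G)⁻¹ =
        R.xe r (((∏ i : Fin D.rank, c i ^ D.cartan i r : Fˣ) : F) * t)}
      one_mem' := fun t => by simp
      mul_mem' := fun {a b} ha hb t => by
        rw [map_mul, Subgroup.coe_mul,
          show ∀ x y z : G, x * y * z * (x * y)⁻¹ = x * (y * z * y⁻¹) * x⁻¹ from fun x y z => by group,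
          hb, ha, ← mul_assoc, ← Units.val_mul, ← Finset.prod_mul_distrib]
        simp only [Pi.mul_apply, mul_zpow] }
  suffices key : ∀ i u, Pi.mulSingle i u ∈ P by
    have : ∏ i, Pi.mulSingle i (c i) ∈ P := P.prod_mem fun i _ => key i (c i)
    rw [Finset.univ_prod_mulSingle] at this
    exact this t
  intro i u t
  rw [R.torusHom_single]
  have h := (R.isMon_he_simple i u.ne_zero r).2.2.2 t
  rw [Equiv.Perm.one_apply] at h
  rw [Finset.prod_eq_single i (fun j _ hj => by rw [Pi.mulSingle_eq_of_ne hj, one_zpow]) (by simp),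
    Pi.mulSingle_eq_same, Units.val_zpow_eq_zpow_val]
  exact h

variable [CharP F 2]

theorem prodOne_reverse (T : List ℕ) : R.prodOne T.reverse = (R.prodOne T)⁻¹ := by
  induction T with
  | nil => simp [prodOne]
  | cons r T ih => rw [List.reverse_cons, R.prodOne_append, R.prodOne_cons, R.prodOne_cons, R.prodOne_nil, mul_one,
      ih, mul_inv_rev, R.xe_inv]

variable (S : SL D X)
include S

theorem collectStep_prod : ∀ L : List ℕ, R.prodOne (collectStep D L) = R.prodOne L
  | [] => rfl
  | [_] => rfl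
  | p :: q :: L => by
    rw [collectStep]
    cases h1 : (Nat.blt p D.nroots && Nat.blt q D.nroots && Nat.beq p q) with
    | true =>
      simp only [Bool.and_eq_true, nat_beq_iff] at h1
      rw [cond_true, R.prodOne_cons, R.prodOne_cons, h1.2, ← mul_assoc, R.xe_add', CharTwo.add_self_eq_zero,
        R.xe_zero, one_mul]
    | false =>
      rw [cond_false]
      cases h2 : (Nat.blt p D.nroots && Nat.blt q D.nroots && Nat.blt q p && !Nat.beq p (D.neg q)) with
      | false => rw [cond_false, R.prodOne_cons, collectStep_prod (q :: L), ← R.prodOne_cons]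
      | true =>
        simp only [Bool.and_eq_true, nat_blt_iff, Bool.not_eq_true'] at h2
        obtain ⟨⟨⟨hp, hq⟩, hqp⟩, hn⟩ := h2
        have hne : p ≠ D.neg q := fun e => by rw [nat_beq_iff.2 e] at hn; cases hn
        have h := R.xe_comm q p 1 1 hq hp (by omega) hne
        rw [ChevalleyDatum.commWord, S.commTerms_eq hq hp] at h
        rw [cond_true]
        cases hc : D.chainRoot q p 1 with
        | none =>
          rw [hc] at h
          simp at h
          simp only [R.prodOne_cons, ← mul_assoc, h]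
        | some u =>
          rw [hc] at h
          simp [cast_of_odd (S.chainRoot_some hq hc).2, CharTwo.neg_eq] at h
          simp only [R.prodOne_cons, ← mul_assoc, h]

theorem collect_prod : ∀ n L, R.prodOne (collect D n L) = R.prodOne L
  | 0, _ => rfl
  | n + 1, L => (collect_prod n (collectStep D L)).trans (R.collectStep_prod S L)

theorem prodOne_perm {T T' : List ℕ} (hT : OrthL D X T) (h : T.Perm T') : R.prodOne T = R.prodOne T' := by
  refine (h.map _).prod_eq' ?_
  refine List.pairwise_map.2 ((hT.2.imp_of_mem fun {a b} ha hb hab => ?_))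
  exact R.commute_of_orth S (hT.1 a ha) (hT.1 b hb) hab.1 1 1

omit [CharP F 2] in
theorem orthL_perm {T T' : List ℕ} (hT : OrthL D X T) (h : T.Perm T') : OrthL D X T' :=
  ⟨fun r hr => hT.1 r (h.mem_iff.2 hr), (h.pairwise_iff fun hab => orth_symm D X hab).1 hT.2⟩

omit [CharP F 2] in
theorem orthL_map {T : List ℕ} (hT : OrthL D X T) {w : List ℕ} (hw : ∀ i ∈ w, i < D.rank) :
    OrthL D X (T.map (wp X w)) := by
  refine ⟨fun r hr => ?_, ?_⟩
  · obtain ⟨s, hs, rfl⟩ := List.mem_map.1 hr; exact R.wp_lt hw (hT.1 s hs)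
  · have key : ∀ r s, r < D.nroots → s < D.nroots → inn D X (wp X w r) (wp X w s) = inn D X r s := by
      intro r s hr hs
      induction w with
      | nil => rfl
      | cons i L ih =>
        have hL : ∀ j ∈ L, j < D.rank := fun j hj => hw j (by simp [hj])
        exact (S.inn_w (hw i (by simp)) (R.wp_lt hL hr) (R.wp_lt hL hs)).trans (ih hL)
    exact List.pairwise_map.2 (hT.2.imp_of_mem fun {a b} ha hb hab =>
      ⟨by rw [key a b (hT.1 a ha) (hT.1 b hb)]; exact hab.1, by rw [key b a (hT.1 b hb) (hT.1 a ha)]; exact hab.2⟩)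

omit S in
theorem prodOne_conj_word {T : List ℕ} (hT : ∀ r ∈ T, r < D.nroots) {w : List ℕ} (hw : ∀ i ∈ w, i < D.rank) :
    R.nWord w * R.prodOne T * (R.nWord w)⁻¹ = R.prodOne (T.map (wp X w)) := by
  induction T with
  | nil => simp [prodOne]
  | cons r T ih =>
    obtain ⟨e, he, h⟩ := R.nWord_conj hw (hT r (by simp))
    have he1 : e = 1 := by rcases he with h | h <;> simp [h, CharTwo.neg_eq]
    rw [List.map_cons, R.prodOne_cons, R.prodOne_cons, ← conj_mul, ih fun s hs => hT s (by simp [hs]), h 1, he1,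
      one_mul]

variable {d : ClassData}

/-- every orthogonal list is carried to a representative or to a list through the quadruple -/
theorem exists_orth_word (hd : chkTab D X d = true) : ∀ T : List ℕ, OrthL D X T →
    ∃ w : List ℕ, (∀ i ∈ w, i < D.rank) ∧
      ∃ T', (T.map (wp X w)).Perm T' ∧ (T' ∈ d.reps ∨ ∃ rest, T' = d.q0 ++ rest) := by
  have hd' := hd
  simp only [chkTab, Bool.and_eq_true, List.all_eq_true, List.any_eq_true, decide_eq_true_iff, List.mem_range,
    Bool.or_eq_true, nat_beq_iff, nat_blt_iff, Bool.not_eq_true', decide_eq_false_iff_not, List.isEmpty_iff] at hd'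
  obtain ⟨⟨E, hE, rfl⟩, htab⟩ := hd'
  intro T
  induction T with
  | nil => exact fun _ => ⟨[], by simp, [], List.Perm.refl _, Or.inl hE⟩
  | cons j T ih =>
    intro hT
    obtain ⟨hj, hT'⟩ := List.pairwise_cons.1 hT.2
    obtain ⟨w, hw, T1, hp, h1⟩ := ih ⟨fun r hr => hT.1 r (by simp [hr]), hT'⟩
    rcases h1 with h1 | ⟨rest, rfl⟩
    swap
    · refine ⟨w, hw, d.q0 ++ wp X w j :: rest, ?_, Or.inr ⟨_, rfl⟩⟩
      exact ((hp.cons _).trans List.perm_middle.symm)
    obtain ⟨hlt, b, -, hb1, hb⟩ := htab T1 h1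
    subst hb1
    have hO := R.orthL_map S hT hw
    obtain ⟨ho1, -⟩ := List.pairwise_cons.1 hO.2
    rcases hb (wp X w j) (hO.1 _ (by simp)) with ⟨r, hr, hne⟩ | ⟨e, -, ⟨⟨hej, hw2⟩, hperm⟩, htgt⟩
    · exact absurd (ho1 r (hp.mem_iff.2 hr)).1 hne
    refine ⟨e.2.1 ++ w, fun i hi => (List.mem_append.1 hi).elim (hw2 i) (hw i), e.2.2, ?_, ?_⟩
    · have hwp : ∀ r, wp X (e.2.1 ++ w) r = wp X e.2.1 (wp X w r) := fun r => by simp [wp, List.foldr_append]
      rw [show wp X (e.2.1 ++ w) = wp X e.2.1 ∘ wp X w from funext hwp, ← List.map_map, List.map_cons]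
      exact ((hp.cons _).map _).trans hperm
    · rcases htgt with h | h
      · exact Or.inl h
      · exact Or.inr ⟨e.2.2.drop 4, by rw [← h, List.take_append_drop]⟩

theorem quad_rel (hd : chkQuad D X d = true) (rest : List ℕ) (h : OrthL D X (d.q0 ++ rest)) :
    IsConj (R.prodOne (d.q0 ++ rest)) (R.prodOne (d.q0.tail ++ rest)) := by
  simp only [chkQuad, Bool.and_eq_true, List.all_eq_true, List.any_eq_true, decide_eq_true_iff, List.mem_range,
    Bool.or_eq_true, nat_blt_iff, Bool.not_eq_true', decide_eq_false_iff_not] at hd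
  obtain ⟨⟨⟨-, hq⟩, hs⟩, hc⟩ := hd
  have e : R.prodOne (d.qs.reverse ++ d.q0.tail ++ d.qs) = R.prodOne d.q0 := by
    rw [← R.collect_prod S 100 (d.qs.reverse ++ _ ++ _), hc, R.collect_prod S]
  rw [R.prodOne_append, R.prodOne_append, R.prodOne_reverse] at e
  have hcom : Commute (R.prodOne d.qs) (R.prodOne rest) := by
    refine (Commute.list_prod_left _ _ fun x hx => Commute.list_prod_right _ _ fun y hy => ?_)
    obtain ⟨s, hs', rfl⟩ := List.mem_map.1 hx
    obtain ⟨p, hp, rfl⟩ := List.mem_map.1 hy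
    have hp' := h.1 p (List.mem_append.2 (Or.inr hp))
    refine (R.commute_of_orth S hp' (hs s hs').1 ?_ 1 1).symm
    rcases (hs s hs').2 p hp' with ⟨q, hq', hne⟩ | h0
    · exact absurd ((List.pairwise_append.1 h.2).2.2 q hq' p hp).2 hne
    · exact h0
  refine isConj_iff.2 ⟨R.prodOne d.qs, ?_⟩
  rw [R.prodOne_append, ← e, R.prodOne_append]
  calc R.prodOne d.qs * ((R.prodOne d.qs)⁻¹ * R.prodOne d.q0.tail * R.prodOne d.qs * R.prodOne rest) *
      (R.prodOne d.qs)⁻¹ = R.prodOne d.q0.tail * (R.prodOne d.qs * R.prodOne rest) * (R.prodOne d.qs)⁻¹ := by group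
    _ = _ := by rw [hcom.eq]; group

theorem exists_orth_rep (hd : chkTab D X d = true) (hq : chkQuad D X d = true) : ∀ (n : ℕ) (T : List ℕ), T.length ≤ n →
    OrthL D X T → ∃ T' ∈ d.reps, IsConj (R.prodOne T) (R.prodOne T') := by
  intro n
  induction n with
  | zero =>
    intro T hT _
    obtain rfl := List.length_eq_zero_iff.1 (Nat.le_zero.1 hT)
    simp only [chkTab, Bool.and_eq_true, List.any_eq_true, List.isEmpty_iff] at hd
    obtain ⟨⟨E, hE, rfl⟩, -⟩ := hd
    exact ⟨[], hE, IsConj.refl _⟩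
  | succ n ih =>
    intro T hlen hT
    obtain ⟨w, hw, T', hp, h1⟩ := R.exists_orth_word S hd T hT
    have hO := R.orthL_map S hT hw
    have hc : IsConj (R.prodOne T) (R.prodOne T') := isConj_iff.2 ⟨R.nWord w, by
      rw [R.prodOne_conj_word hT.1 hw, R.prodOne_perm S hO hp]⟩
    rcases h1 with h1 | ⟨rest, rfl⟩
    · exact ⟨T', h1, hc⟩
    have hO' := R.orthL_perm S hO hp
    have hl : (d.q0.tail ++ rest).length ≤ n := by
      have h4 : d.q0.length = 4 := by
        simp only [chkQuad, Bool.and_eq_true, decide_eq_true_iff] at hq; exact hq.1.1.1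
      have := hp.length_eq
      simp only [List.length_map, List.length_append, List.length_tail] at this ⊢
      omega
    have hO'' : OrthL D X (d.q0.tail ++ rest) := by
      have hsub : List.Sublist (d.q0.tail ++ rest) (d.q0 ++ rest) := d.q0.tail_sublist.append (List.Sublist.refl _)
      exact ⟨fun r hr => hO'.1 r (hsub.subset hr), hO'.2.sublist hsub⟩
    obtain ⟨T'', h2, hc2⟩ := ih _ hl hO''
    exact ⟨T'', h2, (hc.trans (R.quad_rel S hq rest hO')).trans hc2⟩

/-- the scalars of a product over orthogonal roots can be removed by the torus -/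
theorem exists_scale (hperf : ∀ x : F, IsSquare x) : ∀ T : List (Fin D.nroots × F), (∀ p ∈ T, p.2 ≠ 0) →
    T.Pairwise (fun p q => inn D X (p.1 : ℕ) q.1 = 0) →
    ∃ h : G, (∀ p ∈ T, h * R.xe (p.1 : ℕ) p.2 * h⁻¹ = R.xe (p.1 : ℕ) 1) ∧
      ∀ r : Fin D.nroots, (∀ p ∈ T, inn D X (p.1 : ℕ) r = 0) → ∀ t, h * R.xe (r : ℕ) t * h⁻¹ = R.xe (r : ℕ) t := by
  intro T
  induction T with
  | nil => exact fun _ _ => ⟨1, by simp, fun r _ t => by simp⟩
  | cons p T ih =>
    intro h0 hT
    obtain ⟨h1, h2⟩ := List.pairwise_cons.1 hT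
    obtain ⟨h, hA, hB⟩ := ih (fun q hq => h0 q (by simp [hq])) h2
    obtain ⟨v, hv⟩ := hperf p.2⁻¹
    have hv0 : v ≠ 0 := fun e => inv_ne_zero (h0 p (by simp)) (by rw [hv, e, mul_zero])
    let k : G := ((R.torusHom (fun i => Units.mk0 v hv0 ^ X.cor i (p.1 : ℕ)) : R.HS) : G)
    have hk : ∀ r : Fin D.nroots, ∀ t, k * R.xe (r : ℕ) t * k⁻¹ = R.xe (r : ℕ) (v ^ inn D X (p.1 : ℕ) r * t) := by
      intro r t
      refine (R.torusHom_conj_inn _ r t).trans (congrArg _ (congrArg (· * t) ?_))
      rw [S.inn_comm p.1.2 r.2, inn_eq, Units.coe_prod, ← Fin.sum_univ_eq_sum_range (fun j => X.coef j (p.1 : ℕ) * D.cartan j (r : ℕ))]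
      simp only [← zpow_mul, Units.val_zpow_eq_zpow_val, Units.val_mk0, S.cor_eq p.1.2 (Fin.is_lt _)]
      generalize hs : (Finset.univ : Finset (Fin D.rank)) = s
      clear hs
      classical
      induction s using Finset.induction_on with
      | empty => simp
      | insert a s ha ih2 => rw [Finset.prod_insert ha, Finset.sum_insert ha, ih2, zpow_add₀ hv0]
    refine ⟨k * h, ?_, ?_⟩
    · intro q hq
      rw [show k * h * R.xe (q.1 : ℕ) q.2 * (k * h)⁻¹ = k * (h * R.xe (q.1 : ℕ) q.2 * h⁻¹) * k⁻¹ by group]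
      rcases List.mem_cons.1 hq with rfl | hq
      · rw [hB q.1 (fun x hx => by rw [S.inn_comm x.1.2 q.1.2]; exact h1 x hx), hk, S.inn_self q.1.2]
        congr 1
        rw [show (2 : ℤ) = ((2 : ℕ) : ℤ) from rfl, zpow_natCast, sq, ← hv, inv_mul_cancel₀ (h0 q (by simp))]
      · rw [hA q hq, hk, h1 q hq, zpow_zero, one_mul]
    · intro r hr t
      rw [show k * h * R.xe (r : ℕ) t * (k * h)⁻¹ = k * (h * R.xe (r : ℕ) t * h⁻¹) * k⁻¹ by group,
        hB r (fun x hx => hr x (by simp [hx])), hk, hr p (by simp), zpow_zero, one_mul]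

omit S [CharP F 2] in
theorem conj_list_prod (h : G) : ∀ T : List (Fin D.nroots × F),
    (∀ p ∈ T, h * R.xe (p.1 : ℕ) p.2 * h⁻¹ = R.xe (p.1 : ℕ) 1) →
    h * (T.map fun p => R.xe (p.1 : ℕ) p.2).prod * h⁻¹ = R.prodOne (T.map fun p => (p.1 : ℕ))
  | [], _ => by simp [prodOne]
  | p :: T, hT => by
    rw [List.map_cons, List.prod_cons, List.map_cons, R.prodOne_cons, ← conj_mul, hT p (by simp),
      conj_list_prod h T fun q hq => hT q (by simp [hq])]

/-- every involution of `U` is conjugate to a representative -/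
theorem exists_rep_of_UP (hd : chkTab D X d = true) (hq : chkQuad D X d = true) (hperf : ∀ x : F, IsSquare x)
    {a : G} (ha : a ∈ R.UP) (h2 : a * a = 1) : ∃ T' ∈ d.reps, IsConj a (R.prodOne T') := by
  have ha' : a ∈ R.US (oS D X [] (half D)) :=
    R.US_mono (S := posSet D) (T := oS D X [] (half D)) (fun s hs => ⟨hs, hs, by simp⟩) ha
  obtain ⟨h, -, T, hT1, hT2, e⟩ := R.exists_orth_form S D.nroots (half D) [] a (by omega) le_rfl ha' h2
  obtain ⟨k, hk, -⟩ := R.exists_scale S hperf T (fun p hp => (hT1 p hp).2) hT2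
  have hc : IsConj a (R.prodOne (T.map fun p => (p.1 : ℕ))) := isConj_iff.2 ⟨k * h, by
    rw [show k * h * a * (k * h)⁻¹ = k * (h * a * h⁻¹) * k⁻¹ by group, e, R.conj_list_prod k T hk]⟩
  obtain ⟨T', h1, hc'⟩ := R.exists_orth_rep S hd hq _ (T.map fun p => (p.1 : ℕ)) le_rfl ⟨fun r hr => by
      obtain ⟨p, -, rfl⟩ := List.mem_map.1 hr; exact p.1.2,
    List.pairwise_map.2 (hT2.imp fun {p q} hpq => ⟨hpq, by rw [S.inn_comm q.1.2 p.1.2]; exact hpq⟩)⟩
  exact ⟨T', h1, hc.trans hc'⟩

theorem prodOne_sq {T : List ℕ} (hT : OrthL D X T) : R.prodOne T * R.prodOne T = 1 := by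
  calc R.prodOne T * R.prodOne T = R.prodOne T.reverse * R.prodOne T := by
        rw [← R.prodOne_perm S hT (List.reverse_perm T).symm]
    _ = 1 := by rw [R.prodOne_reverse, inv_mul_cancel]

end Rel

/-- every involution of the group is conjugate to a representative -/
theorem exists_rep_group {D : ChevalleyDatum} {X : Aux} (S : SL D X) (F : Type*) [Field F] [Fintype F] [CharP F 2]
    {d : ClassData} (hd : chkTab D X d = true) (hq : chkQuad D X d = true) {g : ↥(D.group F)} (hg : orderOf g = 2) :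
    ∃ T ∈ d.reps, IsConj g ((chevRel S.cert F).prodOne T) := by
  have : Finite ↥(D.group F) := (chevRel S.cert F).Finite_of_field
  have hperf : ∀ x : F, IsSquare x := FiniteField.isSquare_of_char_two (ringChar.eq F 2)
  obtain ⟨P, hP⟩ := pos_unipotent_sylow S.cert F 2
  rw [posUnipotent_eq S.cert F, subgroupOf_map S.cert F] at hP
  have hpg : IsPGroup 2 ↥(Subgroup.zpowers g) := IsPGroup.of_card (n := 1) (by rw [Nat.card_zpowers, hg, pow_one])
  obtain ⟨k, hk⟩ := CfsgLib.Techniques.exists_conj_mem_sylow P hpg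
  have hkU := hk g (Subgroup.mem_zpowers g)
  rw [hP] at hkU
  obtain ⟨T, hT, hc⟩ := (chevRel S.cert F).exists_rep_of_UP S hd hq hperf hkU (by
    rw [show k * g * k⁻¹ * (k * g * k⁻¹) = k * (g ^ 2) * k⁻¹ by rw [sq]; group, ← hg, pow_orderOf_eq_one]; group)
  exact ⟨T, hT, (isConj_iff.2 ⟨k, rfl⟩).trans hc⟩

end CfsgLib.Lie.Chev
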