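/-
Certificates for the involutions of type E6 in characteristic two.
-/
import Cfsg.Agent.Lib.Lie.CharTwoInv.Classify

set_option autoImplicit false

namespace CfsgLib.Lie.Chev

open Cfsg.Lie

/-- extensions of representative 0, part 0 -/
def tabE6_0_0 : List (ℕ × List ℕ × List ℕ) :=
  [(0, [1, 3, 4, 2, 3, 0, 2, 1, 3, 4, 5, 4, 3, 2, 1, 3, 4, 0, 2, 3, 1], [71]),
   (1, [1, 3, 4, 2, 3, 0, 2, 1, 3, 4, 5, 4, 3, 2, 1, 3, 4, 0, 2, 3], [71]),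
   (2, [1, 3, 4, 2, 3, 0, 2, 1, 3, 4, 5, 4, 3, 2, 1, 3, 4, 0, 2, 1], [71]),
   (3, [1, 3, 4, 2, 3, 0, 2, 1, 3, 4, 5, 4, 3, 0, 2, 1, 3, 0, 2, 1], [71]),
   (4, [1, 3, 4, 5, 4, 2, 3, 0, 2, 1, 3, 4, 3, 0, 2, 1, 3, 0, 2, 1], [71]),
   (5, [1, 3, 4, 2, 3, 0, 2, 1, 3, 4, 5, 4, 3, 2, 1, 3, 4, 3, 1, 0], [71]),
   (6, [1, 3, 4, 2, 3, 0, 2, 1, 3, 4, 5, 3, 4, 3, 0, 2, 1, 3, 1, 0], [71]),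
   (7, [2, 1, 3, 4, 5, 4, 2, 3, 0, 2, 1, 3, 4, 3, 0, 2, 1, 3, 1, 0], [71]),
   (8, [1, 3, 4, 2, 3, 0, 2, 1, 3, 4, 5, 2, 3, 4, 0, 2, 3, 2, 1, 0], [71]),
   (9, [3, 2, 1, 3, 4, 5, 4, 2, 3, 0, 2, 1, 3, 4, 0, 2, 3, 2, 1, 0], [71]),
   (10, [4, 3, 2, 1, 3, 4, 5, 4, 3, 2, 1, 3, 4, 0, 2, 1, 3, 2, 1, 0], [71]),
   (11, [0, 2, 3, 4, 5, 1, 3, 4, 2, 3, 0, 2, 1, 3, 4, 5, 3, 0, 2, 1, 3, 4, 0, 2, 1, 3, 2, 0], [71]),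
   (12, [3, 4, 2, 3, 0, 2, 1, 3, 4, 5, 1, 3, 4, 2, 3, 0, 2, 1, 3, 4, 0, 2, 1, 3, 2, 0], [71]),
   (13, [3, 4, 2, 3, 0, 2, 1, 3, 4, 5, 4, 3, 2, 1, 3, 4, 2, 3, 0, 2, 1, 3, 2, 0], [71]),
   (14, [4, 2, 3, 0, 2, 1, 3, 4, 5, 4, 3, 2, 1, 3, 4, 2, 1, 3, 0, 2, 1, 0], [71]),
   (15, [4, 3, 0, 2, 1, 3, 4, 5, 4, 3, 2, 1, 3, 4, 2, 1, 3, 2, 1, 0], [71]),
   (16, [1, 3, 4, 2, 3, 0, 2, 1, 3, 4, 5, 4, 3, 2, 1, 3, 4, 2, 3, 1], [71]),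
   (17, [1, 3, 4, 2, 3, 0, 2, 1, 3, 4, 5, 1, 3, 4, 3, 0, 2, 1, 3, 1], [71]),
   (18, [0, 2, 1, 3, 4, 5, 4, 2, 3, 0, 2, 1, 3, 4, 3, 0, 2, 1, 3, 1], [71]),
   (19, [1, 3, 4, 2, 3, 0, 2, 1, 3, 4, 5, 2, 1, 3, 4, 0, 2, 3, 2, 1], [71]),
   (20, [3, 0, 2, 1, 3, 4, 5, 4, 2, 3, 0, 2, 1, 3, 4, 0, 2, 3, 2, 1], [71]),
   (21, [4, 3, 0, 2, 1, 3, 4, 5, 4, 3, 2, 1, 3, 4, 0, 2, 1, 3, 2, 1], [71]),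
   (22, [1, 3, 4, 2, 3, 0, 2, 1, 3, 4, 5, 3, 2, 1, 3, 4, 0, 2, 3, 1], [71]),
   (23, [2, 3, 0, 2, 1, 3, 4, 5, 4, 2, 3, 0, 2, 1, 3, 4, 0, 2, 3, 1], [71]),
   (24, [4, 2, 3, 0, 2, 1, 3, 4, 5, 4, 3, 2, 1, 3, 4, 0, 2, 1, 3, 1], [71]),
   (25, [3, 4, 2, 3, 0, 2, 1, 3, 4, 5, 4, 3, 2, 1, 3, 4, 0, 2, 3, 1], [71]),
   (26, [2, 3, 4, 5, 1, 3, 4, 2, 3, 0, 2, 1, 3, 4, 5, 3, 0, 2, 1, 3, 4, 0, 2, 1, 3, 2], [71]),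
   (27, [3, 4, 2, 3, 0, 2, 1, 3, 4, 5, 3, 4, 2, 3, 0, 2, 1, 3, 4, 0, 2, 1, 3, 2], [71]),
   (28, [3, 4, 2, 3, 0, 2, 1, 3, 4, 5, 4, 3, 2, 1, 3, 4, 3, 0, 2, 1, 3, 2], [71]),
   (29, [4, 2, 3, 0, 2, 1, 3, 4, 5, 4, 3, 2, 1, 3, 4, 1, 3, 0, 2, 1], [71])]

/-- extensions of representative 0, part 1 -/
def tabE6_0_1 : List (ℕ × List ℕ × List ℕ) :=
  [(30, [3, 4, 5, 1, 3, 4, 2, 3, 0, 2, 1, 3, 4, 5, 3, 0, 2, 1, 3, 4, 0, 2, 1, 3], [71]),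
   (31, [3, 4, 2, 3, 0, 2, 1, 3, 4, 5, 4, 2, 3, 0, 2, 1, 3, 4, 0, 2, 1, 3], [71]),
   (32, [3, 4, 2, 3, 0, 2, 1, 3, 4, 5, 4, 3, 2, 1, 3, 4, 0, 2, 1, 3], [71]),
   (33, [4, 5, 1, 3, 4, 2, 3, 0, 2, 1, 3, 4, 5, 3, 0, 2, 1, 3, 4, 0, 2, 1], [71]),
   (34, [4, 2, 3, 0, 2, 1, 3, 4, 5, 4, 2, 3, 0, 2, 1, 3, 4, 0, 2, 1], [71]),
   (35, [5, 1, 3, 4, 2, 3, 0, 2, 1, 3, 4, 5, 3, 0, 2, 1, 3, 0, 2, 1], [71]),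
   (36, [1, 3, 4, 2, 3, 0, 2, 1, 3, 4, 3, 0, 2, 1, 3, 0, 2, 1], [71]),
   (37, [2, 3, 0, 2, 1, 3, 4, 5, 4, 2, 3, 0, 2, 1, 3, 0, 2, 1], [71]),
   (38, [2, 3, 0, 2, 1, 3, 4, 2, 3, 0, 2, 1, 3, 0, 2, 1], [71]),
   (39, [4, 2, 3, 0, 2, 1, 3, 4, 5, 4, 3, 2, 1, 3, 4, 0, 2, 1], [71]),
   (40, [2, 3, 0, 2, 1, 3, 4, 5, 4, 3, 2, 1, 3, 0, 2, 1], [71]),
   (41, [2, 3, 0, 2, 1, 3, 4, 3, 2, 1, 3, 0, 2, 1], [71]),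
   (42, [4, 3, 0, 2, 1, 3, 4, 5, 4, 3, 2, 1, 3, 4, 1, 3, 1, 0], [71]),
   (43, [4, 3, 0, 2, 1, 3, 4, 5, 4, 3, 2, 1, 3, 4, 1, 0], [71]),
   (44, [3, 0, 2, 1, 3, 4, 5, 4, 3, 2, 1, 3, 1, 0], [71]),
   (45, [3, 0, 2, 1, 3, 4, 3, 2, 1, 3, 1, 0], [71]),
   (46, [3, 4, 2, 3, 0, 2, 1, 3, 4, 5, 4, 3, 2, 1, 3, 4, 0, 2, 3], [71]),
   (47, [4, 2, 3, 0, 2, 1, 3, 4, 5, 4, 3, 2, 1, 3, 4, 0, 2], [71]),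
   (48, [2, 3, 0, 2, 1, 3, 4, 5, 4, 3, 2, 1, 3, 0, 2], [71]),
   (49, [2, 3, 0, 2, 1, 3, 4, 3, 2, 1, 3, 0, 2], [71]),
   (50, [4, 3, 0, 2, 1, 3, 4, 5, 4, 3, 2, 1, 3, 4, 0], [71]),
   (51, [3, 0, 2, 1, 3, 4, 5, 4, 3, 2, 1, 3, 0], [71]),
   (52, [3, 0, 2, 1, 3, 4, 3, 2, 1, 3, 0], [71]),
   (53, [0, 2, 1, 3, 4, 5, 4, 3, 2, 1, 0], [71]),
   (54, [0, 2, 1, 3, 4, 3, 2, 1, 0], [71]),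
   (55, [0, 2, 1, 3, 2, 1, 0], [71]),
   (56, [4, 3, 2, 1, 3, 4, 5, 4, 3, 2, 1, 3, 4, 2, 1, 3, 2, 1], [71]),
   (57, [4, 3, 2, 1, 3, 4, 5, 4, 3, 2, 1, 3, 4, 1, 3, 1], [71]),
   (58, [4, 3, 2, 1, 3, 4, 5, 4, 3, 2, 1, 3, 4, 1], [71]),
   (59, [3, 2, 1, 3, 4, 5, 4, 3, 2, 1, 3, 1], [71])]

/-- extensions of representative 0, part 2 -/
def tabE6_0_2 : List (ℕ × List ℕ × List ℕ) :=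
  [(60, [3, 2, 1, 3, 4, 3, 2, 1, 3, 1], [71]),
   (61, [4, 3, 2, 1, 3, 4, 5, 4, 3, 2, 1, 3, 4], [71]),
   (62, [3, 2, 1, 3, 4, 5, 4, 3, 2, 1, 3], [71]),
   (63, [3, 2, 1, 3, 4, 3, 2, 1, 3], [71]),
   (64, [2, 1, 3, 4, 5, 4, 3, 2, 1], [71]),
   (65, [2, 1, 3, 4, 3, 2, 1], [71]),
   (66, [2, 1, 3, 2, 1], [71]),
   (67, [1, 3, 4, 5, 4, 3, 1], [71]),
   (68, [1, 3, 4, 3, 1], [71]),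
   (69, [1, 3, 1], [71]),
   (70, [1], [71]),
   (71, [], [71])]

/-- extensions of representative 0 -/
def tabE6_0 : List (ℕ × List ℕ × List ℕ) :=
  tabE6_0_0 ++ tabE6_0_1 ++ tabE6_0_2

/-- extensions of representative 1, part 0 -/
def tabE6_1_0 : List (ℕ × List ℕ × List ℕ) :=
  [(11, [2, 3, 0, 2, 1, 3, 4, 5, 4, 2, 3, 0, 2, 0], [68, 66]),
   (12, [3, 2, 1, 3, 4, 5, 0, 2, 1, 3, 4, 0, 2, 3, 2, 0], [68, 66]),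
   (13, [2, 1, 3, 4, 5, 4, 0, 2, 1, 3, 0, 2, 0], [68, 66]),
   (14, [3, 2, 1, 3, 4, 5, 4, 2, 1, 3, 0, 2, 0], [68, 66]),
   (15, [3, 2, 1, 3, 4, 5, 4, 2, 1, 3, 2, 0], [68, 66]),
   (26, [2, 3, 0, 2, 1, 3, 4, 5, 4, 2, 3, 0, 2], [68, 66]),
   (27, [3, 2, 1, 3, 4, 5, 0, 2, 1, 3, 4, 0, 2, 3, 0, 2], [68, 66]),
   (28, [2, 1, 3, 4, 5, 4, 0, 2, 1, 3, 0, 2], [68, 66]),
   (29, [3, 2, 1, 3, 4, 5, 4, 2, 1, 3, 0, 2], [68, 66]),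
   (30, [2, 3, 0, 2, 1, 3, 4, 5, 0, 2, 3, 4, 0, 2, 3, 0], [68, 66]),
   (31, [3, 2, 1, 3, 4, 5, 0, 2, 1, 3, 4, 0, 2, 3, 0], [68, 66]),
   (32, [3, 2, 1, 3, 4, 5, 2, 1, 3, 4, 0, 2, 3, 0], [68, 66]),
   (33, [2, 3, 0, 2, 1, 3, 4, 5, 2, 3, 4, 0, 2, 0], [68, 66]),
   (34, [2, 1, 3, 4, 5, 0, 2, 1, 3, 4, 0, 2, 0], [68, 66]),
   (35, [2, 3, 0, 2, 1, 3, 4, 5, 2, 3, 0, 2, 0], [68, 66]),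
   (36, [2, 3, 0, 2, 1, 3, 4, 2, 3, 0, 2, 0], [68, 66]),
   (37, [2, 1, 3, 4, 5, 0, 2, 1, 3, 0, 2, 0], [68, 66]),
   (38, [2, 1, 3, 4, 0, 2, 1, 3, 0, 2, 0], [68, 66]),
   (39, [2, 1, 3, 4, 5, 2, 1, 3, 4, 0, 2, 0], [68, 66]),
   (40, [3, 2, 1, 3, 4, 5, 2, 1, 3, 0, 2, 0], [68, 66]),
   (41, [3, 2, 1, 3, 4, 2, 1, 3, 0, 2, 0], [68, 66]),
   (42, [3, 2, 1, 3, 4, 5, 4, 2, 1, 3, 0], [68, 66]),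
   (43, [2, 1, 3, 4, 5, 4, 2, 1, 0], [68, 66]),
   (44, [5, 2, 1, 3, 2, 1, 0], [68, 66]),
   (45, [2, 1, 3, 2, 1, 0], [68, 66]),
   (56, [3, 2, 1, 3, 4, 5, 4, 2, 1, 3, 2], [68, 66]),
   (57, [3, 2, 1, 3, 4, 5, 4, 2, 1, 3], [68, 66]),
   (58, [2, 1, 3, 4, 5, 4, 2, 1], [68, 66]),
   (59, [5, 2, 1, 3, 2, 1], [68, 66]),
   (60, [2, 1, 3, 2, 1], [68, 66])]

/-- extensions of representative 1 -/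
def tabE6_1 : List (ℕ × List ℕ × List ℕ) :=
  tabE6_1_0

/-- extensions of representative 2, part 0 -/
def tabE6_2_0 : List (ℕ × List ℕ × List ℕ) :=
  [(18, [4, 5, 4, 3, 2, 1, 3, 4, 3, 2, 1, 3, 2], [55, 65, 67]),
   (20, [4, 5, 4, 3, 2, 1, 3, 4, 1, 3, 2, 1], [55, 65, 67]),
   (24, [4, 5, 1, 3, 4, 2, 1, 3, 1], [55, 65, 67]),
   (25, [4, 5, 1, 3, 4, 2, 3, 1], [55, 65, 67]),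
   (27, [4, 5, 4, 3, 2, 1, 3, 4, 2, 1, 3, 2], [55, 65, 67]),
   (32, [4, 5, 3, 4, 2, 1, 3], [55, 65, 67]),
   (39, [4, 5, 1, 3, 4, 2, 1], [55, 65, 67]),
   (44, [4, 5, 4, 2, 1, 3, 1], [55, 65, 67]),
   (46, [4, 5, 3, 4, 2, 3], [55, 65, 67]),
   (47, [4, 5, 3, 4, 2], [55, 65, 67]),
   (51, [4, 5, 4, 2, 3], [55, 65, 67]),
   (53, [4, 5, 4, 2], [55, 65, 67])]

/-- extensions of representative 2 -/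
def tabE6_2 : List (ℕ × List ℕ × List ℕ) :=
  tabE6_2_0

/-- extensions of representative 3, part 0 -/
def tabE6_3_0 : List (ℕ × List ℕ × List ℕ) :=
  [(25, [3, 0, 2, 1, 3, 4, 5, 3, 4, 3, 0, 2, 1, 3, 2, 1], [53, 42, 37, 46]),
   (46, [3, 0, 2, 1, 3, 4, 5, 3, 4, 3, 0, 2, 1, 3, 2], [53, 42, 37, 46])]

/-- extensions of representative 3 -/
def tabE6_3 : List (ℕ × List ℕ × List ℕ) :=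
  tabE6_3_0

/-- classification certificate -/
def classE6 : Inv2.ClassData :=
  ⟨[[], [71], [68, 66], [55, 65, 67]], [53, 42, 37, 46], [47, 40, 44, 43],
   [(([]), tabE6_0), (([71]), tabE6_1), (([68, 66]), tabE6_2), (([55, 65, 67]), tabE6_3)]⟩

theorem slE6 : Inv2.SL chevE6 auxE6 :=
  ⟨certE6, by decide +kernel, by decide +kernel, by decide +kernel⟩

theorem classE6_tab : Inv2.chkTab chevE6 auxE6 classE6 = true := by decide +kernel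

theorem classE6_quad : Inv2.chkQuad chevE6 auxE6 classE6 = true := by decide +kernel

end CfsgLib.Lie.Chev
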