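/-
Certificates for the involutions of type E7 in characteristic two.
-/
import Cfsg.Agent.Lib.Lie.CharTwoInv.Classify

set_option autoImplicit false

namespace CfsgLib.Lie.Chev

open Cfsg.Lie

/-- extensions of representative 0, part 0 -/
def tabE7_0_0 : List (ℕ × List ℕ × List ℕ) :=
  [(0, [0, 2, 3, 4, 5, 1, 3, 4, 2, 3, 0, 2, 1, 3, 4, 5, 6, 5, 4, 3, 2, 1, 3, 4, 5, 0, 2, 3, 4, 1, 3, 2, 0], [125]),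
   (1, [0, 2, 3, 4, 5, 1, 3, 4, 2, 3, 0, 2, 1, 3, 4, 5, 6, 5, 4, 3, 2, 1, 3, 4, 5, 0, 2, 3, 4, 1, 3, 2], [125]),
   (2, [0, 2, 3, 4, 5, 1, 3, 4, 2, 3, 0, 2, 1, 3, 4, 5, 6, 5, 4, 3, 2, 1, 3, 4, 5, 0, 2, 3, 4, 1, 3, 0], [125]),
   (3, [0, 2, 3, 4, 5, 1, 3, 4, 2, 3, 0, 2, 1, 3, 4, 5, 6, 5, 4, 3, 2, 1, 3, 4, 5, 0, 2, 3, 4, 2, 1, 0], [125]),
   (4, [0, 2, 3, 4, 5, 1, 3, 4, 2, 3, 0, 2, 1, 3, 4, 5, 6, 5, 4, 3, 2, 1, 3, 4, 5, 0, 2, 1, 3, 2, 1, 0], [125]),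
   (5, [0, 2, 3, 4, 5, 1, 3, 4, 2, 3, 0, 2, 1, 3, 4, 5, 6, 5, 4, 3, 0, 2, 1, 3, 4, 0, 2, 1, 3, 2, 1, 0], [125]),
   (6, [0, 2, 3, 4, 5, 6, 5, 1, 3, 4, 2, 3, 0, 2, 1, 3, 4, 5, 4, 3, 0, 2, 1, 3, 4, 0, 2, 1, 3, 2, 1, 0], [125]),
   (7, [0, 2, 3, 4, 5, 1, 3, 4, 2, 3, 0, 2, 1, 3, 4, 5, 6, 5, 4, 3, 2, 1, 3, 4, 5, 0, 2, 3, 4, 3, 2, 0], [125]),
   (8, [0, 2, 3, 4, 5, 1, 3, 4, 2, 3, 0, 2, 1, 3, 4, 5, 6, 5, 4, 3, 2, 1, 3, 4, 5, 4, 0, 2, 1, 3, 2, 0], [125]),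
   (9, [0, 2, 3, 4, 5, 1, 3, 4, 2, 3, 0, 2, 1, 3, 4, 5, 6, 4, 5, 4, 3, 0, 2, 1, 3, 4, 0, 2, 1, 3, 2, 0], [125]),
   (10, [0, 2, 1, 3, 4, 5, 6, 5, 1, 3, 4, 2, 3, 0, 2, 1, 3, 4, 5, 4, 3, 0, 2, 1, 3, 4, 0, 2, 1, 3, 2, 0], [125]),
   (11, [0, 2, 3, 4, 5, 1, 3, 4, 2, 3, 0, 2, 1, 3, 4, 5, 6, 5, 4, 3, 2, 1, 3, 4, 5, 3, 4, 1, 3, 0, 2, 0], [125]),
   (12, [0, 2, 3, 4, 5, 1, 3, 4, 2, 3, 0, 2, 1, 3, 4, 5, 6, 3, 4, 5, 4, 3, 0, 2, 1, 3, 4, 1, 3, 0, 2, 0], [125]),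
   (13, [3, 0, 2, 1, 3, 4, 5, 6, 5, 1, 3, 4, 2, 3, 0, 2, 1, 3, 4, 5, 4, 3, 0, 2, 1, 3, 4, 1, 3, 0, 2, 0], [125]),
   (14, [0, 2, 3, 4, 5, 1, 3, 4, 2, 3, 0, 2, 1, 3, 4, 5, 6, 2, 3, 4, 5, 0, 2, 3, 4, 3, 2, 1, 3, 0, 2, 0], [125]),
   (15, [4, 3, 0, 2, 1, 3, 4, 5, 6, 5, 1, 3, 4, 2, 3, 0, 2, 1, 3, 4, 5, 0, 2, 3, 4, 3, 2, 1, 3, 0, 2, 0], [125]),
   (16, [5, 4, 3, 0, 2, 1, 3, 4, 5, 6, 5, 4, 3, 2, 1, 3, 4, 5, 2, 3, 0, 2, 1, 3, 4, 3, 2, 1, 3, 0, 2, 0], [125]),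
   (17, [0, 2, 3, 4, 5, 1, 3, 4, 2, 3, 0, 2, 1, 3, 4, 5, 6, 5, 4, 3, 2, 1, 3, 4, 5, 2, 3, 4, 1, 3, 2, 0], [125]),
   (18, [0, 2, 3, 4, 5, 1, 3, 4, 2, 3, 0, 2, 1, 3, 4, 5, 6, 1, 3, 4, 5, 4, 3, 0, 2, 1, 3, 4, 1, 3, 2, 0], [125]),
   (19, [2, 3, 0, 2, 1, 3, 4, 5, 6, 5, 1, 3, 4, 2, 3, 0, 2, 1, 3, 4, 5, 4, 3, 0, 2, 1, 3, 4, 1, 3, 2, 0], [125]),
   (20, [0, 2, 3, 4, 5, 1, 3, 4, 2, 3, 0, 2, 1, 3, 4, 5, 6, 2, 1, 3, 4, 5, 0, 2, 3, 4, 3, 2, 1, 3, 2, 0], [125]),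
   (21, [4, 2, 3, 0, 2, 1, 3, 4, 5, 6, 5, 1, 3, 4, 2, 3, 0, 2, 1, 3, 4, 5, 0, 2, 3, 4, 3, 2, 1, 3, 2, 0], [125]),
   (22, [5, 4, 2, 3, 0, 2, 1, 3, 4, 5, 6, 5, 4, 3, 2, 1, 3, 4, 5, 2, 3, 0, 2, 1, 3, 4, 3, 2, 1, 3, 2, 0], [125]),
   (23, [0, 2, 3, 4, 5, 1, 3, 4, 2, 3, 0, 2, 1, 3, 4, 5, 6, 3, 2, 1, 3, 4, 5, 0, 2, 3, 4, 1, 3, 2, 1, 0], [125]),
   (24, [3, 4, 2, 3, 0, 2, 1, 3, 4, 5, 6, 5, 1, 3, 4, 2, 3, 0, 2, 1, 3, 4, 5, 0, 2, 3, 4, 1, 3, 2, 1, 0], [125]),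
   (25, [5, 3, 4, 2, 3, 0, 2, 1, 3, 4, 5, 6, 5, 4, 3, 2, 1, 3, 4, 5, 2, 3, 0, 2, 1, 3, 4, 1, 3, 2, 1, 0], [125]),
   (26, [4, 5, 3, 4, 2, 3, 0, 2, 1, 3, 4, 5, 6, 5, 4, 3, 2, 1, 3, 4, 5, 0, 2, 3, 4, 0, 2, 1, 3, 2, 1, 0], [125]),
   (27, [0, 2, 3, 4, 5, 1, 3, 4, 2, 3, 0, 2, 1, 3, 4, 5, 6, 4, 3, 2, 1, 3, 4, 5, 0, 2, 3, 4, 1, 3, 2, 0], [125]),
   (28, [1, 3, 4, 2, 3, 0, 2, 1, 3, 4, 5, 6, 5, 1, 3, 4, 2, 3, 0, 2, 1, 3, 4, 5, 0, 2, 3, 4, 1, 3, 2, 0], [125]),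
   (29, [5, 1, 3, 4, 2, 3, 0, 2, 1, 3, 4, 5, 6, 5, 4, 3, 2, 1, 3, 4, 5, 2, 3, 0, 2, 1, 3, 4, 1, 3, 2, 0], [125])]

/-- extensions of representative 0, part 1 -/
def tabE7_0_1 : List (ℕ × List ℕ × List ℕ) :=
  [(30, [4, 5, 1, 3, 4, 2, 3, 0, 2, 1, 3, 4, 5, 6, 5, 4, 3, 2, 1, 3, 4, 5, 0, 2, 3, 4, 0, 2, 1, 3, 2, 0], [125]),
   (31, [3, 4, 5, 1, 3, 4, 2, 3, 0, 2, 1, 3, 4, 5, 6, 5, 4, 3, 2, 1, 3, 4, 5, 0, 2, 3, 4, 1, 3, 0, 2, 0], [125]),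
   (32, [2, 3, 4, 5, 1, 3, 4, 2, 3, 0, 2, 1, 3, 4, 5, 6, 5, 4, 3, 2, 1, 3, 4, 5, 0, 2, 3, 4, 1, 3, 2, 0], [125]),
   (33, [5, 4, 3, 2, 1, 3, 4, 5, 6, 0, 2, 3, 4, 5, 1, 3, 4, 2, 3, 0, 2, 1, 3, 4, 5, 6, 0, 2, 3, 4, 5, 1, 3, 4, 2, 3, 0, 2, 1, 3, 4, 5, 2, 3, 4, 1, 3, 2], [125]),
   (34, [4, 3, 2, 1, 3, 4, 5, 6, 0, 2, 3, 4, 5, 1, 3, 4, 2, 3, 0, 2, 1, 3, 4, 5, 6, 4, 3, 0, 2, 1, 3, 4, 5, 1, 3, 4, 2, 3, 0, 2, 1, 3, 4, 1, 3, 2], [125]),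
   (35, [2, 3, 4, 5, 1, 3, 4, 2, 3, 0, 2, 1, 3, 4, 5, 6, 2, 3, 4, 5, 1, 3, 4, 2, 3, 0, 2, 1, 3, 4, 5, 1, 3, 4, 2, 3, 0, 2, 1, 3, 4, 1, 3, 2], [125]),
   (36, [3, 2, 1, 3, 4, 5, 6, 0, 2, 3, 4, 5, 1, 3, 4, 2, 3, 0, 2, 1, 3, 4, 5, 6, 4, 3, 0, 2, 1, 3, 4, 5, 0, 2, 1, 3, 4, 2, 3, 0, 2, 1, 3, 2], [125]),
   (37, [2, 3, 4, 5, 1, 3, 4, 2, 3, 0, 2, 1, 3, 4, 5, 6, 3, 4, 5, 1, 3, 4, 2, 3, 0, 2, 1, 3, 4, 5, 0, 2, 1, 3, 4, 2, 3, 0, 2, 1, 3, 2], [125]),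
   (38, [2, 3, 4, 5, 1, 3, 4, 2, 3, 0, 2, 1, 3, 4, 5, 6, 5, 4, 3, 2, 1, 3, 4, 5, 3, 4, 2, 3, 0, 2, 1, 3, 4, 2, 3, 0, 2, 1, 3, 2], [125]),
   (39, [2, 1, 3, 4, 5, 6, 0, 2, 3, 4, 5, 1, 3, 4, 2, 3, 0, 2, 1, 3, 4, 5, 6, 4, 3, 0, 2, 1, 3, 4, 5, 0, 2, 1, 3, 4, 2, 1, 3, 0, 2, 1], [125]),
   (40, [2, 3, 4, 5, 1, 3, 4, 2, 3, 0, 2, 1, 3, 4, 5, 6, 4, 5, 1, 3, 4, 2, 3, 0, 2, 1, 3, 4, 5, 0, 2, 1, 3, 4, 2, 1, 3, 0, 2, 1], [125]),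
   (41, [2, 3, 4, 5, 1, 3, 4, 2, 3, 0, 2, 1, 3, 4, 5, 6, 5, 4, 3, 2, 1, 3, 4, 5, 4, 2, 3, 0, 2, 1, 3, 4, 2, 1, 3, 0, 2, 1], [125]),
   (42, [2, 3, 4, 5, 1, 3, 4, 2, 3, 0, 2, 1, 3, 4, 5, 6, 5, 4, 3, 2, 1, 3, 4, 5, 0, 2, 3, 4, 3, 0, 2, 1, 3, 0, 2, 1], [125]),
   (43, [1, 3, 4, 5, 6, 0, 2, 3, 4, 5, 1, 3, 4, 2, 3, 0, 2, 1, 3, 4, 5, 6, 4, 3, 0, 2, 1, 3, 4, 5, 0, 2, 1, 3, 4, 2, 1, 3, 1, 0], [125]),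
   (44, [3, 4, 5, 1, 3, 4, 2, 3, 0, 2, 1, 3, 4, 5, 6, 4, 5, 1, 3, 4, 2, 3, 0, 2, 1, 3, 4, 5, 0, 2, 1, 3, 4, 2, 1, 3, 1, 0], [125]),
   (45, [3, 4, 5, 1, 3, 4, 2, 3, 0, 2, 1, 3, 4, 5, 6, 5, 4, 3, 2, 1, 3, 4, 5, 4, 2, 3, 0, 2, 1, 3, 4, 2, 1, 3, 1, 0], [125]),
   (46, [3, 4, 5, 1, 3, 4, 2, 3, 0, 2, 1, 3, 4, 5, 6, 5, 4, 3, 2, 1, 3, 4, 5, 0, 2, 3, 4, 3, 0, 2, 1, 3, 1, 0], [125]),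
   (47, [4, 5, 1, 3, 4, 2, 3, 0, 2, 1, 3, 4, 5, 6, 5, 4, 3, 2, 1, 3, 4, 5, 0, 2, 3, 4, 0, 2, 3, 2, 1, 0], [125]),
   (48, [2, 3, 4, 5, 6, 0, 2, 3, 4, 5, 1, 3, 4, 2, 3, 0, 2, 1, 3, 4, 5, 6, 4, 3, 0, 2, 1, 3, 4, 5, 0, 2, 1, 3, 4, 2, 1, 3, 0, 2], [125]),
   (49, [2, 3, 4, 5, 1, 3, 4, 2, 3, 0, 2, 1, 3, 4, 5, 6, 5, 1, 3, 4, 2, 3, 0, 2, 1, 3, 4, 5, 0, 2, 1, 3, 4, 2, 1, 3, 0, 2], [125]),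
   (50, [2, 3, 4, 5, 1, 3, 4, 2, 3, 0, 2, 1, 3, 4, 5, 6, 5, 4, 3, 2, 1, 3, 4, 5, 2, 3, 0, 2, 1, 3, 4, 2, 1, 3, 0, 2], [125]),
   (51, [2, 3, 4, 5, 1, 3, 4, 2, 3, 0, 2, 1, 3, 4, 5, 6, 5, 4, 3, 2, 1, 3, 4, 5, 0, 2, 3, 4, 0, 2, 1, 3, 0, 2], [125]),
   (52, [2, 3, 4, 5, 1, 3, 4, 2, 3, 0, 2, 1, 3, 4, 5, 6, 5, 4, 3, 2, 1, 3, 4, 5, 0, 2, 3, 4, 1, 3, 0, 2], [125]),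
   (53, [3, 4, 5, 6, 0, 2, 3, 4, 5, 1, 3, 4, 2, 3, 0, 2, 1, 3, 4, 5, 6, 4, 3, 0, 2, 1, 3, 4, 5, 0, 2, 1, 3, 4, 2, 1, 3, 0], [125]),
   (54, [3, 4, 5, 1, 3, 4, 2, 3, 0, 2, 1, 3, 4, 5, 6, 5, 1, 3, 4, 2, 3, 0, 2, 1, 3, 4, 5, 0, 2, 1, 3, 4, 2, 1, 3, 0], [125]),
   (55, [3, 4, 5, 1, 3, 4, 2, 3, 0, 2, 1, 3, 4, 5, 6, 5, 4, 3, 2, 1, 3, 4, 5, 2, 3, 0, 2, 1, 3, 4, 2, 1, 3, 0], [125]),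
   (56, [3, 4, 5, 1, 3, 4, 2, 3, 0, 2, 1, 3, 4, 5, 6, 5, 4, 3, 2, 1, 3, 4, 5, 0, 2, 3, 4, 0, 2, 1, 3, 0], [125]),
   (57, [4, 5, 6, 0, 2, 3, 4, 5, 1, 3, 4, 2, 3, 0, 2, 1, 3, 4, 5, 6, 4, 3, 0, 2, 1, 3, 4, 5, 0, 2, 1, 3, 4, 2, 1, 0], [125]),
   (58, [4, 5, 1, 3, 4, 2, 3, 0, 2, 1, 3, 4, 5, 6, 5, 1, 3, 4, 2, 3, 0, 2, 1, 3, 4, 5, 0, 2, 1, 3, 4, 2, 1, 0], [125]),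
   (59, [4, 5, 1, 3, 4, 2, 3, 0, 2, 1, 3, 4, 5, 6, 5, 4, 3, 2, 1, 3, 4, 5, 2, 3, 0, 2, 1, 3, 4, 2, 1, 0], [125])]

/-- extensions of representative 0, part 2 -/
def tabE7_0_2 : List (ℕ × List ℕ × List ℕ) :=
  [(60, [5, 6, 0, 2, 3, 4, 5, 1, 3, 4, 2, 3, 0, 2, 1, 3, 4, 5, 6, 4, 3, 0, 2, 1, 3, 4, 5, 0, 2, 1, 3, 2, 1, 0], [125]),
   (61, [5, 1, 3, 4, 2, 3, 0, 2, 1, 3, 4, 5, 6, 5, 1, 3, 4, 2, 3, 0, 2, 1, 3, 4, 5, 0, 2, 1, 3, 2, 1, 0], [125]),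
   (62, [6, 0, 2, 3, 4, 5, 1, 3, 4, 2, 3, 0, 2, 1, 3, 4, 5, 6, 4, 3, 0, 2, 1, 3, 4, 0, 2, 1, 3, 2, 1, 0], [125]),
   (63, [0, 2, 3, 4, 5, 1, 3, 4, 2, 3, 0, 2, 1, 3, 4, 5, 4, 3, 0, 2, 1, 3, 4, 0, 2, 1, 3, 2, 1, 0], [125]),
   (64, [1, 3, 4, 2, 3, 0, 2, 1, 3, 4, 5, 6, 5, 1, 3, 4, 2, 3, 0, 2, 1, 3, 4, 0, 2, 1, 3, 2, 1, 0], [125]),
   (65, [1, 3, 4, 2, 3, 0, 2, 1, 3, 4, 5, 1, 3, 4, 2, 3, 0, 2, 1, 3, 4, 0, 2, 1, 3, 2, 1, 0], [125]),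
   (66, [5, 1, 3, 4, 2, 3, 0, 2, 1, 3, 4, 5, 6, 5, 4, 3, 2, 1, 3, 4, 5, 2, 3, 0, 2, 1, 3, 2, 1, 0], [125]),
   (67, [1, 3, 4, 2, 3, 0, 2, 1, 3, 4, 5, 6, 5, 4, 3, 2, 1, 3, 4, 2, 3, 0, 2, 1, 3, 2, 1, 0], [125]),
   (68, [1, 3, 4, 2, 3, 0, 2, 1, 3, 4, 5, 4, 3, 2, 1, 3, 4, 2, 3, 0, 2, 1, 3, 2, 1, 0], [125]),
   (69, [4, 5, 1, 3, 4, 2, 3, 0, 2, 1, 3, 4, 5, 6, 5, 4, 3, 2, 1, 3, 4, 5, 0, 2, 3, 4, 0, 2, 1, 0], [125]),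
   (70, [5, 1, 3, 4, 2, 3, 0, 2, 1, 3, 4, 5, 6, 5, 4, 3, 2, 1, 3, 4, 5, 0, 2, 3, 0, 2, 1, 0], [125]),
   (71, [1, 3, 4, 2, 3, 0, 2, 1, 3, 4, 5, 6, 5, 4, 3, 2, 1, 3, 4, 0, 2, 3, 0, 2, 1, 0], [125]),
   (72, [1, 3, 4, 2, 3, 0, 2, 1, 3, 4, 5, 4, 3, 2, 1, 3, 4, 0, 2, 3, 0, 2, 1, 0], [125]),
   (73, [3, 4, 5, 1, 3, 4, 2, 3, 0, 2, 1, 3, 4, 5, 6, 5, 4, 3, 2, 1, 3, 4, 5, 0, 2, 3, 4, 1, 3, 0], [125]),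
   (74, [4, 5, 1, 3, 4, 2, 3, 0, 2, 1, 3, 4, 5, 6, 5, 4, 3, 2, 1, 3, 4, 5, 0, 2, 3, 4, 1, 0], [125]),
   (75, [5, 1, 3, 4, 2, 3, 0, 2, 1, 3, 4, 5, 6, 5, 4, 3, 2, 1, 3, 4, 5, 0, 2, 3, 1, 0], [125]),
   (76, [1, 3, 4, 2, 3, 0, 2, 1, 3, 4, 5, 6, 5, 4, 3, 2, 1, 3, 4, 0, 2, 3, 1, 0], [125]),
   (77, [1, 3, 4, 2, 3, 0, 2, 1, 3, 4, 5, 4, 3, 2, 1, 3, 4, 0, 2, 3, 1, 0], [125]),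
   (78, [4, 5, 3, 4, 2, 3, 0, 2, 1, 3, 4, 5, 6, 5, 4, 3, 2, 1, 3, 4, 5, 0, 2, 3, 4, 0, 2, 3, 2, 0], [125]),
   (79, [4, 5, 3, 4, 2, 3, 0, 2, 1, 3, 4, 5, 6, 5, 4, 3, 2, 1, 3, 4, 5, 0, 2, 3, 4, 0, 2, 0], [125]),
   (80, [5, 3, 4, 2, 3, 0, 2, 1, 3, 4, 5, 6, 5, 4, 3, 2, 1, 3, 4, 5, 0, 2, 3, 0, 2, 0], [125]),
   (81, [3, 4, 2, 3, 0, 2, 1, 3, 4, 5, 6, 5, 4, 3, 2, 1, 3, 4, 0, 2, 3, 0, 2, 0], [125]),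
   (82, [3, 4, 2, 3, 0, 2, 1, 3, 4, 5, 4, 3, 2, 1, 3, 4, 0, 2, 3, 0, 2, 0], [125]),
   (83, [4, 5, 3, 4, 2, 3, 0, 2, 1, 3, 4, 5, 6, 5, 4, 3, 2, 1, 3, 4, 5, 0, 2, 3, 4, 0], [125]),
   (84, [5, 3, 4, 2, 3, 0, 2, 1, 3, 4, 5, 6, 5, 4, 3, 2, 1, 3, 4, 5, 0, 2, 3, 0], [125]),
   (85, [3, 4, 2, 3, 0, 2, 1, 3, 4, 5, 6, 5, 4, 3, 2, 1, 3, 4, 0, 2, 3, 0], [125]),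
   (86, [3, 4, 2, 3, 0, 2, 1, 3, 4, 5, 4, 3, 2, 1, 3, 4, 0, 2, 3, 0], [125]),
   (87, [5, 4, 2, 3, 0, 2, 1, 3, 4, 5, 6, 5, 4, 3, 2, 1, 3, 4, 5, 0, 2, 0], [125]),
   (88, [4, 2, 3, 0, 2, 1, 3, 4, 5, 6, 5, 4, 3, 2, 1, 3, 4, 0, 2, 0], [125]),
   (89, [4, 2, 3, 0, 2, 1, 3, 4, 5, 4, 3, 2, 1, 3, 4, 0, 2, 0], [125])]

/-- extensions of representative 0, part 3 -/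
def tabE7_0_3 : List (ℕ × List ℕ × List ℕ) :=
  [(90, [2, 3, 0, 2, 1, 3, 4, 5, 6, 5, 4, 3, 2, 1, 3, 0, 2, 0], [125]),
   (91, [2, 3, 0, 2, 1, 3, 4, 5, 4, 3, 2, 1, 3, 0, 2, 0], [125]),
   (92, [2, 3, 0, 2, 1, 3, 4, 3, 2, 1, 3, 0, 2, 0], [125]),
   (93, [2, 3, 4, 5, 1, 3, 4, 2, 3, 0, 2, 1, 3, 4, 5, 6, 5, 4, 3, 2, 1, 3, 4, 5, 0, 2, 3, 4, 1, 3, 2], [125]),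
   (94, [3, 4, 5, 1, 3, 4, 2, 3, 0, 2, 1, 3, 4, 5, 6, 5, 4, 3, 2, 1, 3, 4, 5, 0, 2, 3, 4, 1, 3], [125]),
   (95, [4, 5, 1, 3, 4, 2, 3, 0, 2, 1, 3, 4, 5, 6, 5, 4, 3, 2, 1, 3, 4, 5, 0, 2, 3, 4, 1], [125]),
   (96, [5, 1, 3, 4, 2, 3, 0, 2, 1, 3, 4, 5, 6, 5, 4, 3, 2, 1, 3, 4, 5, 0, 2, 3, 1], [125]),
   (97, [1, 3, 4, 2, 3, 0, 2, 1, 3, 4, 5, 6, 5, 4, 3, 2, 1, 3, 4, 0, 2, 3, 1], [125]),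
   (98, [1, 3, 4, 2, 3, 0, 2, 1, 3, 4, 5, 4, 3, 2, 1, 3, 4, 0, 2, 3, 1], [125]),
   (99, [4, 5, 3, 4, 2, 3, 0, 2, 1, 3, 4, 5, 6, 5, 4, 3, 2, 1, 3, 4, 5, 0, 2, 3, 4], [125]),
   (100, [5, 3, 4, 2, 3, 0, 2, 1, 3, 4, 5, 6, 5, 4, 3, 2, 1, 3, 4, 5, 0, 2, 3], [125]),
   (101, [3, 4, 2, 3, 0, 2, 1, 3, 4, 5, 6, 5, 4, 3, 2, 1, 3, 4, 0, 2, 3], [125]),
   (102, [3, 4, 2, 3, 0, 2, 1, 3, 4, 5, 4, 3, 2, 1, 3, 4, 0, 2, 3], [125]),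
   (103, [5, 4, 2, 3, 0, 2, 1, 3, 4, 5, 6, 5, 4, 3, 2, 1, 3, 4, 5, 0, 2], [125]),
   (104, [4, 2, 3, 0, 2, 1, 3, 4, 5, 6, 5, 4, 3, 2, 1, 3, 4, 0, 2], [125]),
   (105, [4, 2, 3, 0, 2, 1, 3, 4, 5, 4, 3, 2, 1, 3, 4, 0, 2], [125]),
   (106, [2, 3, 0, 2, 1, 3, 4, 5, 6, 5, 4, 3, 2, 1, 3, 0, 2], [125]),
   (107, [2, 3, 0, 2, 1, 3, 4, 5, 4, 3, 2, 1, 3, 0, 2], [125]),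
   (108, [2, 3, 0, 2, 1, 3, 4, 3, 2, 1, 3, 0, 2], [125]),
   (109, [5, 4, 3, 0, 2, 1, 3, 4, 5, 6, 5, 4, 3, 2, 1, 3, 4, 5, 0], [125]),
   (110, [4, 3, 0, 2, 1, 3, 4, 5, 6, 5, 4, 3, 2, 1, 3, 4, 0], [125]),
   (111, [4, 3, 0, 2, 1, 3, 4, 5, 4, 3, 2, 1, 3, 4, 0], [125]),
   (112, [3, 0, 2, 1, 3, 4, 5, 6, 5, 4, 3, 2, 1, 3, 0], [125]),
   (113, [3, 0, 2, 1, 3, 4, 5, 4, 3, 2, 1, 3, 0], [125]),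
   (114, [3, 0, 2, 1, 3, 4, 3, 2, 1, 3, 0], [125]),
   (115, [0, 2, 1, 3, 4, 5, 6, 5, 4, 3, 2, 1, 0], [125]),
   (116, [0, 2, 1, 3, 4, 5, 4, 3, 2, 1, 0], [125]),
   (117, [0, 2, 1, 3, 4, 3, 2, 1, 0], [125]),
   (118, [0, 2, 1, 3, 2, 1, 0], [125]),
   (119, [0, 2, 3, 4, 5, 6, 5, 4, 3, 2, 0], [125])]

/-- extensions of representative 0, part 4 -/
def tabE7_0_4 : List (ℕ × List ℕ × List ℕ) :=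
  [(120, [0, 2, 3, 4, 5, 4, 3, 2, 0], [125]),
   (121, [0, 2, 3, 4, 3, 2, 0], [125]),
   (122, [0, 2, 3, 2, 0], [125]),
   (123, [0, 2, 0], [125]),
   (124, [0], [125]),
   (125, [], [125])]

/-- extensions of representative 0 -/
def tabE7_0 : List (ℕ × List ℕ × List ℕ) :=
  tabE7_0_0 ++ tabE7_0_1 ++ tabE7_0_2 ++ tabE7_0_3 ++ tabE7_0_4

/-- extensions of representative 1, part 0 -/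
def tabE7_1_0 : List (ℕ × List ℕ × List ℕ) :=
  [(33, [5, 4, 3, 2, 1, 3, 4, 5, 6, 5, 4, 3, 2, 1, 3, 4, 5], [92, 125]),
   (34, [5, 4, 3, 2, 1, 3, 4, 5, 6, 5, 4, 3, 2, 1, 3, 4], [92, 125]),
   (35, [5, 6, 5, 4, 3, 2, 1, 3, 4, 5, 4, 3, 2, 1, 3, 4], [92, 125]),
   (36, [5, 4, 3, 2, 1, 3, 4, 5, 6, 4, 5, 4, 3, 2, 1, 3], [92, 125]),
   (37, [4, 5, 6, 5, 4, 3, 2, 1, 3, 4, 5, 4, 3, 2, 1, 3], [92, 125]),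
   (38, [4, 3, 2, 1, 3, 4, 5, 6, 3, 2, 1, 3, 4, 5, 4, 3, 2, 1, 3, 4, 3, 2, 1, 3], [92, 125]),
   (39, [5, 4, 3, 2, 1, 3, 4, 5, 6, 3, 4, 5, 4, 3, 2, 1], [92, 125]),
   (40, [3, 4, 5, 6, 5, 4, 3, 2, 1, 3, 4, 5, 4, 3, 2, 1], [92, 125]),
   (41, [4, 3, 2, 1, 3, 4, 5, 6, 2, 1, 3, 4, 5, 4, 3, 2, 1, 3, 4, 3, 2, 1], [92, 125]),
   (42, [3, 2, 1, 3, 4, 5, 6, 2, 1, 3, 4, 5, 3, 4, 3, 2, 1, 3, 2, 1], [92, 125]),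
   (43, [5, 4, 3, 2, 1, 3, 4, 5, 6, 1, 3, 4, 5, 4, 3, 1], [92, 125]),
   (44, [2, 3, 4, 5, 6, 5, 4, 3, 2, 1, 3, 4, 5, 4, 3, 1], [92, 125]),
   (45, [4, 3, 2, 1, 3, 4, 5, 6, 2, 3, 4, 5, 4, 3, 2, 1, 3, 4, 3, 1], [92, 125]),
   (46, [3, 2, 1, 3, 4, 5, 6, 2, 3, 4, 5, 3, 4, 3, 2, 1, 3, 1], [92, 125]),
   (47, [2, 1, 3, 4, 5, 6, 2, 3, 4, 5, 3, 4, 2, 3, 2, 1], [92, 125]),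
   (48, [5, 4, 3, 2, 1, 3, 4, 5, 6, 2, 3, 4, 5, 4, 3, 2], [92, 125]),
   (49, [1, 3, 4, 5, 6, 5, 4, 3, 2, 1, 3, 4, 5, 4, 3, 2], [92, 125]),
   (50, [4, 3, 2, 1, 3, 4, 5, 6, 1, 3, 4, 5, 4, 3, 2, 1, 3, 4, 3, 2], [92, 125]),
   (51, [3, 2, 1, 3, 4, 5, 6, 1, 3, 4, 5, 3, 4, 3, 2, 1, 3, 2], [92, 125]),
   (52, [2, 1, 3, 4, 5, 6, 1, 3, 4, 5, 3, 4, 1, 3, 2, 1], [92, 125]),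
   (53, [5, 4, 3, 2, 1, 3, 4, 5, 6, 2, 1, 3, 4, 5, 4, 3], [92, 125]),
   (54, [2, 1, 3, 4, 5, 6, 5, 4, 3, 2, 1, 3, 4, 5, 4, 3], [92, 125]),
   (55, [4, 3, 2, 1, 3, 4, 5, 6, 3, 4, 5, 4, 3, 2, 1, 3, 4, 3], [92, 125]),
   (56, [3, 2, 1, 3, 4, 5, 6, 3, 4, 5, 3, 4, 3, 2, 1, 3], [92, 125]),
   (57, [5, 4, 3, 2, 1, 3, 4, 5, 6, 3, 2, 1, 3, 4, 5, 4], [92, 125]),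
   (58, [3, 2, 1, 3, 4, 5, 6, 5, 4, 3, 2, 1, 3, 4, 5, 4], [92, 125]),
   (59, [4, 3, 2, 1, 3, 4, 5, 6, 4, 5, 4, 3, 2, 1, 3, 4], [92, 125]),
   (60, [5, 4, 3, 2, 1, 3, 4, 5, 6, 4, 3, 2, 1, 3, 4, 5], [92, 125]),
   (61, [4, 3, 2, 1, 3, 4, 5, 6, 5, 4, 3, 2, 1, 3, 4, 5], [92, 125]),
   (62, [6, 5, 4, 3, 2, 1, 3, 4, 5, 6, 4, 3, 2, 1, 3, 4], [92, 125])]

/-- extensions of representative 1, part 1 -/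
def tabE7_1_1 : List (ℕ × List ℕ × List ℕ) :=
  [(63, [5, 4, 3, 2, 1, 3, 4, 5, 4, 3, 2, 1, 3, 4], [92, 125]),
   (64, [4, 3, 2, 1, 3, 4, 5, 6, 5, 4, 3, 2, 1, 3, 4], [92, 125]),
   (65, [4, 3, 2, 1, 3, 4, 5, 4, 3, 2, 1, 3, 4], [92, 125]),
   (66, [3, 2, 1, 3, 4, 5, 6, 4, 5, 4, 3, 2, 1, 3], [92, 125]),
   (67, [3, 2, 1, 3, 4, 5, 6, 5, 4, 3, 2, 1, 3], [92, 125]),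
   (68, [3, 2, 1, 3, 4, 5, 4, 3, 2, 1, 3], [92, 125]),
   (69, [2, 1, 3, 4, 5, 6, 3, 4, 5, 3, 4, 3, 2, 1], [92, 125]),
   (70, [2, 1, 3, 4, 5, 6, 4, 5, 4, 3, 2, 1], [92, 125]),
   (71, [2, 1, 3, 4, 5, 6, 5, 4, 3, 2, 1], [92, 125]),
   (72, [2, 1, 3, 4, 5, 4, 3, 2, 1], [92, 125]),
   (73, [1, 3, 4, 5, 6, 1, 3, 4, 5, 3, 4, 1, 3, 1], [92, 125]),
   (74, [1, 3, 4, 5, 6, 3, 4, 5, 3, 4, 3, 1], [92, 125]),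
   (75, [1, 3, 4, 5, 6, 4, 5, 4, 3, 1], [92, 125]),
   (76, [1, 3, 4, 5, 6, 5, 4, 3, 1], [92, 125]),
   (77, [1, 3, 4, 5, 4, 3, 1], [92, 125]),
   (78, [2, 3, 4, 5, 6, 2, 3, 4, 5, 3, 4, 2, 3, 2], [92, 125]),
   (79, [2, 3, 4, 5, 6, 3, 4, 5, 3, 4, 3, 2], [92, 125]),
   (80, [2, 3, 4, 5, 6, 4, 5, 4, 3, 2], [92, 125]),
   (81, [2, 3, 4, 5, 6, 5, 4, 3, 2], [92, 125]),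
   (82, [2, 3, 4, 5, 4, 3, 2], [92, 125]),
   (83, [3, 4, 5, 6, 3, 4, 5, 3, 4, 3], [92, 125]),
   (84, [3, 4, 5, 6, 4, 5, 4, 3], [92, 125]),
   (85, [3, 4, 5, 6, 5, 4, 3], [92, 125]),
   (86, [3, 4, 5, 4, 3], [92, 125]),
   (87, [4, 5, 6, 4, 5, 4], [92, 125]),
   (88, [4, 5, 6, 5, 4], [92, 125]),
   (89, [4, 5, 4], [92, 125]),
   (90, [5, 6, 5], [92, 125]),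
   (91, [5], [92, 125]),
   (92, [], [92, 125])]

/-- extensions of representative 1 -/
def tabE7_1 : List (ℕ × List ℕ × List ℕ) :=
  tabE7_1_0 ++ tabE7_1_1

/-- extensions of representative 2, part 0 -/
def tabE7_2_0 : List (ℕ × List ℕ × List ℕ) :=
  [(38, [3, 2, 1, 3, 4, 3, 2, 1, 3], [87, 92, 125]),
   (41, [3, 2, 1, 3, 4, 3, 2, 1], [87, 92, 125]),
   (42, [3, 4, 3, 2, 1, 3, 2, 1], [87, 92, 125]),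
   (45, [3, 2, 1, 3, 4, 1, 3, 1], [87, 92, 125]),
   (46, [2, 3, 4, 3, 2, 1, 3, 1], [87, 92, 125]),
   (47, [2, 1, 3, 4, 2, 3, 2, 1], [87, 92, 125]),
   (50, [3, 2, 1, 3, 4, 2, 3, 2], [87, 92, 125]),
   (51, [1, 3, 4, 3, 2, 1, 3, 2], [87, 92, 125]),
   (52, [2, 1, 3, 4, 1, 3, 2, 1], [87, 92, 125]),
   (55, [3, 2, 1, 3, 4, 2, 1, 3], [87, 92, 125]),
   (56, [2, 1, 3, 4, 3, 2, 1, 3], [87, 92, 125]),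
   (59, [4, 3, 2, 1, 3, 4, 2, 1], [87, 92, 125]),
   (62, [6], [63, 92, 125]),
   (63, [], [63, 92, 125]),
   (66, [3, 2, 1, 3, 2, 1], [87, 92, 125]),
   (69, [2, 1, 3, 4, 3, 2, 1], [87, 92, 125]),
   (70, [2, 1, 3, 2, 1], [87, 92, 125]),
   (73, [1, 3, 4, 1, 3, 1], [87, 92, 125]),
   (74, [1, 3, 4, 3, 1], [87, 92, 125]),
   (75, [1, 3, 1], [87, 92, 125]),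
   (78, [2, 3, 4, 2, 3, 2], [87, 92, 125]),
   (79, [2, 3, 4, 3, 2], [87, 92, 125]),
   (80, [2, 3, 2], [87, 92, 125]),
   (83, [3, 4, 3], [87, 92, 125]),
   (84, [3], [87, 92, 125]),
   (87, [], [87, 92, 125])]

/-- extensions of representative 2 -/
def tabE7_2 : List (ℕ × List ℕ × List ℕ) :=
  tabE7_2_0

/-- extensions of representative 3, part 0 -/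
def tabE7_3_0 : List (ℕ × List ℕ × List ℕ) :=
  [(47, [1], [78, 87, 92, 125]),
   (52, [5, 3, 4, 2, 3, 0, 2, 1, 3, 4, 5, 6, 5, 4, 3, 2, 1, 3, 4, 5, 4, 2, 3, 0, 2, 1, 3, 4, 0, 2, 1], [87, 73, 66, 78]),
   (59, [0, 2, 1, 3, 4, 1, 3, 2, 1, 0], [78, 87, 92, 125]),
   (62, [0, 2, 1, 3, 4, 5, 6, 1, 3, 4, 5, 4, 2, 0], [78, 87, 92, 125]),
   (63, [0, 2, 3, 4, 5, 6, 1, 3, 4, 5, 4, 2, 1, 0], [78, 87, 92, 125]),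
   (66, [0, 2, 3, 4, 1, 3, 2, 0], [78, 87, 92, 125]),
   (73, [5, 3, 4, 2, 3, 0, 2, 1, 3, 4, 5, 6, 5, 4, 3, 2, 1, 3, 4, 5, 4, 2, 3, 0, 2, 1, 3, 4, 1, 0], [87, 73, 66, 78]),
   (78, [], [78, 87, 92, 125])]

/-- extensions of representative 3 -/
def tabE7_3 : List (ℕ × List ℕ × List ℕ) :=
  tabE7_3_0

/-- extensions of representative 4, part 0 -/
def tabE7_4_0 : List (ℕ × List ℕ × List ℕ) :=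
  [(38, [0, 2, 3, 4, 5, 6, 1, 3, 4, 5, 4, 2, 3, 0, 2, 1, 3, 4, 3, 2, 1, 3, 2, 1], [78, 87, 92, 125]),
   (41, [0, 2, 3, 4, 5, 6, 1, 3, 4, 5, 4, 2, 3, 0, 2, 1, 3, 4, 2, 3, 2, 1], [78, 87, 92, 125]),
   (42, [0, 2, 3, 4, 5, 6, 1, 3, 4, 5, 2, 3, 4, 3, 0, 2, 1, 3, 2, 1], [78, 87, 92, 125]),
   (45, [0, 2, 3, 4, 5, 6, 1, 3, 4, 5, 4, 2, 3, 0, 2, 1, 3, 4, 2, 3, 1], [78, 87, 92, 125]),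
   (46, [0, 2, 3, 4, 5, 6, 1, 3, 4, 5, 2, 3, 4, 3, 0, 2, 1, 3, 1], [78, 87, 92, 125]),
   (47, [0, 2, 3, 4, 5, 6, 1, 3, 4, 5, 0, 2, 1, 3, 4, 0, 2, 3, 2, 1], [78, 87, 92, 125]),
   (50, [0, 2, 3, 4, 5, 6, 1, 3, 4, 5, 2, 3, 0, 2, 1, 3, 4, 2, 3, 2], [78, 87, 92, 125]),
   (51, [0, 2, 3, 4, 5, 6, 1, 3, 4, 5, 2, 3, 4, 0, 2, 1, 3, 2], [78, 87, 92, 125]),
   (52, [0, 2, 3, 4, 5, 6, 1, 3, 4, 5, 2, 3, 4, 1, 3, 0, 2], [78, 87, 92, 125]),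
   (55, [0, 2, 3, 4, 5, 6, 1, 3, 4, 5, 2, 3, 0, 2, 1, 3, 4, 2, 3], [78, 87, 92, 125]),
   (56, [0, 2, 3, 4, 5, 6, 1, 3, 4, 5, 2, 3, 4, 0, 2, 1, 3], [78, 87, 92, 125]),
   (59, [0, 2, 3, 4, 5, 6, 1, 3, 4, 5, 4, 2, 3, 0, 2, 1, 3, 4, 2, 1], [78, 87, 92, 125]),
   (66, [0, 2, 3, 4, 5, 6, 1, 3, 4, 5, 4, 2, 3, 0, 2, 1, 3, 1], [78, 87, 92, 125]),
   (69, [0, 2, 3, 4, 5, 6, 1, 3, 4, 5, 2, 3, 4, 0, 2, 1], [78, 87, 92, 125]),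
   (70, [0, 2, 3, 4, 5, 6, 1, 3, 4, 5, 2, 1, 3, 0, 2, 1], [78, 87, 92, 125]),
   (73, [0, 2, 3, 4, 5, 6, 1, 3, 4, 5, 2, 3, 4, 1, 3, 0], [78, 87, 92, 125]),
   (74, [0, 2, 3, 4, 5, 6, 1, 3, 4, 5, 2, 3, 4, 1, 0], [78, 87, 92, 125]),
   (75, [0, 2, 3, 4, 5, 6, 1, 3, 4, 5, 2, 1, 3, 1, 0], [78, 87, 92, 125]),
   (78, [0, 2, 3, 4, 5, 6, 1, 3, 4, 5, 0, 2, 1, 3, 4, 0, 2, 3], [78, 87, 92, 125]),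
   (79, [0, 2, 3, 4, 5, 6, 1, 3, 4, 5, 2, 3, 4, 3, 0, 2], [78, 87, 92, 125]),
   (80, [0, 2, 3, 4, 5, 6, 1, 3, 4, 5, 4, 2, 1, 3, 0, 2], [78, 87, 92, 125]),
   (83, [0, 2, 3, 4, 5, 6, 1, 3, 4, 5, 2, 3, 4, 3, 0], [78, 87, 92, 125]),
   (84, [0, 2, 3, 4, 5, 6, 1, 3, 4, 5, 4, 2, 1, 3, 0], [78, 87, 92, 125]),
   (87, [0, 2, 3, 4, 5, 6, 1, 3, 4, 5, 4, 2, 1, 0], [78, 87, 92, 125])]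

/-- extensions of representative 4 -/
def tabE7_4 : List (ℕ × List ℕ × List ℕ) :=
  tabE7_4_0

/-- extensions of representative 5, part 0 -/
def tabE7_5_0 : List (ℕ × List ℕ × List ℕ) :=
  [(52, [5, 3, 4, 2, 3, 0, 2, 1, 3, 4, 5, 6, 5, 4, 3, 2, 1, 3, 4, 5, 4, 2, 3, 0, 2, 1, 3, 4, 0, 2, 1], [87, 73, 66, 78, 33]),
   (59, [5, 3, 4, 2, 3, 0, 2, 1, 3, 4, 5, 6, 5, 4, 3, 2, 1, 3, 4, 5, 4, 3, 0, 2, 1, 3, 4, 1, 3, 0], [87, 73, 66, 78, 33]),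
   (62, [3, 4, 5, 6, 2, 3, 4, 5, 1, 3, 4, 2, 3, 0, 2, 1, 3, 4, 5, 6, 2, 3, 0, 2, 1, 3, 4, 5, 2, 3, 4, 1, 3, 0], [87, 73, 66, 78, 33]),
   (63, [0, 2, 3, 4, 5, 6, 2, 3, 0, 2, 1, 3, 4, 5, 3, 2, 1, 3, 4, 3, 2, 1, 3, 0], [87, 73, 66, 78, 92]),
   (66, [5, 3, 4, 2, 3, 0, 2, 1, 3, 4, 5, 6, 5, 4, 3, 2, 1, 3, 4, 5, 2, 3, 4, 3, 2, 1, 3, 0], [87, 73, 66, 78, 92]),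
   (73, [5, 3, 4, 2, 3, 0, 2, 1, 3, 4, 5, 6, 5, 4, 3, 2, 1, 3, 4, 5, 4, 2, 3, 0, 2, 1, 3, 4, 1, 0], [87, 73, 66, 78, 33])]

/-- extensions of representative 5 -/
def tabE7_5 : List (ℕ × List ℕ × List ℕ) :=
  tabE7_5_0

/-- classification certificate -/
def classE7 : Inv2.ClassData :=
  ⟨[[], [125], [92, 125], [87, 92, 125], [63, 92, 125], [78, 87, 92, 125]], [87, 73, 66, 78], [79, 70, 75, 74],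
   [(([]), tabE7_0), (([125]), tabE7_1), (([92, 125]), tabE7_2), (([87, 92, 125]), tabE7_3), (([63, 92, 125]), tabE7_4), (([78, 87, 92, 125]), tabE7_5)]⟩

theorem slE7 : Inv2.SL chevE7 auxE7 :=
  ⟨certE7, by decide +kernel, by decide +kernel, by decide +kernel⟩

theorem classE7_tab : Inv2.chkTab chevE7 auxE7 classE7 = true := by decide +kernel

theorem classE7_quad : Inv2.chkQuad chevE7 auxE7 classE7 = true := by decide +kernel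

end CfsgLib.Lie.Chev
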