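/-
Certificates for the involutions of type E8 in characteristic two.
-/
import Cfsg.Agent.Lib.Lie.CharTwoInv.Classify

set_option autoImplicit false
set_option Elab.async false

namespace CfsgLib.Lie.Chev

open Cfsg.Lie

/-- extensions of representative 0, part 0 -/
def tabE8_0_0 : List (ℕ × List ℕ × List ℕ) :=
  [(0, [7, 6, 5, 4, 3, 2, 1, 3, 4, 5, 6, 0, 2, 3, 4, 5, 1, 3, 4, 2, 3, 0, 2, 1, 3, 4, 5, 6, 7, 6, 5, 4, 3, 2, 1, 3, 4, 5, 6, 0, 2, 3, 4, 5, 1, 3, 4, 2, 3, 0, 2, 1, 3, 4, 5, 6, 7], [239]),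
   (1, [7, 6, 5, 4, 3, 2, 1, 3, 4, 5, 6, 0, 2, 3, 4, 5, 1, 3, 4, 2, 3, 0, 2, 1, 3, 4, 5, 6, 7, 6, 5, 4, 3, 2, 1, 3, 4, 5, 6, 0, 2, 3, 4, 5, 1, 3, 4, 2, 3, 0, 2, 1, 3, 4, 5, 6], [239]),
   (2, [6, 7, 6, 5, 4, 3, 2, 1, 3, 4, 5, 6, 0, 2, 3, 4, 5, 1, 3, 4, 2, 3, 0, 2, 1, 3, 4, 5, 6, 7, 6, 5, 4, 3, 2, 1, 3, 4, 5, 6, 0, 2, 3, 4, 5, 1, 3, 4, 2, 3, 0, 2, 1, 3, 4, 5], [239]),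
   (3, [5, 6, 7, 6, 5, 4, 3, 2, 1, 3, 4, 5, 6, 0, 2, 3, 4, 5, 1, 3, 4, 2, 3, 0, 2, 1, 3, 4, 5, 6, 7, 6, 5, 4, 3, 2, 1, 3, 4, 5, 6, 0, 2, 3, 4, 5, 1, 3, 4, 2, 3, 0, 2, 1, 3, 4], [239]),
   (4, [4, 5, 6, 7, 6, 5, 4, 3, 2, 1, 3, 4, 5, 6, 0, 2, 3, 4, 5, 1, 3, 4, 2, 3, 0, 2, 1, 3, 4, 5, 6, 7, 6, 5, 4, 3, 2, 1, 3, 4, 5, 6, 0, 2, 3, 4, 5, 1, 3, 4, 2, 3, 0, 2, 1, 3], [239]),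
   (5, [3, 4, 5, 6, 7, 6, 5, 4, 3, 2, 1, 3, 4, 5, 6, 0, 2, 3, 4, 5, 1, 3, 4, 2, 3, 0, 2, 1, 3, 4, 5, 6, 7, 6, 5, 4, 3, 2, 1, 3, 4, 5, 6, 0, 2, 3, 4, 5, 1, 3, 4, 2, 3, 0, 2, 1], [239]),
   (6, [2, 3, 4, 5, 6, 7, 6, 5, 4, 3, 2, 1, 3, 4, 5, 6, 0, 2, 3, 4, 5, 1, 3, 4, 2, 3, 0, 2, 1, 3, 4, 5, 6, 7, 6, 5, 4, 3, 2, 1, 3, 4, 5, 6, 0, 2, 3, 4, 5, 1, 3, 4, 2, 3, 1, 0], [239]),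
   (7, [1, 3, 4, 5, 6, 7, 6, 5, 4, 3, 2, 1, 3, 4, 5, 6, 0, 2, 3, 4, 5, 1, 3, 4, 2, 3, 0, 2, 1, 3, 4, 5, 6, 7, 6, 5, 4, 3, 2, 1, 3, 4, 5, 6, 0, 2, 3, 4, 5, 1, 3, 4, 2, 3, 0, 2], [239]),
   (8, [2, 1, 3, 4, 5, 6, 7, 6, 5, 4, 3, 2, 1, 3, 4, 5, 6, 0, 2, 3, 4, 5, 1, 3, 4, 2, 3, 0, 2, 1, 3, 4, 5, 6, 7, 6, 5, 4, 3, 2, 1, 3, 4, 5, 6, 0, 2, 3, 4, 5, 1, 3, 4, 2, 3, 0], [239]),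
   (9, [3, 2, 1, 3, 4, 5, 6, 7, 6, 5, 4, 3, 2, 1, 3, 4, 5, 6, 0, 2, 3, 4, 5, 1, 3, 4, 2, 3, 0, 2, 1, 3, 4, 5, 6, 7, 6, 5, 4, 3, 2, 1, 3, 4, 5, 6, 0, 2, 3, 4, 5, 1, 3, 4, 2, 0], [239]),
   (10, [4, 3, 2, 1, 3, 4, 5, 6, 7, 6, 5, 4, 3, 2, 1, 3, 4, 5, 6, 0, 2, 3, 4, 5, 1, 3, 4, 2, 3, 0, 2, 1, 3, 4, 5, 6, 7, 6, 5, 4, 3, 2, 1, 3, 4, 5, 6, 0, 2, 3, 4, 5, 1, 3, 2, 0], [239]),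
   (11, [5, 4, 3, 2, 1, 3, 4, 5, 6, 7, 6, 5, 4, 3, 2, 1, 3, 4, 5, 6, 0, 2, 3, 4, 5, 1, 3, 4, 2, 3, 0, 2, 1, 3, 4, 5, 6, 7, 6, 5, 4, 3, 2, 1, 3, 4, 5, 6, 0, 2, 3, 4, 1, 3, 2, 0], [239]),
   (12, [6, 5, 4, 3, 2, 1, 3, 4, 5, 6, 7, 6, 5, 4, 3, 2, 1, 3, 4, 5, 6, 0, 2, 3, 4, 5, 1, 3, 4, 2, 3, 0, 2, 1, 3, 4, 5, 6, 7, 6, 5, 4, 3, 2, 1, 3, 4, 5, 0, 2, 3, 4, 1, 3, 2, 0], [239]),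
   (13, [0, 2, 3, 4, 5, 1, 3, 4, 2, 3, 0, 2, 1, 3, 4, 5, 6, 7, 5, 4, 3, 2, 1, 3, 4, 5, 6, 0, 2, 3, 4, 5, 1, 3, 4, 2, 3, 0, 2, 1, 3, 4, 5, 6, 7, 6, 5, 4, 3, 2, 1, 3, 4, 5, 6, 0, 2, 3, 4, 5, 1, 3, 4, 2, 3, 0, 2, 1, 3, 4, 5, 6, 5, 4, 3, 2, 1, 3, 4, 5, 0, 2, 3, 4, 1, 3, 2, 0], [239]),
   (14, [0, 2, 3, 4, 5, 6, 7, 6, 5, 4, 3, 2, 1, 3, 4, 5, 6, 0, 2, 3, 4, 5, 1, 3, 4, 2, 3, 0, 2, 1, 3, 4, 5, 6, 7, 6, 5, 4, 3, 2, 1, 3, 4, 5, 6, 0, 2, 3, 4, 5, 1, 3, 4, 2, 3, 1], [239]),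
   (15, [0, 2, 1, 3, 4, 5, 6, 7, 6, 5, 4, 3, 2, 1, 3, 4, 5, 6, 0, 2, 3, 4, 5, 1, 3, 4, 2, 3, 0, 2, 1, 3, 4, 5, 6, 7, 6, 5, 4, 3, 2, 1, 3, 4, 5, 6, 0, 2, 3, 4, 5, 1, 3, 4, 2, 3], [239]),
   (16, [3, 0, 2, 1, 3, 4, 5, 6, 7, 6, 5, 4, 3, 2, 1, 3, 4, 5, 6, 0, 2, 3, 4, 5, 1, 3, 4, 2, 3, 0, 2, 1, 3, 4, 5, 6, 7, 6, 5, 4, 3, 2, 1, 3, 4, 5, 6, 0, 2, 3, 4, 5, 1, 3, 4, 2], [239]),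
   (17, [4, 3, 0, 2, 1, 3, 4, 5, 6, 7, 6, 5, 4, 3, 2, 1, 3, 4, 5, 6, 0, 2, 3, 4, 5, 1, 3, 4, 2, 3, 0, 2, 1, 3, 4, 5, 6, 7, 6, 5, 4, 3, 2, 1, 3, 4, 5, 6, 0, 2, 3, 4, 5, 1, 3, 2], [239]),
   (18, [5, 4, 3, 0, 2, 1, 3, 4, 5, 6, 7, 6, 5, 4, 3, 2, 1, 3, 4, 5, 6, 0, 2, 3, 4, 5, 1, 3, 4, 2, 3, 0, 2, 1, 3, 4, 5, 6, 7, 6, 5, 4, 3, 2, 1, 3, 4, 5, 6, 0, 2, 3, 4, 1, 3, 2], [239]),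
   (19, [6, 5, 4, 3, 0, 2, 1, 3, 4, 5, 6, 7, 6, 5, 4, 3, 2, 1, 3, 4, 5, 6, 0, 2, 3, 4, 5, 1, 3, 4, 2, 3, 0, 2, 1, 3, 4, 5, 6, 7, 6, 5, 4, 3, 2, 1, 3, 4, 5, 0, 2, 3, 4, 1, 3, 2], [239]),
   (20, [2, 3, 4, 5, 1, 3, 4, 2, 3, 0, 2, 1, 3, 4, 5, 6, 7, 5, 4, 3, 2, 1, 3, 4, 5, 6, 0, 2, 3, 4, 5, 1, 3, 4, 2, 3, 0, 2, 1, 3, 4, 5, 6, 7, 6, 5, 4, 3, 2, 1, 3, 4, 5, 6, 0, 2, 3, 4, 5, 1, 3, 4, 2, 3, 0, 2, 1, 3, 4, 5, 6, 5, 4, 3, 2, 1, 3, 4, 5, 0, 2, 3, 4, 1, 3, 2], [239]),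
   (21, [2, 3, 0, 2, 1, 3, 4, 5, 6, 7, 6, 5, 4, 3, 2, 1, 3, 4, 5, 6, 0, 2, 3, 4, 5, 1, 3, 4, 2, 3, 0, 2, 1, 3, 4, 5, 6, 7, 6, 5, 4, 3, 2, 1, 3, 4, 5, 6, 0, 2, 3, 4, 5, 1, 3, 4], [239]),
   (22, [4, 2, 3, 0, 2, 1, 3, 4, 5, 6, 7, 6, 5, 4, 3, 2, 1, 3, 4, 5, 6, 0, 2, 3, 4, 5, 1, 3, 4, 2, 3, 0, 2, 1, 3, 4, 5, 6, 7, 6, 5, 4, 3, 2, 1, 3, 4, 5, 6, 0, 2, 3, 4, 5, 1, 3], [239]),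
   (23, [5, 4, 2, 3, 0, 2, 1, 3, 4, 5, 6, 7, 6, 5, 4, 3, 2, 1, 3, 4, 5, 6, 0, 2, 3, 4, 5, 1, 3, 4, 2, 3, 0, 2, 1, 3, 4, 5, 6, 7, 6, 5, 4, 3, 2, 1, 3, 4, 5, 6, 0, 2, 3, 4, 1, 3], [239]),
   (24, [6, 5, 4, 2, 3, 0, 2, 1, 3, 4, 5, 6, 7, 6, 5, 4, 3, 2, 1, 3, 4, 5, 6, 0, 2, 3, 4, 5, 1, 3, 4, 2, 3, 0, 2, 1, 3, 4, 5, 6, 7, 6, 5, 4, 3, 2, 1, 3, 4, 5, 0, 2, 3, 4, 1, 3], [239]),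
   (25, [3, 4, 5, 1, 3, 4, 2, 3, 0, 2, 1, 3, 4, 5, 6, 7, 5, 4, 3, 2, 1, 3, 4, 5, 6, 0, 2, 3, 4, 5, 1, 3, 4, 2, 3, 0, 2, 1, 3, 4, 5, 6, 7, 6, 5, 4, 3, 2, 1, 3, 4, 5, 6, 0, 2, 3, 4, 5, 1, 3, 4, 2, 3, 0, 2, 1, 3, 4, 5, 6, 5, 4, 3, 2, 1, 3, 4, 5, 0, 2, 3, 4, 1, 3], [239]),
   (26, [3, 4, 2, 3, 0, 2, 1, 3, 4, 5, 6, 7, 6, 5, 4, 3, 2, 1, 3, 4, 5, 6, 0, 2, 3, 4, 5, 1, 3, 4, 2, 3, 0, 2, 1, 3, 4, 5, 6, 7, 6, 5, 4, 3, 2, 1, 3, 4, 5, 6, 0, 2, 3, 4, 5, 1], [239]),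
   (27, [5, 3, 4, 2, 3, 0, 2, 1, 3, 4, 5, 6, 7, 6, 5, 4, 3, 2, 1, 3, 4, 5, 6, 0, 2, 3, 4, 5, 1, 3, 4, 2, 3, 0, 2, 1, 3, 4, 5, 6, 7, 6, 5, 4, 3, 2, 1, 3, 4, 5, 6, 0, 2, 3, 4, 1], [239]),
   (28, [6, 5, 3, 4, 2, 3, 0, 2, 1, 3, 4, 5, 6, 7, 6, 5, 4, 3, 2, 1, 3, 4, 5, 6, 0, 2, 3, 4, 5, 1, 3, 4, 2, 3, 0, 2, 1, 3, 4, 5, 6, 7, 6, 5, 4, 3, 2, 1, 3, 4, 5, 0, 2, 3, 4, 1], [239]),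
   (29, [4, 5, 1, 3, 4, 2, 3, 0, 2, 1, 3, 4, 5, 6, 7, 5, 4, 3, 2, 1, 3, 4, 5, 6, 0, 2, 3, 4, 5, 1, 3, 4, 2, 3, 0, 2, 1, 3, 4, 5, 6, 7, 6, 5, 4, 3, 2, 1, 3, 4, 5, 6, 0, 2, 3, 4, 5, 1, 3, 4, 2, 3, 0, 2, 1, 3, 4, 5, 6, 5, 4, 3, 2, 1, 3, 4, 5, 0, 2, 3, 4, 1], [239])]

/-- extensions of representative 0, part 1 -/
def tabE8_0_1 : List (ℕ × List ℕ × List ℕ) :=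
  [(30, [4, 5, 3, 4, 2, 3, 0, 2, 1, 3, 4, 5, 6, 7, 6, 5, 4, 3, 2, 1, 3, 4, 5, 6, 0, 2, 3, 4, 5, 1, 3, 4, 2, 3, 0, 2, 1, 3, 4, 5, 6, 7, 6, 5, 4, 3, 2, 1, 3, 4, 5, 6, 0, 2, 3, 1], [239]),
   (31, [6, 4, 5, 3, 4, 2, 3, 0, 2, 1, 3, 4, 5, 6, 7, 6, 5, 4, 3, 2, 1, 3, 4, 5, 6, 0, 2, 3, 4, 5, 1, 3, 4, 2, 3, 0, 2, 1, 3, 4, 5, 6, 7, 6, 5, 4, 3, 2, 1, 3, 4, 5, 0, 2, 3, 1], [239]),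
   (32, [5, 1, 3, 4, 2, 3, 0, 2, 1, 3, 4, 5, 6, 7, 5, 4, 3, 2, 1, 3, 4, 5, 6, 0, 2, 3, 4, 5, 1, 3, 4, 2, 3, 0, 2, 1, 3, 4, 5, 6, 7, 6, 5, 4, 3, 2, 1, 3, 4, 5, 6, 0, 2, 3, 4, 5, 1, 3, 4, 2, 3, 0, 2, 1, 3, 4, 5, 6, 5, 4, 3, 2, 1, 3, 4, 5, 0, 2, 3, 1], [239]),
   (33, [5, 6, 4, 5, 3, 4, 2, 3, 0, 2, 1, 3, 4, 5, 6, 7, 6, 5, 4, 3, 2, 1, 3, 4, 5, 6, 0, 2, 3, 4, 5, 1, 3, 4, 2, 3, 0, 2, 1, 3, 4, 5, 6, 7, 6, 5, 4, 3, 2, 1, 3, 4, 0, 2, 3, 1], [239]),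
   (34, [1, 3, 4, 2, 3, 0, 2, 1, 3, 4, 5, 6, 7, 5, 4, 3, 2, 1, 3, 4, 5, 6, 0, 2, 3, 4, 5, 1, 3, 4, 2, 3, 0, 2, 1, 3, 4, 5, 6, 7, 6, 5, 4, 3, 2, 1, 3, 4, 5, 6, 0, 2, 3, 4, 5, 1, 3, 4, 2, 3, 0, 2, 1, 3, 4, 5, 6, 5, 4, 3, 2, 1, 3, 4, 0, 2, 3, 1], [239]),
   (35, [1, 3, 4, 2, 3, 0, 2, 1, 3, 4, 5, 6, 7, 4, 3, 2, 1, 3, 4, 5, 6, 0, 2, 3, 4, 5, 1, 3, 4, 2, 3, 0, 2, 1, 3, 4, 5, 6, 7, 6, 5, 4, 3, 0, 2, 1, 3, 4, 5, 6, 0, 2, 3, 4, 5, 1, 3, 4, 2, 3, 0, 2, 1, 3, 4, 5, 4, 3, 2, 1, 3, 4, 0, 2, 3, 1], [239]),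
   (36, [1, 3, 4, 2, 3, 0, 2, 1, 3, 4, 5, 6, 7, 6, 5, 4, 3, 2, 1, 3, 4, 5, 6, 0, 2, 3, 4, 5, 1, 3, 4, 2, 3, 0, 2, 1, 3, 4, 5, 6, 7, 6, 5, 4, 3, 2, 1, 3, 4, 5, 6, 0, 2, 3, 4, 5], [239]),
   (37, [5, 1, 3, 4, 2, 3, 0, 2, 1, 3, 4, 5, 6, 7, 6, 5, 4, 3, 2, 1, 3, 4, 5, 6, 0, 2, 3, 4, 5, 1, 3, 4, 2, 3, 0, 2, 1, 3, 4, 5, 6, 7, 6, 5, 4, 3, 2, 1, 3, 4, 5, 6, 0, 2, 3, 4], [239]),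
   (38, [6, 5, 1, 3, 4, 2, 3, 0, 2, 1, 3, 4, 5, 6, 7, 6, 5, 4, 3, 2, 1, 3, 4, 5, 6, 0, 2, 3, 4, 5, 1, 3, 4, 2, 3, 0, 2, 1, 3, 4, 5, 6, 7, 6, 5, 4, 3, 2, 1, 3, 4, 5, 0, 2, 3, 4], [239]),
   (39, [4, 5, 3, 4, 2, 3, 0, 2, 1, 3, 4, 5, 6, 7, 5, 4, 3, 2, 1, 3, 4, 5, 6, 0, 2, 3, 4, 5, 1, 3, 4, 2, 3, 0, 2, 1, 3, 4, 5, 6, 7, 6, 5, 4, 3, 2, 1, 3, 4, 5, 6, 0, 2, 3, 4, 5, 1, 3, 4, 2, 3, 0, 2, 1, 3, 4, 5, 6, 5, 4, 3, 2, 1, 3, 4, 5, 0, 2, 3, 4], [239]),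
   (40, [4, 5, 1, 3, 4, 2, 3, 0, 2, 1, 3, 4, 5, 6, 7, 6, 5, 4, 3, 2, 1, 3, 4, 5, 6, 0, 2, 3, 4, 5, 1, 3, 4, 2, 3, 0, 2, 1, 3, 4, 5, 6, 7, 6, 5, 4, 3, 2, 1, 3, 4, 5, 6, 0, 2, 3], [239]),
   (41, [6, 4, 5, 1, 3, 4, 2, 3, 0, 2, 1, 3, 4, 5, 6, 7, 6, 5, 4, 3, 2, 1, 3, 4, 5, 6, 0, 2, 3, 4, 5, 1, 3, 4, 2, 3, 0, 2, 1, 3, 4, 5, 6, 7, 6, 5, 4, 3, 2, 1, 3, 4, 5, 0, 2, 3], [239]),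
   (42, [5, 3, 4, 2, 3, 0, 2, 1, 3, 4, 5, 6, 7, 5, 4, 3, 2, 1, 3, 4, 5, 6, 0, 2, 3, 4, 5, 1, 3, 4, 2, 3, 0, 2, 1, 3, 4, 5, 6, 7, 6, 5, 4, 3, 2, 1, 3, 4, 5, 6, 0, 2, 3, 4, 5, 1, 3, 4, 2, 3, 0, 2, 1, 3, 4, 5, 6, 5, 4, 3, 2, 1, 3, 4, 5, 0, 2, 3], [239]),
   (43, [5, 6, 4, 5, 1, 3, 4, 2, 3, 0, 2, 1, 3, 4, 5, 6, 7, 6, 5, 4, 3, 2, 1, 3, 4, 5, 6, 0, 2, 3, 4, 5, 1, 3, 4, 2, 3, 0, 2, 1, 3, 4, 5, 6, 7, 6, 5, 4, 3, 2, 1, 3, 4, 0, 2, 3], [239]),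
   (44, [3, 4, 2, 3, 0, 2, 1, 3, 4, 5, 6, 7, 5, 4, 3, 2, 1, 3, 4, 5, 6, 0, 2, 3, 4, 5, 1, 3, 4, 2, 3, 0, 2, 1, 3, 4, 5, 6, 7, 6, 5, 4, 3, 2, 1, 3, 4, 5, 6, 0, 2, 3, 4, 5, 1, 3, 4, 2, 3, 0, 2, 1, 3, 4, 5, 6, 5, 4, 3, 2, 1, 3, 4, 0, 2, 3], [239]),
   (45, [3, 4, 2, 3, 0, 2, 1, 3, 4, 5, 6, 7, 4, 3, 2, 1, 3, 4, 5, 6, 0, 2, 3, 4, 5, 1, 3, 4, 2, 3, 0, 2, 1, 3, 4, 5, 6, 7, 6, 5, 4, 3, 0, 2, 1, 3, 4, 5, 6, 0, 2, 3, 4, 5, 1, 3, 4, 2, 3, 0, 2, 1, 3, 4, 5, 4, 3, 2, 1, 3, 4, 0, 2, 3], [239]),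
   (46, [3, 4, 5, 1, 3, 4, 2, 3, 0, 2, 1, 3, 4, 5, 6, 7, 6, 5, 4, 3, 2, 1, 3, 4, 5, 6, 0, 2, 3, 4, 5, 1, 3, 4, 2, 3, 0, 2, 1, 3, 4, 5, 6, 7, 6, 5, 4, 3, 2, 1, 3, 4, 5, 6, 0, 2], [239]),
   (47, [6, 3, 4, 5, 1, 3, 4, 2, 3, 0, 2, 1, 3, 4, 5, 6, 7, 6, 5, 4, 3, 2, 1, 3, 4, 5, 6, 0, 2, 3, 4, 5, 1, 3, 4, 2, 3, 0, 2, 1, 3, 4, 5, 6, 7, 6, 5, 4, 3, 2, 1, 3, 4, 5, 0, 2], [239]),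
   (48, [5, 4, 2, 3, 0, 2, 1, 3, 4, 5, 6, 7, 5, 4, 3, 2, 1, 3, 4, 5, 6, 0, 2, 3, 4, 5, 1, 3, 4, 2, 3, 0, 2, 1, 3, 4, 5, 6, 7, 6, 5, 4, 3, 2, 1, 3, 4, 5, 6, 0, 2, 3, 4, 5, 1, 3, 4, 2, 3, 0, 2, 1, 3, 4, 5, 6, 5, 4, 3, 2, 1, 3, 4, 5, 0, 2], [239]),
   (49, [5, 6, 3, 4, 5, 1, 3, 4, 2, 3, 0, 2, 1, 3, 4, 5, 6, 7, 6, 5, 4, 3, 2, 1, 3, 4, 5, 6, 0, 2, 3, 4, 5, 1, 3, 4, 2, 3, 0, 2, 1, 3, 4, 5, 6, 7, 6, 5, 4, 3, 2, 1, 3, 4, 0, 2], [239]),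
   (50, [4, 2, 3, 0, 2, 1, 3, 4, 5, 6, 7, 5, 4, 3, 2, 1, 3, 4, 5, 6, 0, 2, 3, 4, 5, 1, 3, 4, 2, 3, 0, 2, 1, 3, 4, 5, 6, 7, 6, 5, 4, 3, 2, 1, 3, 4, 5, 6, 0, 2, 3, 4, 5, 1, 3, 4, 2, 3, 0, 2, 1, 3, 4, 5, 6, 5, 4, 3, 2, 1, 3, 4, 0, 2], [239]),
   (51, [4, 2, 3, 0, 2, 1, 3, 4, 5, 6, 7, 4, 3, 2, 1, 3, 4, 5, 6, 0, 2, 3, 4, 5, 1, 3, 4, 2, 3, 0, 2, 1, 3, 4, 5, 6, 7, 6, 5, 4, 3, 0, 2, 1, 3, 4, 5, 6, 0, 2, 3, 4, 5, 1, 3, 4, 2, 3, 0, 2, 1, 3, 4, 5, 4, 3, 2, 1, 3, 4, 0, 2], [239]),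
   (52, [4, 5, 6, 3, 4, 5, 1, 3, 4, 2, 3, 0, 2, 1, 3, 4, 5, 6, 7, 6, 5, 4, 3, 2, 1, 3, 4, 5, 6, 0, 2, 3, 4, 5, 1, 3, 4, 2, 3, 0, 2, 1, 3, 4, 5, 6, 7, 6, 5, 4, 3, 2, 1, 3, 0, 2], [239]),
   (53, [2, 3, 0, 2, 1, 3, 4, 5, 6, 7, 5, 4, 3, 2, 1, 3, 4, 5, 6, 0, 2, 3, 4, 5, 1, 3, 4, 2, 3, 0, 2, 1, 3, 4, 5, 6, 7, 6, 5, 4, 3, 2, 1, 3, 4, 5, 6, 0, 2, 3, 4, 5, 1, 3, 4, 2, 3, 0, 2, 1, 3, 4, 5, 6, 5, 4, 3, 2, 1, 3, 0, 2], [239]),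
   (54, [2, 3, 0, 2, 1, 3, 4, 5, 6, 7, 4, 3, 2, 1, 3, 4, 5, 6, 0, 2, 3, 4, 5, 1, 3, 4, 2, 3, 0, 2, 1, 3, 4, 5, 6, 7, 6, 5, 4, 3, 0, 2, 1, 3, 4, 5, 6, 0, 2, 3, 4, 5, 1, 3, 4, 2, 3, 0, 2, 1, 3, 4, 5, 4, 3, 2, 1, 3, 0, 2], [239]),
   (55, [2, 3, 0, 2, 1, 3, 4, 5, 6, 7, 3, 2, 1, 3, 4, 5, 6, 0, 2, 3, 4, 5, 1, 3, 4, 2, 3, 0, 2, 1, 3, 4, 5, 6, 7, 6, 5, 4, 3, 0, 2, 1, 3, 4, 5, 6, 0, 2, 1, 3, 4, 5, 1, 3, 4, 2, 3, 0, 2, 1, 3, 4, 3, 2, 1, 3, 0, 2], [239]),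
   (56, [2, 3, 4, 5, 1, 3, 4, 2, 3, 0, 2, 1, 3, 4, 5, 6, 7, 6, 5, 4, 3, 2, 1, 3, 4, 5, 6, 0, 2, 3, 4, 5, 1, 3, 4, 2, 3, 0, 2, 1, 3, 4, 5, 6, 7, 6, 5, 4, 3, 2, 1, 3, 4, 5, 6, 0], [239]),
   (57, [6, 2, 3, 4, 5, 1, 3, 4, 2, 3, 0, 2, 1, 3, 4, 5, 6, 7, 6, 5, 4, 3, 2, 1, 3, 4, 5, 6, 0, 2, 3, 4, 5, 1, 3, 4, 2, 3, 0, 2, 1, 3, 4, 5, 6, 7, 6, 5, 4, 3, 2, 1, 3, 4, 5, 0], [239]),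
   (58, [5, 4, 3, 0, 2, 1, 3, 4, 5, 6, 7, 5, 4, 3, 2, 1, 3, 4, 5, 6, 0, 2, 3, 4, 5, 1, 3, 4, 2, 3, 0, 2, 1, 3, 4, 5, 6, 7, 6, 5, 4, 3, 2, 1, 3, 4, 5, 6, 0, 2, 3, 4, 5, 1, 3, 4, 2, 3, 0, 2, 1, 3, 4, 5, 6, 5, 4, 3, 2, 1, 3, 4, 5, 0], [239]),
   (59, [5, 6, 2, 3, 4, 5, 1, 3, 4, 2, 3, 0, 2, 1, 3, 4, 5, 6, 7, 6, 5, 4, 3, 2, 1, 3, 4, 5, 6, 0, 2, 3, 4, 5, 1, 3, 4, 2, 3, 0, 2, 1, 3, 4, 5, 6, 7, 6, 5, 4, 3, 2, 1, 3, 4, 0], [239])]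

/-- extensions of representative 0, part 2 -/
def tabE8_0_2 : List (ℕ × List ℕ × List ℕ) :=
  [(60, [4, 3, 0, 2, 1, 3, 4, 5, 6, 7, 5, 4, 3, 2, 1, 3, 4, 5, 6, 0, 2, 3, 4, 5, 1, 3, 4, 2, 3, 0, 2, 1, 3, 4, 5, 6, 7, 6, 5, 4, 3, 2, 1, 3, 4, 5, 6, 0, 2, 3, 4, 5, 1, 3, 4, 2, 3, 0, 2, 1, 3, 4, 5, 6, 5, 4, 3, 2, 1, 3, 4, 0], [239]),
   (61, [4, 3, 0, 2, 1, 3, 4, 5, 6, 7, 4, 3, 2, 1, 3, 4, 5, 6, 0, 2, 3, 4, 5, 1, 3, 4, 2, 3, 0, 2, 1, 3, 4, 5, 6, 7, 6, 5, 4, 3, 0, 2, 1, 3, 4, 5, 6, 0, 2, 3, 4, 5, 1, 3, 4, 2, 3, 0, 2, 1, 3, 4, 5, 4, 3, 2, 1, 3, 4, 0], [239]),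
   (62, [4, 5, 6, 2, 3, 4, 5, 1, 3, 4, 2, 3, 0, 2, 1, 3, 4, 5, 6, 7, 6, 5, 4, 3, 2, 1, 3, 4, 5, 6, 0, 2, 3, 4, 5, 1, 3, 4, 2, 3, 0, 2, 1, 3, 4, 5, 6, 7, 6, 5, 4, 3, 2, 1, 3, 0], [239]),
   (63, [3, 0, 2, 1, 3, 4, 5, 6, 7, 5, 4, 3, 2, 1, 3, 4, 5, 6, 0, 2, 3, 4, 5, 1, 3, 4, 2, 3, 0, 2, 1, 3, 4, 5, 6, 7, 6, 5, 4, 3, 2, 1, 3, 4, 5, 6, 0, 2, 3, 4, 5, 1, 3, 4, 2, 3, 0, 2, 1, 3, 4, 5, 6, 5, 4, 3, 2, 1, 3, 0], [239]),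
   (64, [3, 0, 2, 1, 3, 4, 5, 6, 7, 4, 3, 2, 1, 3, 4, 5, 6, 0, 2, 3, 4, 5, 1, 3, 4, 2, 3, 0, 2, 1, 3, 4, 5, 6, 7, 6, 5, 4, 3, 0, 2, 1, 3, 4, 5, 6, 0, 2, 3, 4, 5, 1, 3, 4, 2, 3, 0, 2, 1, 3, 4, 5, 4, 3, 2, 1, 3, 0], [239]),
   (65, [3, 0, 2, 1, 3, 4, 5, 6, 7, 3, 2, 1, 3, 4, 5, 6, 0, 2, 3, 4, 5, 1, 3, 4, 2, 3, 0, 2, 1, 3, 4, 5, 6, 7, 6, 5, 4, 3, 0, 2, 1, 3, 4, 5, 6, 0, 2, 1, 3, 4, 5, 1, 3, 4, 2, 3, 0, 2, 1, 3, 4, 3, 2, 1, 3, 0], [239]),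
   (66, [3, 4, 5, 6, 2, 3, 4, 5, 1, 3, 4, 2, 3, 0, 2, 1, 3, 4, 5, 6, 7, 6, 5, 4, 3, 2, 1, 3, 4, 5, 6, 0, 2, 3, 4, 5, 1, 3, 4, 2, 3, 0, 2, 1, 3, 4, 5, 6, 7, 6, 5, 4, 3, 2, 1, 0], [239]),
   (67, [0, 2, 1, 3, 4, 5, 6, 7, 5, 4, 3, 2, 1, 3, 4, 5, 6, 0, 2, 3, 4, 5, 1, 3, 4, 2, 3, 0, 2, 1, 3, 4, 5, 6, 7, 6, 5, 4, 3, 2, 1, 3, 4, 5, 6, 0, 2, 3, 4, 5, 1, 3, 4, 2, 3, 0, 2, 1, 3, 4, 5, 6, 5, 4, 3, 2, 1, 0], [239]),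
   (68, [0, 2, 1, 3, 4, 5, 6, 7, 4, 3, 2, 1, 3, 4, 5, 6, 0, 2, 3, 4, 5, 1, 3, 4, 2, 3, 0, 2, 1, 3, 4, 5, 6, 7, 6, 5, 4, 3, 0, 2, 1, 3, 4, 5, 6, 0, 2, 3, 4, 5, 1, 3, 4, 2, 3, 0, 2, 1, 3, 4, 5, 4, 3, 2, 1, 0], [239]),
   (69, [0, 2, 1, 3, 4, 5, 6, 7, 3, 2, 1, 3, 4, 5, 6, 0, 2, 3, 4, 5, 1, 3, 4, 2, 3, 0, 2, 1, 3, 4, 5, 6, 7, 6, 5, 4, 3, 0, 2, 1, 3, 4, 5, 6, 0, 2, 1, 3, 4, 5, 1, 3, 4, 2, 3, 0, 2, 1, 3, 4, 3, 2, 1, 0], [239]),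
   (70, [0, 2, 1, 3, 4, 5, 6, 7, 2, 1, 3, 4, 5, 6, 0, 2, 3, 4, 5, 1, 3, 4, 2, 3, 0, 2, 1, 3, 4, 5, 6, 7, 6, 5, 4, 3, 0, 2, 1, 3, 4, 5, 6, 0, 2, 1, 3, 4, 5, 2, 1, 3, 4, 2, 3, 0, 2, 1, 3, 2, 1, 0], [239]),
   (71, [1, 3, 4, 5, 6, 2, 3, 4, 5, 1, 3, 4, 2, 3, 0, 2, 1, 3, 4, 5, 6, 7, 6, 5, 4, 3, 2, 1, 3, 4, 5, 6, 0, 2, 3, 4, 5, 1, 3, 4, 2, 3, 0, 2, 1, 3, 4, 5, 6, 7, 6, 5, 4, 3, 2, 0], [239]),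
   (72, [0, 2, 3, 4, 5, 6, 7, 5, 4, 3, 2, 1, 3, 4, 5, 6, 0, 2, 3, 4, 5, 1, 3, 4, 2, 3, 0, 2, 1, 3, 4, 5, 6, 7, 6, 5, 4, 3, 2, 1, 3, 4, 5, 6, 0, 2, 3, 4, 5, 1, 3, 4, 2, 3, 0, 2, 1, 3, 4, 5, 6, 5, 4, 3, 2, 0], [239]),
   (73, [0, 2, 3, 4, 5, 6, 7, 4, 3, 2, 1, 3, 4, 5, 6, 0, 2, 3, 4, 5, 1, 3, 4, 2, 3, 0, 2, 1, 3, 4, 5, 6, 7, 6, 5, 4, 3, 0, 2, 1, 3, 4, 5, 6, 0, 2, 3, 4, 5, 1, 3, 4, 2, 3, 0, 2, 1, 3, 4, 5, 4, 3, 2, 0], [239]),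
   (74, [0, 2, 3, 4, 5, 6, 7, 3, 2, 1, 3, 4, 5, 6, 0, 2, 3, 4, 5, 1, 3, 4, 2, 3, 0, 2, 1, 3, 4, 5, 6, 7, 6, 5, 4, 3, 0, 2, 1, 3, 4, 5, 6, 0, 2, 1, 3, 4, 5, 1, 3, 4, 2, 3, 0, 2, 1, 3, 4, 3, 2, 0], [239]),
   (75, [0, 2, 3, 4, 5, 6, 7, 2, 1, 3, 4, 5, 6, 0, 2, 3, 4, 5, 1, 3, 4, 2, 3, 0, 2, 1, 3, 4, 5, 6, 7, 6, 5, 4, 3, 0, 2, 1, 3, 4, 5, 6, 0, 2, 1, 3, 4, 5, 2, 1, 3, 4, 2, 3, 0, 2, 1, 3, 2, 0], [239]),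
   (76, [0, 2, 3, 4, 5, 6, 7, 1, 3, 4, 5, 6, 0, 2, 3, 4, 5, 1, 3, 4, 2, 3, 0, 2, 1, 3, 4, 5, 6, 7, 6, 5, 4, 3, 0, 2, 1, 3, 4, 5, 6, 0, 2, 1, 3, 4, 5, 2, 1, 3, 4, 2, 1, 3, 0, 2, 1, 0], [239]),
   (77, [0, 2, 3, 4, 5, 6, 7, 1, 3, 4, 5, 6, 2, 3, 4, 5, 1, 3, 4, 2, 3, 0, 2, 1, 3, 4, 5, 6, 7, 6, 5, 4, 3, 0, 2, 1, 3, 4, 5, 6, 0, 2, 1, 3, 4, 5, 2, 1, 3, 4, 2, 1, 3, 2, 1, 0], [239]),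
   (78, [0, 2, 3, 4, 5, 1, 3, 4, 2, 3, 0, 2, 1, 3, 4, 5, 6, 7, 6, 5, 4, 3, 2, 1, 3, 4, 5, 6, 0, 2, 3, 4, 5, 1, 3, 4, 2, 3, 0, 2, 1, 3, 4, 5, 6, 7, 6, 5, 4, 3, 2, 1, 3, 4, 5, 6], [239]),
   (79, [6, 0, 2, 3, 4, 5, 1, 3, 4, 2, 3, 0, 2, 1, 3, 4, 5, 6, 7, 6, 5, 4, 3, 2, 1, 3, 4, 5, 6, 0, 2, 3, 4, 5, 1, 3, 4, 2, 3, 0, 2, 1, 3, 4, 5, 6, 7, 6, 5, 4, 3, 2, 1, 3, 4, 5], [239]),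
   (80, [5, 4, 3, 2, 1, 3, 4, 5, 6, 7, 5, 4, 3, 2, 1, 3, 4, 5, 6, 0, 2, 3, 4, 5, 1, 3, 4, 2, 3, 0, 2, 1, 3, 4, 5, 6, 7, 6, 5, 4, 3, 2, 1, 3, 4, 5, 6, 0, 2, 3, 4, 5, 1, 3, 4, 2, 3, 0, 2, 1, 3, 4, 5, 6, 5, 4, 3, 2, 1, 3, 4, 5], [239]),
   (81, [5, 6, 0, 2, 3, 4, 5, 1, 3, 4, 2, 3, 0, 2, 1, 3, 4, 5, 6, 7, 6, 5, 4, 3, 2, 1, 3, 4, 5, 6, 0, 2, 3, 4, 5, 1, 3, 4, 2, 3, 0, 2, 1, 3, 4, 5, 6, 7, 6, 5, 4, 3, 2, 1, 3, 4], [239]),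
   (82, [4, 3, 2, 1, 3, 4, 5, 6, 7, 5, 4, 3, 2, 1, 3, 4, 5, 6, 0, 2, 3, 4, 5, 1, 3, 4, 2, 3, 0, 2, 1, 3, 4, 5, 6, 7, 6, 5, 4, 3, 2, 1, 3, 4, 5, 6, 0, 2, 3, 4, 5, 1, 3, 4, 2, 3, 0, 2, 1, 3, 4, 5, 6, 5, 4, 3, 2, 1, 3, 4], [239]),
   (83, [4, 3, 2, 1, 3, 4, 5, 6, 7, 4, 3, 2, 1, 3, 4, 5, 6, 0, 2, 3, 4, 5, 1, 3, 4, 2, 3, 0, 2, 1, 3, 4, 5, 6, 7, 6, 5, 4, 3, 0, 2, 1, 3, 4, 5, 6, 0, 2, 3, 4, 5, 1, 3, 4, 2, 3, 0, 2, 1, 3, 4, 5, 4, 3, 2, 1, 3, 4], [239]),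
   (84, [4, 5, 6, 0, 2, 3, 4, 5, 1, 3, 4, 2, 3, 0, 2, 1, 3, 4, 5, 6, 7, 6, 5, 4, 3, 2, 1, 3, 4, 5, 6, 0, 2, 3, 4, 5, 1, 3, 4, 2, 3, 0, 2, 1, 3, 4, 5, 6, 7, 6, 5, 4, 3, 2, 1, 3], [239]),
   (85, [3, 2, 1, 3, 4, 5, 6, 7, 5, 4, 3, 2, 1, 3, 4, 5, 6, 0, 2, 3, 4, 5, 1, 3, 4, 2, 3, 0, 2, 1, 3, 4, 5, 6, 7, 6, 5, 4, 3, 2, 1, 3, 4, 5, 6, 0, 2, 3, 4, 5, 1, 3, 4, 2, 3, 0, 2, 1, 3, 4, 5, 6, 5, 4, 3, 2, 1, 3], [239]),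
   (86, [3, 2, 1, 3, 4, 5, 6, 7, 4, 3, 2, 1, 3, 4, 5, 6, 0, 2, 3, 4, 5, 1, 3, 4, 2, 3, 0, 2, 1, 3, 4, 5, 6, 7, 6, 5, 4, 3, 0, 2, 1, 3, 4, 5, 6, 0, 2, 3, 4, 5, 1, 3, 4, 2, 3, 0, 2, 1, 3, 4, 5, 4, 3, 2, 1, 3], [239]),
   (87, [3, 2, 1, 3, 4, 5, 6, 7, 3, 2, 1, 3, 4, 5, 6, 0, 2, 3, 4, 5, 1, 3, 4, 2, 3, 0, 2, 1, 3, 4, 5, 6, 7, 6, 5, 4, 3, 0, 2, 1, 3, 4, 5, 6, 0, 2, 1, 3, 4, 5, 1, 3, 4, 2, 3, 0, 2, 1, 3, 4, 3, 2, 1, 3], [239]),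
   (88, [3, 4, 5, 6, 0, 2, 3, 4, 5, 1, 3, 4, 2, 3, 0, 2, 1, 3, 4, 5, 6, 7, 6, 5, 4, 3, 2, 1, 3, 4, 5, 6, 0, 2, 3, 4, 5, 1, 3, 4, 2, 3, 0, 2, 1, 3, 4, 5, 6, 7, 6, 5, 4, 3, 2, 1], [239]),
   (89, [2, 1, 3, 4, 5, 6, 7, 5, 4, 3, 2, 1, 3, 4, 5, 6, 0, 2, 3, 4, 5, 1, 3, 4, 2, 3, 0, 2, 1, 3, 4, 5, 6, 7, 6, 5, 4, 3, 2, 1, 3, 4, 5, 6, 0, 2, 3, 4, 5, 1, 3, 4, 2, 3, 0, 2, 1, 3, 4, 5, 6, 5, 4, 3, 2, 1], [239])]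

/-- extensions of representative 0, part 3 -/
def tabE8_0_3 : List (ℕ × List ℕ × List ℕ) :=
  [(90, [2, 1, 3, 4, 5, 6, 7, 4, 3, 2, 1, 3, 4, 5, 6, 0, 2, 3, 4, 5, 1, 3, 4, 2, 3, 0, 2, 1, 3, 4, 5, 6, 7, 6, 5, 4, 3, 0, 2, 1, 3, 4, 5, 6, 0, 2, 3, 4, 5, 1, 3, 4, 2, 3, 0, 2, 1, 3, 4, 5, 4, 3, 2, 1], [239]),
   (91, [2, 1, 3, 4, 5, 6, 7, 3, 2, 1, 3, 4, 5, 6, 0, 2, 3, 4, 5, 1, 3, 4, 2, 3, 0, 2, 1, 3, 4, 5, 6, 7, 6, 5, 4, 3, 0, 2, 1, 3, 4, 5, 6, 0, 2, 1, 3, 4, 5, 1, 3, 4, 2, 3, 0, 2, 1, 3, 4, 3, 2, 1], [239]),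
   (92, [2, 1, 3, 4, 5, 6, 7, 2, 1, 3, 4, 5, 6, 0, 2, 3, 4, 5, 1, 3, 4, 2, 3, 0, 2, 1, 3, 4, 5, 6, 7, 6, 5, 4, 3, 0, 2, 1, 3, 4, 5, 6, 0, 2, 1, 3, 4, 5, 2, 1, 3, 4, 2, 3, 0, 2, 1, 3, 2, 1], [239]),
   (93, [2, 3, 4, 5, 6, 0, 2, 3, 4, 5, 1, 3, 4, 2, 3, 0, 2, 1, 3, 4, 5, 6, 7, 6, 5, 4, 3, 2, 1, 3, 4, 5, 6, 0, 2, 3, 4, 5, 1, 3, 4, 2, 3, 0, 2, 1, 3, 4, 5, 6, 7, 6, 5, 4, 3, 1], [239]),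
   (94, [1, 3, 4, 5, 6, 7, 5, 4, 3, 2, 1, 3, 4, 5, 6, 0, 2, 3, 4, 5, 1, 3, 4, 2, 3, 0, 2, 1, 3, 4, 5, 6, 7, 6, 5, 4, 3, 2, 1, 3, 4, 5, 6, 0, 2, 3, 4, 5, 1, 3, 4, 2, 3, 0, 2, 1, 3, 4, 5, 6, 5, 4, 3, 1], [239]),
   (95, [1, 3, 4, 5, 6, 7, 4, 3, 2, 1, 3, 4, 5, 6, 0, 2, 3, 4, 5, 1, 3, 4, 2, 3, 0, 2, 1, 3, 4, 5, 6, 7, 6, 5, 4, 3, 0, 2, 1, 3, 4, 5, 6, 0, 2, 3, 4, 5, 1, 3, 4, 2, 3, 0, 2, 1, 3, 4, 5, 4, 3, 1], [239]),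
   (96, [1, 3, 4, 5, 6, 7, 3, 2, 1, 3, 4, 5, 6, 0, 2, 3, 4, 5, 1, 3, 4, 2, 3, 0, 2, 1, 3, 4, 5, 6, 7, 6, 5, 4, 3, 0, 2, 1, 3, 4, 5, 6, 0, 2, 1, 3, 4, 5, 1, 3, 4, 2, 3, 0, 2, 1, 3, 4, 3, 1], [239]),
   (97, [1, 3, 4, 5, 6, 7, 2, 1, 3, 4, 5, 6, 0, 2, 3, 4, 5, 1, 3, 4, 2, 3, 0, 2, 1, 3, 4, 5, 6, 7, 6, 5, 4, 3, 0, 2, 1, 3, 4, 5, 6, 0, 2, 1, 3, 4, 5, 2, 1, 3, 4, 2, 3, 0, 2, 1, 3, 1], [239]),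
   (98, [1, 3, 4, 5, 6, 7, 2, 3, 4, 5, 6, 0, 2, 3, 4, 5, 1, 3, 4, 2, 3, 0, 2, 1, 3, 4, 5, 6, 7, 6, 5, 4, 3, 0, 2, 1, 3, 4, 5, 6, 0, 2, 1, 3, 4, 5, 2, 1, 3, 4, 0, 2, 3, 0, 2, 1], [239]),
   (99, [1, 3, 4, 5, 6, 0, 2, 3, 4, 5, 1, 3, 4, 2, 3, 0, 2, 1, 3, 4, 5, 6, 7, 6, 5, 4, 3, 2, 1, 3, 4, 5, 6, 0, 2, 3, 4, 5, 1, 3, 4, 2, 3, 0, 2, 1, 3, 4, 5, 6, 7, 6, 5, 4, 3, 2], [239]),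
   (100, [2, 3, 4, 5, 6, 7, 5, 4, 3, 2, 1, 3, 4, 5, 6, 0, 2, 3, 4, 5, 1, 3, 4, 2, 3, 0, 2, 1, 3, 4, 5, 6, 7, 6, 5, 4, 3, 2, 1, 3, 4, 5, 6, 0, 2, 3, 4, 5, 1, 3, 4, 2, 3, 0, 2, 1, 3, 4, 5, 6, 5, 4, 3, 2], [239]),
   (101, [2, 3, 4, 5, 6, 7, 4, 3, 2, 1, 3, 4, 5, 6, 0, 2, 3, 4, 5, 1, 3, 4, 2, 3, 0, 2, 1, 3, 4, 5, 6, 7, 6, 5, 4, 3, 0, 2, 1, 3, 4, 5, 6, 0, 2, 3, 4, 5, 1, 3, 4, 2, 3, 0, 2, 1, 3, 4, 5, 4, 3, 2], [239]),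
   (102, [2, 3, 4, 5, 6, 7, 3, 2, 1, 3, 4, 5, 6, 0, 2, 3, 4, 5, 1, 3, 4, 2, 3, 0, 2, 1, 3, 4, 5, 6, 7, 6, 5, 4, 3, 0, 2, 1, 3, 4, 5, 6, 0, 2, 1, 3, 4, 5, 1, 3, 4, 2, 3, 0, 2, 1, 3, 4, 3, 2], [239]),
   (103, [2, 3, 4, 5, 6, 7, 2, 1, 3, 4, 5, 6, 0, 2, 3, 4, 5, 1, 3, 4, 2, 3, 0, 2, 1, 3, 4, 5, 6, 7, 6, 5, 4, 3, 0, 2, 1, 3, 4, 5, 6, 0, 2, 1, 3, 4, 5, 2, 1, 3, 4, 2, 3, 0, 2, 1, 3, 2], [239]),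
   (104, [2, 3, 4, 5, 6, 7, 1, 3, 4, 5, 6, 0, 2, 3, 4, 5, 1, 3, 4, 2, 3, 0, 2, 1, 3, 4, 5, 6, 7, 6, 5, 4, 3, 0, 2, 1, 3, 4, 5, 6, 0, 2, 1, 3, 4, 5, 2, 1, 3, 4, 2, 1, 3, 0, 2, 1], [239]),
   (105, [2, 1, 3, 4, 5, 6, 0, 2, 3, 4, 5, 1, 3, 4, 2, 3, 0, 2, 1, 3, 4, 5, 6, 7, 6, 5, 4, 3, 2, 1, 3, 4, 5, 6, 0, 2, 3, 4, 5, 1, 3, 4, 2, 3, 0, 2, 1, 3, 4, 5, 6, 7, 6, 5, 4, 3], [239]),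
   (106, [3, 4, 5, 6, 7, 5, 4, 3, 2, 1, 3, 4, 5, 6, 0, 2, 3, 4, 5, 1, 3, 4, 2, 3, 0, 2, 1, 3, 4, 5, 6, 7, 6, 5, 4, 3, 2, 1, 3, 4, 5, 6, 0, 2, 3, 4, 5, 1, 3, 4, 2, 3, 0, 2, 1, 3, 4, 5, 6, 5, 4, 3], [239]),
   (107, [3, 4, 5, 6, 7, 4, 3, 2, 1, 3, 4, 5, 6, 0, 2, 3, 4, 5, 1, 3, 4, 2, 3, 0, 2, 1, 3, 4, 5, 6, 7, 6, 5, 4, 3, 0, 2, 1, 3, 4, 5, 6, 0, 2, 3, 4, 5, 1, 3, 4, 2, 3, 0, 2, 1, 3, 4, 5, 4, 3], [239]),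
   (108, [3, 4, 5, 6, 7, 3, 2, 1, 3, 4, 5, 6, 0, 2, 3, 4, 5, 1, 3, 4, 2, 3, 0, 2, 1, 3, 4, 5, 6, 7, 6, 5, 4, 3, 0, 2, 1, 3, 4, 5, 6, 0, 2, 1, 3, 4, 5, 1, 3, 4, 2, 3, 0, 2, 1, 3, 4, 3], [239]),
   (109, [3, 4, 5, 6, 7, 2, 1, 3, 4, 5, 6, 0, 2, 3, 4, 5, 1, 3, 4, 2, 3, 0, 2, 1, 3, 4, 5, 6, 7, 6, 5, 4, 3, 0, 2, 1, 3, 4, 5, 6, 0, 2, 1, 3, 4, 5, 2, 1, 3, 4, 2, 3, 0, 2, 1, 3], [239]),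
   (110, [3, 2, 1, 3, 4, 5, 6, 0, 2, 3, 4, 5, 1, 3, 4, 2, 3, 0, 2, 1, 3, 4, 5, 6, 7, 6, 5, 4, 3, 2, 1, 3, 4, 5, 6, 0, 2, 3, 4, 5, 1, 3, 4, 2, 3, 0, 2, 1, 3, 4, 5, 6, 7, 6, 5, 4], [239]),
   (111, [4, 5, 6, 7, 5, 4, 3, 2, 1, 3, 4, 5, 6, 0, 2, 3, 4, 5, 1, 3, 4, 2, 3, 0, 2, 1, 3, 4, 5, 6, 7, 6, 5, 4, 3, 2, 1, 3, 4, 5, 6, 0, 2, 3, 4, 5, 1, 3, 4, 2, 3, 0, 2, 1, 3, 4, 5, 6, 5, 4], [239]),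
   (112, [4, 5, 6, 7, 4, 3, 2, 1, 3, 4, 5, 6, 0, 2, 3, 4, 5, 1, 3, 4, 2, 3, 0, 2, 1, 3, 4, 5, 6, 7, 6, 5, 4, 3, 0, 2, 1, 3, 4, 5, 6, 0, 2, 3, 4, 5, 1, 3, 4, 2, 3, 0, 2, 1, 3, 4, 5, 4], [239]),
   (113, [4, 5, 6, 7, 3, 2, 1, 3, 4, 5, 6, 0, 2, 3, 4, 5, 1, 3, 4, 2, 3, 0, 2, 1, 3, 4, 5, 6, 7, 6, 5, 4, 3, 0, 2, 1, 3, 4, 5, 6, 0, 2, 1, 3, 4, 5, 1, 3, 4, 2, 3, 0, 2, 1, 3, 4], [239]),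
   (114, [4, 3, 2, 1, 3, 4, 5, 6, 0, 2, 3, 4, 5, 1, 3, 4, 2, 3, 0, 2, 1, 3, 4, 5, 6, 7, 6, 5, 4, 3, 2, 1, 3, 4, 5, 6, 0, 2, 3, 4, 5, 1, 3, 4, 2, 3, 0, 2, 1, 3, 4, 5, 6, 7, 6, 5], [239]),
   (115, [5, 6, 7, 5, 4, 3, 2, 1, 3, 4, 5, 6, 0, 2, 3, 4, 5, 1, 3, 4, 2, 3, 0, 2, 1, 3, 4, 5, 6, 7, 6, 5, 4, 3, 2, 1, 3, 4, 5, 6, 0, 2, 3, 4, 5, 1, 3, 4, 2, 3, 0, 2, 1, 3, 4, 5, 6, 5], [239]),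
   (116, [5, 6, 7, 4, 3, 2, 1, 3, 4, 5, 6, 0, 2, 3, 4, 5, 1, 3, 4, 2, 3, 0, 2, 1, 3, 4, 5, 6, 7, 6, 5, 4, 3, 0, 2, 1, 3, 4, 5, 6, 0, 2, 3, 4, 5, 1, 3, 4, 2, 3, 0, 2, 1, 3, 4, 5], [239]),
   (117, [5, 4, 3, 2, 1, 3, 4, 5, 6, 0, 2, 3, 4, 5, 1, 3, 4, 2, 3, 0, 2, 1, 3, 4, 5, 6, 7, 6, 5, 4, 3, 2, 1, 3, 4, 5, 6, 0, 2, 3, 4, 5, 1, 3, 4, 2, 3, 0, 2, 1, 3, 4, 5, 6, 7, 6], [239]),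
   (118, [6, 7, 5, 4, 3, 2, 1, 3, 4, 5, 6, 0, 2, 3, 4, 5, 1, 3, 4, 2, 3, 0, 2, 1, 3, 4, 5, 6, 7, 6, 5, 4, 3, 2, 1, 3, 4, 5, 6, 0, 2, 3, 4, 5, 1, 3, 4, 2, 3, 0, 2, 1, 3, 4, 5, 6], [239]),
   (119, [6, 5, 4, 3, 2, 1, 3, 4, 5, 6, 0, 2, 3, 4, 5, 1, 3, 4, 2, 3, 0, 2, 1, 3, 4, 5, 6, 7, 6, 5, 4, 3, 2, 1, 3, 4, 5, 6, 0, 2, 3, 4, 5, 1, 3, 4, 2, 3, 0, 2, 1, 3, 4, 5, 6, 7], [239])]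

/-- extensions of representative 0, part 4 -/
def tabE8_0_4 : List (ℕ × List ℕ × List ℕ) :=
  [(120, [6, 5, 4, 3, 2, 1, 3, 4, 5, 6, 0, 2, 3, 4, 5, 1, 3, 4, 2, 3, 0, 2, 1, 3, 4, 5, 6, 7, 6, 5, 4, 3, 2, 1, 3, 4, 5, 6, 0, 2, 3, 4, 5, 1, 3, 4, 2, 3, 0, 2, 1, 3, 4, 5, 6], [239]),
   (121, [7, 5, 4, 3, 2, 1, 3, 4, 5, 6, 0, 2, 3, 4, 5, 1, 3, 4, 2, 3, 0, 2, 1, 3, 4, 5, 6, 7, 6, 5, 4, 3, 2, 1, 3, 4, 5, 6, 0, 2, 3, 4, 5, 1, 3, 4, 2, 3, 0, 2, 1, 3, 4, 5], [239]),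
   (122, [5, 4, 3, 2, 1, 3, 4, 5, 6, 0, 2, 3, 4, 5, 1, 3, 4, 2, 3, 0, 2, 1, 3, 4, 5, 6, 7, 6, 5, 4, 3, 2, 1, 3, 4, 5, 6, 0, 2, 3, 4, 5, 1, 3, 4, 2, 3, 0, 2, 1, 3, 4, 5], [239]),
   (123, [6, 7, 4, 3, 2, 1, 3, 4, 5, 6, 0, 2, 3, 4, 5, 1, 3, 4, 2, 3, 0, 2, 1, 3, 4, 5, 6, 7, 6, 5, 4, 3, 0, 2, 1, 3, 4, 5, 6, 0, 2, 3, 4, 5, 1, 3, 4, 2, 3, 0, 2, 1, 3, 4], [239]),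
   (124, [7, 4, 3, 2, 1, 3, 4, 5, 6, 0, 2, 3, 4, 5, 1, 3, 4, 2, 3, 0, 2, 1, 3, 4, 5, 6, 7, 6, 5, 4, 3, 2, 1, 3, 4, 5, 6, 0, 2, 3, 4, 5, 1, 3, 4, 2, 3, 0, 2, 1, 3, 4], [239]),
   (125, [4, 3, 2, 1, 3, 4, 5, 6, 0, 2, 3, 4, 5, 1, 3, 4, 2, 3, 0, 2, 1, 3, 4, 5, 6, 7, 6, 5, 4, 3, 2, 1, 3, 4, 5, 6, 0, 2, 3, 4, 5, 1, 3, 4, 2, 3, 0, 2, 1, 3, 4], [239]),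
   (126, [5, 6, 7, 3, 2, 1, 3, 4, 5, 6, 0, 2, 3, 4, 5, 1, 3, 4, 2, 3, 0, 2, 1, 3, 4, 5, 6, 7, 6, 5, 4, 3, 0, 2, 1, 3, 4, 5, 6, 0, 2, 1, 3, 4, 5, 1, 3, 4, 2, 3, 0, 2, 1, 3], [239]),
   (127, [6, 7, 3, 2, 1, 3, 4, 5, 6, 0, 2, 3, 4, 5, 1, 3, 4, 2, 3, 0, 2, 1, 3, 4, 5, 6, 7, 6, 5, 4, 3, 0, 2, 1, 3, 4, 5, 6, 0, 2, 3, 4, 5, 1, 3, 4, 2, 3, 0, 2, 1, 3], [239]),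
   (128, [7, 3, 2, 1, 3, 4, 5, 6, 0, 2, 3, 4, 5, 1, 3, 4, 2, 3, 0, 2, 1, 3, 4, 5, 6, 7, 6, 5, 4, 3, 2, 1, 3, 4, 5, 6, 0, 2, 3, 4, 5, 1, 3, 4, 2, 3, 0, 2, 1, 3], [239]),
   (129, [3, 2, 1, 3, 4, 5, 6, 0, 2, 3, 4, 5, 1, 3, 4, 2, 3, 0, 2, 1, 3, 4, 5, 6, 7, 6, 5, 4, 3, 2, 1, 3, 4, 5, 6, 0, 2, 3, 4, 5, 1, 3, 4, 2, 3, 0, 2, 1, 3], [239]),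
   (130, [4, 5, 6, 7, 2, 1, 3, 4, 5, 6, 0, 2, 3, 4, 5, 1, 3, 4, 2, 3, 0, 2, 1, 3, 4, 5, 6, 7, 6, 5, 4, 3, 0, 2, 1, 3, 4, 5, 6, 0, 2, 1, 3, 4, 5, 2, 1, 3, 4, 2, 3, 0, 2, 1], [239]),
   (131, [5, 6, 7, 2, 1, 3, 4, 5, 6, 0, 2, 3, 4, 5, 1, 3, 4, 2, 3, 0, 2, 1, 3, 4, 5, 6, 7, 6, 5, 4, 3, 0, 2, 1, 3, 4, 5, 6, 0, 2, 1, 3, 4, 5, 1, 3, 4, 2, 3, 0, 2, 1], [239]),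
   (132, [6, 7, 2, 1, 3, 4, 5, 6, 0, 2, 3, 4, 5, 1, 3, 4, 2, 3, 0, 2, 1, 3, 4, 5, 6, 7, 6, 5, 4, 3, 0, 2, 1, 3, 4, 5, 6, 0, 2, 3, 4, 5, 1, 3, 4, 2, 3, 0, 2, 1], [239]),
   (133, [7, 2, 1, 3, 4, 5, 6, 0, 2, 3, 4, 5, 1, 3, 4, 2, 3, 0, 2, 1, 3, 4, 5, 6, 7, 6, 5, 4, 3, 2, 1, 3, 4, 5, 6, 0, 2, 3, 4, 5, 1, 3, 4, 2, 3, 0, 2, 1], [239]),
   (134, [2, 1, 3, 4, 5, 6, 0, 2, 3, 4, 5, 1, 3, 4, 2, 3, 0, 2, 1, 3, 4, 5, 6, 7, 6, 5, 4, 3, 2, 1, 3, 4, 5, 6, 0, 2, 3, 4, 5, 1, 3, 4, 2, 3, 0, 2, 1], [239]),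
   (135, [3, 4, 5, 6, 7, 1, 3, 4, 5, 6, 0, 2, 3, 4, 5, 1, 3, 4, 2, 3, 0, 2, 1, 3, 4, 5, 6, 7, 6, 5, 4, 3, 0, 2, 1, 3, 4, 5, 6, 0, 2, 1, 3, 4, 5, 2, 1, 3, 4, 2, 1, 3, 1, 0], [239]),
   (136, [4, 5, 6, 7, 1, 3, 4, 5, 6, 0, 2, 3, 4, 5, 1, 3, 4, 2, 3, 0, 2, 1, 3, 4, 5, 6, 7, 6, 5, 4, 3, 0, 2, 1, 3, 4, 5, 6, 0, 2, 1, 3, 4, 5, 2, 1, 3, 4, 2, 3, 1, 0], [239]),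
   (137, [5, 6, 7, 1, 3, 4, 5, 6, 0, 2, 3, 4, 5, 1, 3, 4, 2, 3, 0, 2, 1, 3, 4, 5, 6, 7, 6, 5, 4, 3, 0, 2, 1, 3, 4, 5, 6, 0, 2, 1, 3, 4, 5, 1, 3, 4, 2, 3, 1, 0], [239]),
   (138, [6, 7, 1, 3, 4, 5, 6, 0, 2, 3, 4, 5, 1, 3, 4, 2, 3, 0, 2, 1, 3, 4, 5, 6, 7, 6, 5, 4, 3, 0, 2, 1, 3, 4, 5, 6, 0, 2, 3, 4, 5, 1, 3, 4, 2, 3, 1, 0], [239]),
   (139, [7, 1, 3, 4, 5, 6, 0, 2, 3, 4, 5, 1, 3, 4, 2, 3, 0, 2, 1, 3, 4, 5, 6, 7, 6, 5, 4, 3, 2, 1, 3, 4, 5, 6, 0, 2, 3, 4, 5, 1, 3, 4, 2, 3, 1, 0], [239]),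
   (140, [1, 3, 4, 5, 6, 0, 2, 3, 4, 5, 1, 3, 4, 2, 3, 0, 2, 1, 3, 4, 5, 6, 7, 6, 5, 4, 3, 2, 1, 3, 4, 5, 6, 0, 2, 3, 4, 5, 1, 3, 4, 2, 3, 1, 0], [239]),
   (141, [3, 4, 5, 6, 7, 2, 3, 4, 5, 6, 0, 2, 3, 4, 5, 1, 3, 4, 2, 3, 0, 2, 1, 3, 4, 5, 6, 7, 6, 5, 4, 3, 0, 2, 1, 3, 4, 5, 6, 0, 2, 1, 3, 4, 5, 2, 1, 3, 4, 0, 2, 3, 0, 2], [239]),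
   (142, [4, 5, 6, 7, 2, 3, 4, 5, 6, 0, 2, 3, 4, 5, 1, 3, 4, 2, 3, 0, 2, 1, 3, 4, 5, 6, 7, 6, 5, 4, 3, 0, 2, 1, 3, 4, 5, 6, 0, 2, 1, 3, 4, 5, 2, 1, 3, 4, 2, 3, 0, 2], [239]),
   (143, [5, 6, 7, 2, 3, 4, 5, 6, 0, 2, 3, 4, 5, 1, 3, 4, 2, 3, 0, 2, 1, 3, 4, 5, 6, 7, 6, 5, 4, 3, 0, 2, 1, 3, 4, 5, 6, 0, 2, 1, 3, 4, 5, 1, 3, 4, 2, 3, 0, 2], [239]),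
   (144, [6, 7, 2, 3, 4, 5, 6, 0, 2, 3, 4, 5, 1, 3, 4, 2, 3, 0, 2, 1, 3, 4, 5, 6, 7, 6, 5, 4, 3, 0, 2, 1, 3, 4, 5, 6, 0, 2, 3, 4, 5, 1, 3, 4, 2, 3, 0, 2], [239]),
   (145, [7, 2, 3, 4, 5, 6, 0, 2, 3, 4, 5, 1, 3, 4, 2, 3, 0, 2, 1, 3, 4, 5, 6, 7, 6, 5, 4, 3, 2, 1, 3, 4, 5, 6, 0, 2, 3, 4, 5, 1, 3, 4, 2, 3, 0, 2], [239]),
   (146, [2, 3, 4, 5, 6, 0, 2, 3, 4, 5, 1, 3, 4, 2, 3, 0, 2, 1, 3, 4, 5, 6, 7, 6, 5, 4, 3, 2, 1, 3, 4, 5, 6, 0, 2, 3, 4, 5, 1, 3, 4, 2, 3, 0, 2], [239]),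
   (147, [4, 5, 6, 7, 3, 4, 5, 6, 0, 2, 3, 4, 5, 1, 3, 4, 2, 3, 0, 2, 1, 3, 4, 5, 6, 7, 6, 5, 4, 3, 0, 2, 1, 3, 4, 5, 6, 0, 2, 1, 3, 4, 5, 2, 1, 3, 4, 2, 3, 0], [239]),
   (148, [5, 6, 7, 3, 4, 5, 6, 0, 2, 3, 4, 5, 1, 3, 4, 2, 3, 0, 2, 1, 3, 4, 5, 6, 7, 6, 5, 4, 3, 0, 2, 1, 3, 4, 5, 6, 0, 2, 1, 3, 4, 5, 1, 3, 4, 2, 3, 0], [239]),
   (149, [6, 7, 3, 4, 5, 6, 0, 2, 3, 4, 5, 1, 3, 4, 2, 3, 0, 2, 1, 3, 4, 5, 6, 7, 6, 5, 4, 3, 0, 2, 1, 3, 4, 5, 6, 0, 2, 3, 4, 5, 1, 3, 4, 2, 3, 0], [239])]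

/-- extensions of representative 0, part 5 -/
def tabE8_0_5 : List (ℕ × List ℕ × List ℕ) :=
  [(150, [7, 3, 4, 5, 6, 0, 2, 3, 4, 5, 1, 3, 4, 2, 3, 0, 2, 1, 3, 4, 5, 6, 7, 6, 5, 4, 3, 2, 1, 3, 4, 5, 6, 0, 2, 3, 4, 5, 1, 3, 4, 2, 3, 0], [239]),
   (151, [3, 4, 5, 6, 0, 2, 3, 4, 5, 1, 3, 4, 2, 3, 0, 2, 1, 3, 4, 5, 6, 7, 6, 5, 4, 3, 2, 1, 3, 4, 5, 6, 0, 2, 3, 4, 5, 1, 3, 4, 2, 3, 0], [239]),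
   (152, [5, 6, 7, 4, 5, 6, 0, 2, 3, 4, 5, 1, 3, 4, 2, 3, 0, 2, 1, 3, 4, 5, 6, 7, 6, 5, 4, 3, 0, 2, 1, 3, 4, 5, 6, 0, 2, 1, 3, 4, 5, 1, 3, 4, 2, 0], [239]),
   (153, [6, 7, 4, 5, 6, 0, 2, 3, 4, 5, 1, 3, 4, 2, 3, 0, 2, 1, 3, 4, 5, 6, 7, 6, 5, 4, 3, 0, 2, 1, 3, 4, 5, 6, 0, 2, 3, 4, 5, 1, 3, 4, 2, 0], [239]),
   (154, [7, 4, 5, 6, 0, 2, 3, 4, 5, 1, 3, 4, 2, 3, 0, 2, 1, 3, 4, 5, 6, 7, 6, 5, 4, 3, 2, 1, 3, 4, 5, 6, 0, 2, 3, 4, 5, 1, 3, 4, 2, 0], [239]),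
   (155, [4, 5, 6, 0, 2, 3, 4, 5, 1, 3, 4, 2, 3, 0, 2, 1, 3, 4, 5, 6, 7, 6, 5, 4, 3, 2, 1, 3, 4, 5, 6, 0, 2, 3, 4, 5, 1, 3, 4, 2, 0], [239]),
   (156, [6, 7, 5, 6, 0, 2, 3, 4, 5, 1, 3, 4, 2, 3, 0, 2, 1, 3, 4, 5, 6, 7, 6, 5, 4, 3, 0, 2, 1, 3, 4, 5, 6, 0, 2, 3, 4, 5, 1, 3, 2, 0], [239]),
   (157, [7, 5, 6, 0, 2, 3, 4, 5, 1, 3, 4, 2, 3, 0, 2, 1, 3, 4, 5, 6, 7, 6, 5, 4, 3, 2, 1, 3, 4, 5, 6, 0, 2, 3, 4, 5, 1, 3, 2, 0], [239]),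
   (158, [5, 6, 0, 2, 3, 4, 5, 1, 3, 4, 2, 3, 0, 2, 1, 3, 4, 5, 6, 7, 6, 5, 4, 3, 2, 1, 3, 4, 5, 6, 0, 2, 3, 4, 5, 1, 3, 2, 0], [239]),
   (159, [7, 6, 0, 2, 3, 4, 5, 1, 3, 4, 2, 3, 0, 2, 1, 3, 4, 5, 6, 7, 6, 5, 4, 3, 2, 1, 3, 4, 5, 6, 0, 2, 3, 4, 1, 3, 2, 0], [239]),
   (160, [6, 0, 2, 3, 4, 5, 1, 3, 4, 2, 3, 0, 2, 1, 3, 4, 5, 6, 7, 6, 5, 4, 3, 2, 1, 3, 4, 5, 6, 0, 2, 3, 4, 1, 3, 2, 0], [239]),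
   (161, [0, 2, 3, 4, 5, 1, 3, 4, 2, 3, 0, 2, 1, 3, 4, 5, 6, 7, 6, 5, 4, 3, 2, 1, 3, 4, 5, 0, 2, 3, 4, 1, 3, 2, 0], [239]),
   (162, [2, 3, 4, 5, 6, 7, 1, 3, 4, 5, 6, 2, 3, 4, 5, 1, 3, 4, 2, 3, 0, 2, 1, 3, 4, 5, 6, 7, 6, 5, 4, 3, 0, 2, 1, 3, 4, 5, 6, 0, 2, 1, 3, 4, 5, 2, 1, 3, 4, 2, 1, 3, 2, 1], [239]),
   (163, [3, 4, 5, 6, 7, 1, 3, 4, 5, 6, 2, 3, 4, 5, 1, 3, 4, 2, 3, 0, 2, 1, 3, 4, 5, 6, 7, 6, 5, 4, 3, 0, 2, 1, 3, 4, 5, 6, 0, 2, 1, 3, 4, 5, 2, 1, 3, 4, 2, 1, 3, 1], [239]),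
   (164, [4, 5, 6, 7, 1, 3, 4, 5, 6, 2, 3, 4, 5, 1, 3, 4, 2, 3, 0, 2, 1, 3, 4, 5, 6, 7, 6, 5, 4, 3, 0, 2, 1, 3, 4, 5, 6, 0, 2, 1, 3, 4, 5, 2, 1, 3, 4, 2, 3, 1], [239]),
   (165, [5, 6, 7, 1, 3, 4, 5, 6, 2, 3, 4, 5, 1, 3, 4, 2, 3, 0, 2, 1, 3, 4, 5, 6, 7, 6, 5, 4, 3, 0, 2, 1, 3, 4, 5, 6, 0, 2, 1, 3, 4, 5, 1, 3, 4, 2, 3, 1], [239]),
   (166, [6, 7, 1, 3, 4, 5, 6, 2, 3, 4, 5, 1, 3, 4, 2, 3, 0, 2, 1, 3, 4, 5, 6, 7, 6, 5, 4, 3, 0, 2, 1, 3, 4, 5, 6, 0, 2, 3, 4, 5, 1, 3, 4, 2, 3, 1], [239]),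
   (167, [7, 1, 3, 4, 5, 6, 2, 3, 4, 5, 1, 3, 4, 2, 3, 0, 2, 1, 3, 4, 5, 6, 7, 6, 5, 4, 3, 2, 1, 3, 4, 5, 6, 0, 2, 3, 4, 5, 1, 3, 4, 2, 3, 1], [239]),
   (168, [1, 3, 4, 5, 6, 2, 3, 4, 5, 1, 3, 4, 2, 3, 0, 2, 1, 3, 4, 5, 6, 7, 6, 5, 4, 3, 2, 1, 3, 4, 5, 6, 0, 2, 3, 4, 5, 1, 3, 4, 2, 3, 1], [239]),
   (169, [4, 5, 6, 7, 3, 4, 5, 6, 2, 3, 4, 5, 1, 3, 4, 2, 3, 0, 2, 1, 3, 4, 5, 6, 7, 6, 5, 4, 3, 0, 2, 1, 3, 4, 5, 6, 0, 2, 1, 3, 4, 5, 2, 1, 3, 4, 2, 3], [239]),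
   (170, [5, 6, 7, 3, 4, 5, 6, 2, 3, 4, 5, 1, 3, 4, 2, 3, 0, 2, 1, 3, 4, 5, 6, 7, 6, 5, 4, 3, 0, 2, 1, 3, 4, 5, 6, 0, 2, 1, 3, 4, 5, 1, 3, 4, 2, 3], [239]),
   (171, [6, 7, 3, 4, 5, 6, 2, 3, 4, 5, 1, 3, 4, 2, 3, 0, 2, 1, 3, 4, 5, 6, 7, 6, 5, 4, 3, 0, 2, 1, 3, 4, 5, 6, 0, 2, 3, 4, 5, 1, 3, 4, 2, 3], [239]),
   (172, [7, 3, 4, 5, 6, 2, 3, 4, 5, 1, 3, 4, 2, 3, 0, 2, 1, 3, 4, 5, 6, 7, 6, 5, 4, 3, 2, 1, 3, 4, 5, 6, 0, 2, 3, 4, 5, 1, 3, 4, 2, 3], [239]),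
   (173, [3, 4, 5, 6, 2, 3, 4, 5, 1, 3, 4, 2, 3, 0, 2, 1, 3, 4, 5, 6, 7, 6, 5, 4, 3, 2, 1, 3, 4, 5, 6, 0, 2, 3, 4, 5, 1, 3, 4, 2, 3], [239]),
   (174, [5, 6, 7, 4, 5, 6, 2, 3, 4, 5, 1, 3, 4, 2, 3, 0, 2, 1, 3, 4, 5, 6, 7, 6, 5, 4, 3, 0, 2, 1, 3, 4, 5, 6, 0, 2, 1, 3, 4, 5, 1, 3, 4, 2], [239]),
   (175, [6, 7, 4, 5, 6, 2, 3, 4, 5, 1, 3, 4, 2, 3, 0, 2, 1, 3, 4, 5, 6, 7, 6, 5, 4, 3, 0, 2, 1, 3, 4, 5, 6, 0, 2, 3, 4, 5, 1, 3, 4, 2], [239]),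
   (176, [7, 4, 5, 6, 2, 3, 4, 5, 1, 3, 4, 2, 3, 0, 2, 1, 3, 4, 5, 6, 7, 6, 5, 4, 3, 2, 1, 3, 4, 5, 6, 0, 2, 3, 4, 5, 1, 3, 4, 2], [239]),
   (177, [4, 5, 6, 2, 3, 4, 5, 1, 3, 4, 2, 3, 0, 2, 1, 3, 4, 5, 6, 7, 6, 5, 4, 3, 2, 1, 3, 4, 5, 6, 0, 2, 3, 4, 5, 1, 3, 4, 2], [239]),
   (178, [6, 7, 5, 6, 2, 3, 4, 5, 1, 3, 4, 2, 3, 0, 2, 1, 3, 4, 5, 6, 7, 6, 5, 4, 3, 0, 2, 1, 3, 4, 5, 6, 0, 2, 3, 4, 5, 1, 3, 2], [239]),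
   (179, [7, 5, 6, 2, 3, 4, 5, 1, 3, 4, 2, 3, 0, 2, 1, 3, 4, 5, 6, 7, 6, 5, 4, 3, 2, 1, 3, 4, 5, 6, 0, 2, 3, 4, 5, 1, 3, 2], [239])]

/-- extensions of representative 0, part 6 -/
def tabE8_0_6 : List (ℕ × List ℕ × List ℕ) :=
  [(180, [5, 6, 2, 3, 4, 5, 1, 3, 4, 2, 3, 0, 2, 1, 3, 4, 5, 6, 7, 6, 5, 4, 3, 2, 1, 3, 4, 5, 6, 0, 2, 3, 4, 5, 1, 3, 2], [239]),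
   (181, [7, 6, 2, 3, 4, 5, 1, 3, 4, 2, 3, 0, 2, 1, 3, 4, 5, 6, 7, 6, 5, 4, 3, 2, 1, 3, 4, 5, 6, 0, 2, 3, 4, 1, 3, 2], [239]),
   (182, [6, 2, 3, 4, 5, 1, 3, 4, 2, 3, 0, 2, 1, 3, 4, 5, 6, 7, 6, 5, 4, 3, 2, 1, 3, 4, 5, 6, 0, 2, 3, 4, 1, 3, 2], [239]),
   (183, [2, 3, 4, 5, 1, 3, 4, 2, 3, 0, 2, 1, 3, 4, 5, 6, 7, 6, 5, 4, 3, 2, 1, 3, 4, 5, 0, 2, 3, 4, 1, 3, 2], [239]),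
   (184, [5, 6, 7, 4, 5, 6, 3, 4, 5, 1, 3, 4, 2, 3, 0, 2, 1, 3, 4, 5, 6, 7, 6, 5, 4, 3, 0, 2, 1, 3, 4, 5, 6, 0, 2, 1, 3, 4, 5, 1, 3, 4], [239]),
   (185, [6, 7, 4, 5, 6, 3, 4, 5, 1, 3, 4, 2, 3, 0, 2, 1, 3, 4, 5, 6, 7, 6, 5, 4, 3, 0, 2, 1, 3, 4, 5, 6, 0, 2, 3, 4, 5, 1, 3, 4], [239]),
   (186, [7, 4, 5, 6, 3, 4, 5, 1, 3, 4, 2, 3, 0, 2, 1, 3, 4, 5, 6, 7, 6, 5, 4, 3, 2, 1, 3, 4, 5, 6, 0, 2, 3, 4, 5, 1, 3, 4], [239]),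
   (187, [4, 5, 6, 3, 4, 5, 1, 3, 4, 2, 3, 0, 2, 1, 3, 4, 5, 6, 7, 6, 5, 4, 3, 2, 1, 3, 4, 5, 6, 0, 2, 3, 4, 5, 1, 3, 4], [239]),
   (188, [6, 7, 5, 6, 3, 4, 5, 1, 3, 4, 2, 3, 0, 2, 1, 3, 4, 5, 6, 7, 6, 5, 4, 3, 0, 2, 1, 3, 4, 5, 6, 0, 2, 3, 4, 5, 1, 3], [239]),
   (189, [7, 5, 6, 3, 4, 5, 1, 3, 4, 2, 3, 0, 2, 1, 3, 4, 5, 6, 7, 6, 5, 4, 3, 2, 1, 3, 4, 5, 6, 0, 2, 3, 4, 5, 1, 3], [239]),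
   (190, [5, 6, 3, 4, 5, 1, 3, 4, 2, 3, 0, 2, 1, 3, 4, 5, 6, 7, 6, 5, 4, 3, 2, 1, 3, 4, 5, 6, 0, 2, 3, 4, 5, 1, 3], [239]),
   (191, [7, 6, 3, 4, 5, 1, 3, 4, 2, 3, 0, 2, 1, 3, 4, 5, 6, 7, 6, 5, 4, 3, 2, 1, 3, 4, 5, 6, 0, 2, 3, 4, 1, 3], [239]),
   (192, [6, 3, 4, 5, 1, 3, 4, 2, 3, 0, 2, 1, 3, 4, 5, 6, 7, 6, 5, 4, 3, 2, 1, 3, 4, 5, 6, 0, 2, 3, 4, 1, 3], [239]),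
   (193, [3, 4, 5, 1, 3, 4, 2, 3, 0, 2, 1, 3, 4, 5, 6, 7, 6, 5, 4, 3, 2, 1, 3, 4, 5, 0, 2, 3, 4, 1, 3], [239]),
   (194, [6, 7, 5, 6, 4, 5, 1, 3, 4, 2, 3, 0, 2, 1, 3, 4, 5, 6, 7, 6, 5, 4, 3, 0, 2, 1, 3, 4, 5, 6, 0, 2, 3, 4, 5, 1], [239]),
   (195, [7, 5, 6, 4, 5, 1, 3, 4, 2, 3, 0, 2, 1, 3, 4, 5, 6, 7, 6, 5, 4, 3, 2, 1, 3, 4, 5, 6, 0, 2, 3, 4, 5, 1], [239]),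
   (196, [5, 6, 4, 5, 1, 3, 4, 2, 3, 0, 2, 1, 3, 4, 5, 6, 7, 6, 5, 4, 3, 2, 1, 3, 4, 5, 6, 0, 2, 3, 4, 5, 1], [239]),
   (197, [7, 6, 4, 5, 1, 3, 4, 2, 3, 0, 2, 1, 3, 4, 5, 6, 7, 6, 5, 4, 3, 2, 1, 3, 4, 5, 6, 0, 2, 3, 4, 1], [239]),
   (198, [6, 4, 5, 1, 3, 4, 2, 3, 0, 2, 1, 3, 4, 5, 6, 7, 6, 5, 4, 3, 2, 1, 3, 4, 5, 6, 0, 2, 3, 4, 1], [239]),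
   (199, [4, 5, 1, 3, 4, 2, 3, 0, 2, 1, 3, 4, 5, 6, 7, 6, 5, 4, 3, 2, 1, 3, 4, 5, 0, 2, 3, 4, 1], [239]),
   (200, [7, 6, 5, 1, 3, 4, 2, 3, 0, 2, 1, 3, 4, 5, 6, 7, 6, 5, 4, 3, 2, 1, 3, 4, 5, 6, 0, 2, 3, 1], [239]),
   (201, [6, 5, 1, 3, 4, 2, 3, 0, 2, 1, 3, 4, 5, 6, 7, 6, 5, 4, 3, 2, 1, 3, 4, 5, 6, 0, 2, 3, 1], [239]),
   (202, [5, 1, 3, 4, 2, 3, 0, 2, 1, 3, 4, 5, 6, 7, 6, 5, 4, 3, 2, 1, 3, 4, 5, 0, 2, 3, 1], [239]),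
   (203, [1, 3, 4, 2, 3, 0, 2, 1, 3, 4, 5, 6, 7, 6, 5, 4, 3, 2, 1, 3, 4, 0, 2, 3, 1], [239]),
   (204, [6, 7, 5, 6, 4, 5, 3, 4, 2, 3, 0, 2, 1, 3, 4, 5, 6, 7, 6, 5, 4, 3, 0, 2, 1, 3, 4, 5, 6, 0, 2, 3, 4, 5], [239]),
   (205, [7, 5, 6, 4, 5, 3, 4, 2, 3, 0, 2, 1, 3, 4, 5, 6, 7, 6, 5, 4, 3, 2, 1, 3, 4, 5, 6, 0, 2, 3, 4, 5], [239]),
   (206, [5, 6, 4, 5, 3, 4, 2, 3, 0, 2, 1, 3, 4, 5, 6, 7, 6, 5, 4, 3, 2, 1, 3, 4, 5, 6, 0, 2, 3, 4, 5], [239]),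
   (207, [7, 6, 4, 5, 3, 4, 2, 3, 0, 2, 1, 3, 4, 5, 6, 7, 6, 5, 4, 3, 2, 1, 3, 4, 5, 6, 0, 2, 3, 4], [239]),
   (208, [6, 4, 5, 3, 4, 2, 3, 0, 2, 1, 3, 4, 5, 6, 7, 6, 5, 4, 3, 2, 1, 3, 4, 5, 6, 0, 2, 3, 4], [239]),
   (209, [4, 5, 3, 4, 2, 3, 0, 2, 1, 3, 4, 5, 6, 7, 6, 5, 4, 3, 2, 1, 3, 4, 5, 0, 2, 3, 4], [239])]

/-- extensions of representative 0, part 7 -/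
def tabE8_0_7 : List (ℕ × List ℕ × List ℕ) :=
  [(210, [7, 6, 5, 3, 4, 2, 3, 0, 2, 1, 3, 4, 5, 6, 7, 6, 5, 4, 3, 2, 1, 3, 4, 5, 6, 0, 2, 3], [239]),
   (211, [6, 5, 3, 4, 2, 3, 0, 2, 1, 3, 4, 5, 6, 7, 6, 5, 4, 3, 2, 1, 3, 4, 5, 6, 0, 2, 3], [239]),
   (212, [5, 3, 4, 2, 3, 0, 2, 1, 3, 4, 5, 6, 7, 6, 5, 4, 3, 2, 1, 3, 4, 5, 0, 2, 3], [239]),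
   (213, [3, 4, 2, 3, 0, 2, 1, 3, 4, 5, 6, 7, 6, 5, 4, 3, 2, 1, 3, 4, 0, 2, 3], [239]),
   (214, [7, 6, 5, 4, 2, 3, 0, 2, 1, 3, 4, 5, 6, 7, 6, 5, 4, 3, 2, 1, 3, 4, 5, 6, 0, 2], [239]),
   (215, [6, 5, 4, 2, 3, 0, 2, 1, 3, 4, 5, 6, 7, 6, 5, 4, 3, 2, 1, 3, 4, 5, 6, 0, 2], [239]),
   (216, [5, 4, 2, 3, 0, 2, 1, 3, 4, 5, 6, 7, 6, 5, 4, 3, 2, 1, 3, 4, 5, 0, 2], [239]),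
   (217, [4, 2, 3, 0, 2, 1, 3, 4, 5, 6, 7, 6, 5, 4, 3, 2, 1, 3, 4, 0, 2], [239]),
   (218, [2, 3, 0, 2, 1, 3, 4, 5, 6, 7, 6, 5, 4, 3, 2, 1, 3, 0, 2], [239]),
   (219, [7, 6, 5, 4, 3, 0, 2, 1, 3, 4, 5, 6, 7, 6, 5, 4, 3, 2, 1, 3, 4, 5, 6, 0], [239]),
   (220, [6, 5, 4, 3, 0, 2, 1, 3, 4, 5, 6, 7, 6, 5, 4, 3, 2, 1, 3, 4, 5, 6, 0], [239]),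
   (221, [5, 4, 3, 0, 2, 1, 3, 4, 5, 6, 7, 6, 5, 4, 3, 2, 1, 3, 4, 5, 0], [239]),
   (222, [4, 3, 0, 2, 1, 3, 4, 5, 6, 7, 6, 5, 4, 3, 2, 1, 3, 4, 0], [239]),
   (223, [3, 0, 2, 1, 3, 4, 5, 6, 7, 6, 5, 4, 3, 2, 1, 3, 0], [239]),
   (224, [0, 2, 1, 3, 4, 5, 6, 7, 6, 5, 4, 3, 2, 1, 0], [239]),
   (225, [0, 2, 3, 4, 5, 6, 7, 6, 5, 4, 3, 2, 0], [239]),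
   (226, [7, 6, 5, 4, 3, 2, 1, 3, 4, 5, 6, 7, 6, 5, 4, 3, 2, 1, 3, 4, 5, 6], [239]),
   (227, [6, 5, 4, 3, 2, 1, 3, 4, 5, 6, 7, 6, 5, 4, 3, 2, 1, 3, 4, 5, 6], [239]),
   (228, [5, 4, 3, 2, 1, 3, 4, 5, 6, 7, 6, 5, 4, 3, 2, 1, 3, 4, 5], [239]),
   (229, [4, 3, 2, 1, 3, 4, 5, 6, 7, 6, 5, 4, 3, 2, 1, 3, 4], [239]),
   (230, [3, 2, 1, 3, 4, 5, 6, 7, 6, 5, 4, 3, 2, 1, 3], [239]),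
   (231, [2, 1, 3, 4, 5, 6, 7, 6, 5, 4, 3, 2, 1], [239]),
   (232, [1, 3, 4, 5, 6, 7, 6, 5, 4, 3, 1], [239]),
   (233, [2, 3, 4, 5, 6, 7, 6, 5, 4, 3, 2], [239]),
   (234, [3, 4, 5, 6, 7, 6, 5, 4, 3], [239]),
   (235, [4, 5, 6, 7, 6, 5, 4], [239]),
   (236, [5, 6, 7, 6, 5], [239]),
   (237, [6, 7, 6], [239]),
   (238, [7], [239]),
   (239, [], [239])]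

/-- extensions of representative 0 -/
def tabE8_0 : List (ℕ × List ℕ × List ℕ) :=
  tabE8_0_0 ++ tabE8_0_1 ++ tabE8_0_2 ++ tabE8_0_3 ++ tabE8_0_4 ++ tabE8_0_5 ++ tabE8_0_6 ++ tabE8_0_7

/-- extensions of representative 1, part 0 -/
def tabE8_1_0 : List (ℕ × List ℕ × List ℕ) :=
  [(13, [2, 3, 4, 5, 6, 7, 6, 0, 2, 3, 4, 5, 1, 3, 4, 2, 3, 0, 2, 1, 3, 4, 5, 6, 5, 4, 3, 0, 2, 1, 3, 4, 5, 0, 2, 1, 3, 4, 2, 1, 3, 0, 2, 0], [232, 233]),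
   (20, [2, 3, 4, 5, 6, 7, 6, 0, 2, 3, 4, 5, 1, 3, 4, 2, 3, 0, 2, 1, 3, 4, 5, 6, 5, 4, 3, 0, 2, 1, 3, 4, 5, 0, 2, 1, 3, 4, 2, 1, 3, 0, 2], [232, 233]),
   (25, [2, 3, 4, 5, 6, 7, 6, 5, 4, 3, 2, 1, 3, 4, 5, 6, 0, 2, 3, 4, 5, 1, 3, 4, 2, 3, 0, 2, 1, 3, 4, 5, 6, 5, 4, 3, 0, 2, 1, 3, 4, 5, 0, 2, 1, 3, 4, 2, 1, 3, 1, 0], [232, 233]),
   (29, [2, 3, 4, 5, 6, 7, 6, 5, 4, 3, 2, 1, 3, 4, 5, 6, 0, 2, 3, 4, 5, 1, 3, 4, 2, 3, 0, 2, 1, 3, 4, 5, 6, 3, 4, 5, 1, 3, 4, 2, 3, 0, 2, 1, 3, 4, 5, 3, 4, 2, 3, 0, 2, 1, 3, 4, 2, 3, 1, 0], [232, 233]),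
   (32, [2, 3, 4, 5, 6, 7, 6, 5, 4, 3, 2, 1, 3, 4, 5, 6, 0, 2, 3, 4, 5, 1, 3, 4, 2, 3, 0, 2, 1, 3, 4, 5, 6, 4, 5, 1, 3, 4, 2, 3, 0, 2, 1, 3, 4, 5, 3, 2, 1, 3, 4, 3, 0, 2, 1, 3, 1, 0], [232, 233]),
   (34, [2, 3, 4, 5, 6, 7, 6, 5, 4, 3, 2, 1, 3, 4, 5, 6, 0, 2, 3, 4, 5, 1, 3, 4, 2, 3, 0, 2, 1, 3, 4, 5, 6, 4, 3, 0, 2, 1, 3, 4, 5, 4, 2, 3, 0, 2, 1, 3, 4, 3, 0, 2, 1, 3, 1, 0], [232, 233]),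
   (35, [2, 3, 4, 5, 6, 7, 6, 2, 3, 4, 5, 1, 3, 4, 2, 3, 0, 2, 1, 3, 4, 5, 6, 0, 2, 3, 4, 5, 1, 3, 4, 2, 3, 0, 2, 1, 3, 4, 5, 4, 2, 3, 0, 2, 1, 3, 4, 3, 0, 2, 1, 3, 1, 0], [232, 233]),
   (39, [2, 3, 4, 5, 6, 7, 6, 0, 2, 3, 4, 5, 1, 3, 4, 2, 3, 0, 2, 1, 3, 4, 5, 6, 5, 4, 3, 0, 2, 1, 3, 4, 5, 0, 2, 1, 3, 4, 2, 3, 0, 2, 0], [232, 233]),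
   (42, [2, 3, 4, 5, 6, 7, 6, 0, 2, 3, 4, 5, 1, 3, 4, 2, 3, 0, 2, 1, 3, 4, 5, 6, 5, 4, 3, 0, 2, 1, 3, 4, 5, 1, 3, 4, 0, 2, 1, 3, 0, 2, 0], [232, 233]),
   (44, [2, 3, 4, 5, 6, 7, 6, 0, 2, 3, 4, 5, 1, 3, 4, 2, 3, 0, 2, 1, 3, 4, 5, 6, 0, 2, 3, 4, 5, 4, 3, 0, 2, 1, 3, 4, 0, 2, 1, 3, 0, 2, 0], [232, 233]),
   (45, [2, 3, 4, 5, 6, 7, 6, 5, 4, 3, 0, 2, 1, 3, 4, 5, 6, 5, 1, 3, 4, 2, 3, 0, 2, 1, 3, 4, 5, 4, 3, 0, 2, 1, 3, 4, 0, 2, 1, 3, 0, 2, 0], [232, 233]),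
   (48, [2, 3, 4, 5, 6, 7, 6, 0, 2, 3, 4, 5, 1, 3, 4, 2, 3, 0, 2, 1, 3, 4, 5, 6, 5, 4, 3, 0, 2, 1, 3, 4, 5, 2, 1, 3, 4, 2, 1, 3, 0, 2, 0], [232, 233]),
   (50, [2, 3, 4, 5, 6, 7, 6, 0, 2, 3, 4, 5, 1, 3, 4, 2, 3, 0, 2, 1, 3, 4, 5, 6, 0, 2, 1, 3, 4, 5, 4, 3, 0, 2, 1, 3, 4, 2, 1, 3, 0, 2, 0], [232, 233]),
   (51, [2, 3, 4, 5, 6, 7, 6, 5, 4, 2, 3, 0, 2, 1, 3, 4, 5, 6, 5, 1, 3, 4, 2, 3, 0, 2, 1, 3, 4, 5, 4, 3, 0, 2, 1, 3, 4, 2, 1, 3, 0, 2, 0], [232, 233]),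
   (53, [2, 3, 4, 5, 6, 7, 6, 0, 2, 3, 4, 5, 1, 3, 4, 2, 3, 0, 2, 1, 3, 4, 5, 6, 3, 0, 2, 1, 3, 4, 5, 0, 2, 1, 3, 4, 3, 2, 1, 3, 0, 2, 0], [232, 233]),
   (54, [2, 3, 4, 5, 6, 7, 6, 5, 3, 4, 2, 3, 0, 2, 1, 3, 4, 5, 6, 5, 1, 3, 4, 2, 3, 0, 2, 1, 3, 4, 5, 0, 2, 1, 3, 4, 3, 2, 1, 3, 0, 2, 0], [232, 233]),
   (55, [2, 3, 4, 5, 6, 7, 6, 4, 5, 3, 4, 2, 3, 0, 2, 1, 3, 4, 5, 6, 5, 4, 3, 0, 2, 1, 3, 4, 5, 2, 3, 0, 2, 1, 3, 4, 3, 2, 1, 3, 0, 2, 0], [232, 233]),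
   (58, [2, 3, 4, 5, 6, 7, 6, 5, 4, 3, 2, 1, 3, 4, 5, 6, 0, 2, 3, 4, 5, 1, 3, 4, 2, 3, 0, 2, 1, 3, 4, 5, 6, 4, 5, 3, 4, 2, 3, 0, 2, 1, 3, 4, 5, 3, 2, 1, 3, 4, 3, 2, 1, 3, 1, 0], [232, 233]),
   (60, [2, 3, 4, 5, 6, 7, 6, 5, 4, 3, 2, 1, 3, 4, 5, 6, 0, 2, 3, 4, 5, 1, 3, 4, 2, 3, 0, 2, 1, 3, 4, 5, 6, 4, 3, 0, 2, 1, 3, 4, 5, 4, 3, 0, 2, 1, 3, 4, 3, 2, 1, 3, 1, 0], [232, 233]),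
   (61, [2, 3, 4, 5, 6, 7, 6, 2, 3, 4, 5, 1, 3, 4, 2, 3, 0, 2, 1, 3, 4, 5, 6, 0, 2, 3, 4, 5, 1, 3, 4, 2, 3, 0, 2, 1, 3, 4, 5, 4, 3, 0, 2, 1, 3, 4, 3, 2, 1, 3, 1, 0], [232, 233]),
   (63, [2, 3, 4, 5, 6, 7, 6, 5, 4, 3, 2, 1, 3, 4, 5, 6, 0, 2, 3, 4, 5, 1, 3, 4, 2, 3, 0, 2, 1, 3, 4, 5, 6, 4, 3, 0, 2, 1, 3, 4, 5, 0, 2, 1, 3, 4, 3, 2, 1, 3, 1, 0], [232, 233]),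
   (64, [2, 3, 4, 5, 6, 7, 6, 2, 3, 4, 5, 1, 3, 4, 2, 3, 0, 2, 1, 3, 4, 5, 6, 0, 2, 3, 4, 5, 1, 3, 4, 2, 3, 0, 2, 1, 3, 4, 5, 0, 2, 1, 3, 4, 3, 2, 1, 3, 1, 0], [232, 233]),
   (65, [2, 3, 4, 5, 6, 7, 6, 2, 3, 4, 5, 1, 3, 4, 2, 3, 0, 2, 1, 3, 4, 5, 6, 5, 4, 3, 0, 2, 1, 3, 4, 5, 1, 3, 4, 2, 3, 0, 2, 1, 3, 4, 3, 2, 1, 3, 1, 0], [232, 233]),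
   (67, [2, 3, 4, 5, 6, 7, 6, 5, 4, 3, 2, 1, 3, 4, 5, 6, 0, 2, 3, 4, 5, 1, 3, 4, 2, 3, 0, 2, 1, 3, 4, 5, 6, 4, 3, 0, 2, 1, 3, 4, 5, 0, 2, 1, 3, 4, 2, 1, 3, 2, 1, 0], [232, 233]),
   (68, [2, 3, 4, 5, 6, 7, 6, 2, 3, 4, 5, 1, 3, 4, 2, 3, 0, 2, 1, 3, 4, 5, 6, 0, 2, 3, 4, 5, 1, 3, 4, 2, 3, 0, 2, 1, 3, 4, 5, 0, 2, 1, 3, 4, 2, 1, 3, 2, 1, 0], [232, 233]),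
   (69, [2, 3, 4, 5, 6, 7, 6, 2, 3, 4, 5, 1, 3, 4, 2, 3, 0, 2, 1, 3, 4, 5, 6, 5, 4, 3, 0, 2, 1, 3, 4, 5, 1, 3, 4, 2, 3, 0, 2, 1, 3, 4, 2, 1, 3, 2, 1, 0], [232, 233]),
   (70, [2, 3, 4, 5, 6, 7, 6, 2, 3, 4, 5, 1, 3, 4, 2, 3, 0, 2, 1, 3, 4, 5, 6, 5, 4, 3, 0, 2, 1, 3, 4, 5, 0, 2, 1, 3, 4, 2, 3, 0, 2, 1, 3, 2, 1, 0], [232, 233]),
   (72, [2, 3, 4, 5, 6, 7, 6, 0, 2, 3, 4, 5, 1, 3, 4, 2, 3, 0, 2, 1, 3, 4, 5, 6, 4, 3, 0, 2, 1, 3, 4, 5, 0, 2, 1, 3, 4, 2, 1, 3, 0, 2, 0], [232, 233]),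
   (73, [2, 3, 4, 5, 6, 7, 6, 5, 1, 3, 4, 2, 3, 0, 2, 1, 3, 4, 5, 6, 5, 1, 3, 4, 2, 3, 0, 2, 1, 3, 4, 5, 0, 2, 1, 3, 4, 2, 1, 3, 0, 2, 0], [232, 233]),
   (74, [2, 3, 4, 5, 6, 7, 6, 4, 5, 1, 3, 4, 2, 3, 0, 2, 1, 3, 4, 5, 6, 5, 4, 3, 0, 2, 1, 3, 4, 5, 2, 3, 0, 2, 1, 3, 4, 2, 1, 3, 0, 2, 0], [232, 233])]

/-- extensions of representative 1, part 1 -/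
def tabE8_1_1 : List (ℕ × List ℕ × List ℕ) :=
  [(75, [2, 3, 4, 5, 6, 7, 6, 3, 4, 5, 1, 3, 4, 2, 3, 0, 2, 1, 3, 4, 5, 6, 5, 4, 3, 0, 2, 1, 3, 4, 5, 0, 2, 1, 3, 4, 0, 2, 1, 3, 0, 2, 0], [232, 233]),
   (76, [2, 3, 4, 5, 6, 7, 6, 2, 3, 4, 5, 1, 3, 4, 2, 3, 0, 2, 1, 3, 4, 5, 6, 5, 4, 3, 0, 2, 1, 3, 4, 5, 0, 2, 1, 3, 4, 2, 1, 3, 0, 2, 0], [232, 233]),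
   (77, [2, 3, 4, 5, 6, 7, 6, 2, 3, 4, 5, 1, 3, 4, 2, 3, 0, 2, 1, 3, 4, 5, 6, 5, 4, 3, 0, 2, 1, 3, 4, 5, 0, 2, 1, 3, 4, 2, 1, 3, 2, 0], [232, 233]),
   (80, [2, 3, 4, 5, 6, 7, 6, 5, 4, 3, 2, 1, 3, 4, 5, 6, 0, 2, 3, 4, 5, 1, 3, 4, 2, 3, 0, 2, 1, 3, 4, 5, 6, 0, 2, 3, 4, 5, 1, 3, 4, 2, 3, 0, 2, 1, 3, 4, 5, 2, 1, 3, 4, 2, 1, 3], [232, 233]),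
   (82, [2, 3, 4, 5, 6, 7, 6, 5, 4, 3, 2, 1, 3, 4, 5, 6, 0, 2, 3, 4, 5, 1, 3, 4, 2, 3, 0, 2, 1, 3, 4, 5, 6, 4, 3, 0, 2, 1, 3, 4, 5, 1, 3, 4, 2, 3, 0, 2, 1, 3, 4, 2, 1, 3], [232, 233]),
   (83, [2, 3, 4, 5, 6, 7, 6, 2, 3, 4, 5, 1, 3, 4, 2, 3, 0, 2, 1, 3, 4, 5, 6, 0, 2, 3, 4, 5, 1, 3, 4, 2, 3, 0, 2, 1, 3, 4, 5, 1, 3, 4, 2, 3, 0, 2, 1, 3, 4, 2, 1, 3], [232, 233]),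
   (85, [2, 3, 4, 5, 6, 7, 6, 5, 4, 3, 2, 1, 3, 4, 5, 6, 0, 2, 3, 4, 5, 1, 3, 4, 2, 3, 0, 2, 1, 3, 4, 5, 6, 4, 3, 0, 2, 1, 3, 4, 5, 0, 2, 1, 3, 4, 2, 3, 0, 2, 1, 3], [232, 233]),
   (86, [2, 3, 4, 5, 6, 7, 6, 2, 3, 4, 5, 1, 3, 4, 2, 3, 0, 2, 1, 3, 4, 5, 6, 0, 2, 3, 4, 5, 1, 3, 4, 2, 3, 0, 2, 1, 3, 4, 5, 0, 2, 1, 3, 4, 2, 3, 0, 2, 1, 3], [232, 233]),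
   (87, [2, 3, 4, 5, 6, 7, 6, 2, 3, 4, 5, 1, 3, 4, 2, 3, 0, 2, 1, 3, 4, 5, 6, 5, 4, 3, 0, 2, 1, 3, 4, 5, 1, 3, 4, 2, 3, 0, 2, 1, 3, 4, 2, 3, 0, 2, 1, 3], [232, 233]),
   (89, [2, 3, 4, 5, 6, 7, 6, 5, 4, 3, 2, 1, 3, 4, 5, 6, 0, 2, 3, 4, 5, 1, 3, 4, 2, 3, 0, 2, 1, 3, 4, 5, 6, 4, 3, 0, 2, 1, 3, 4, 5, 0, 2, 1, 3, 4, 2, 1, 3, 0, 2, 1], [232, 233]),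
   (90, [2, 3, 4, 5, 6, 7, 6, 2, 3, 4, 5, 1, 3, 4, 2, 3, 0, 2, 1, 3, 4, 5, 6, 0, 2, 3, 4, 5, 1, 3, 4, 2, 3, 0, 2, 1, 3, 4, 5, 0, 2, 1, 3, 4, 2, 1, 3, 0, 2, 1], [232, 233]),
   (91, [2, 3, 4, 5, 6, 7, 6, 2, 3, 4, 5, 1, 3, 4, 2, 3, 0, 2, 1, 3, 4, 5, 6, 5, 4, 3, 0, 2, 1, 3, 4, 5, 1, 3, 4, 2, 3, 0, 2, 1, 3, 4, 2, 1, 3, 0, 2, 1], [232, 233]),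
   (92, [2, 3, 4, 5, 6, 7, 6, 2, 3, 4, 5, 1, 3, 4, 2, 3, 0, 2, 1, 3, 4, 5, 6, 5, 4, 3, 0, 2, 1, 3, 4, 5, 0, 2, 1, 3, 4, 2, 3, 0, 2, 1, 3, 0, 2, 1], [232, 233]),
   (94, [2, 3, 4, 5, 6, 7, 6, 5, 4, 3, 2, 1, 3, 4, 5, 6, 0, 2, 3, 4, 5, 1, 3, 4, 2, 3, 0, 2, 1, 3, 4, 5, 6, 4, 3, 0, 2, 1, 3, 4, 5, 0, 2, 1, 3, 4, 2, 1, 3, 1, 0], [232, 233]),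
   (95, [2, 3, 4, 5, 6, 7, 6, 2, 3, 4, 5, 1, 3, 4, 2, 3, 0, 2, 1, 3, 4, 5, 6, 0, 2, 3, 4, 5, 1, 3, 4, 2, 3, 0, 2, 1, 3, 4, 5, 0, 2, 1, 3, 4, 2, 1, 3, 1, 0], [232, 233]),
   (96, [2, 3, 4, 5, 6, 7, 6, 2, 3, 4, 5, 1, 3, 4, 2, 3, 0, 2, 1, 3, 4, 5, 6, 5, 4, 3, 0, 2, 1, 3, 4, 5, 1, 3, 4, 2, 3, 0, 2, 1, 3, 4, 2, 1, 3, 1, 0], [232, 233]),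
   (97, [2, 3, 4, 5, 6, 7, 6, 2, 3, 4, 5, 1, 3, 4, 2, 3, 0, 2, 1, 3, 4, 5, 6, 5, 4, 3, 0, 2, 1, 3, 4, 5, 0, 2, 1, 3, 4, 2, 3, 0, 2, 1, 3, 1, 0], [232, 233]),
   (98, [2, 3, 4, 5, 6, 7, 6, 3, 4, 5, 1, 3, 4, 2, 3, 0, 2, 1, 3, 4, 5, 6, 5, 4, 3, 0, 2, 1, 3, 4, 5, 0, 2, 1, 3, 4, 0, 2, 3, 0, 2, 1, 0], [232, 233]),
   (100, [2, 3, 4, 5, 6, 7, 6, 0, 2, 3, 4, 5, 1, 3, 4, 2, 3, 0, 2, 1, 3, 4, 5, 6, 4, 3, 0, 2, 1, 3, 4, 5, 0, 2, 1, 3, 4, 2, 1, 3, 0, 2], [232, 233]),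
   (101, [2, 3, 4, 5, 6, 7, 6, 5, 1, 3, 4, 2, 3, 0, 2, 1, 3, 4, 5, 6, 5, 1, 3, 4, 2, 3, 0, 2, 1, 3, 4, 5, 0, 2, 1, 3, 4, 2, 1, 3, 0, 2], [232, 233]),
   (102, [2, 3, 4, 5, 6, 7, 6, 4, 5, 1, 3, 4, 2, 3, 0, 2, 1, 3, 4, 5, 6, 5, 4, 3, 0, 2, 1, 3, 4, 5, 2, 3, 0, 2, 1, 3, 4, 2, 1, 3, 0, 2], [232, 233]),
   (103, [2, 3, 4, 5, 6, 7, 6, 3, 4, 5, 1, 3, 4, 2, 3, 0, 2, 1, 3, 4, 5, 6, 5, 4, 3, 0, 2, 1, 3, 4, 5, 0, 2, 1, 3, 4, 0, 2, 1, 3, 0, 2], [232, 233]),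
   (104, [2, 3, 4, 5, 6, 7, 6, 2, 3, 4, 5, 1, 3, 4, 2, 3, 0, 2, 1, 3, 4, 5, 6, 5, 4, 3, 0, 2, 1, 3, 4, 5, 0, 2, 1, 3, 4, 2, 1, 3, 0, 2], [232, 233]),
   (106, [2, 3, 4, 5, 6, 7, 2, 3, 4, 5, 6, 0, 2, 3, 4, 5, 1, 3, 4, 2, 3, 0, 2, 1, 3, 4, 5, 6, 4, 2, 3, 0, 2, 1, 3, 4, 5, 3, 0, 2, 1, 3, 4, 0, 2, 1, 3, 0], [232, 233]),
   (107, [2, 3, 4, 5, 6, 7, 6, 2, 3, 4, 5, 1, 3, 4, 2, 3, 0, 2, 1, 3, 4, 5, 6, 5, 1, 3, 4, 2, 3, 0, 2, 1, 3, 4, 5, 3, 0, 2, 1, 3, 4, 0, 2, 1, 3, 0], [232, 233]),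
   (108, [2, 3, 4, 5, 6, 7, 6, 2, 3, 4, 5, 1, 3, 4, 2, 3, 0, 2, 1, 3, 4, 5, 6, 5, 4, 3, 0, 2, 1, 3, 4, 5, 2, 3, 0, 2, 1, 3, 4, 0, 2, 1, 3, 0], [232, 233]),
   (109, [2, 3, 4, 5, 6, 7, 6, 2, 3, 4, 5, 1, 3, 4, 2, 3, 0, 2, 1, 3, 4, 5, 6, 5, 4, 3, 0, 2, 1, 3, 4, 5, 0, 2, 1, 3, 4, 0, 2, 1, 3, 0], [232, 233]),
   (111, [2, 3, 4, 5, 6, 7, 3, 4, 5, 6, 0, 2, 3, 4, 5, 1, 3, 4, 2, 3, 0, 2, 1, 3, 4, 5, 6, 4, 2, 3, 0, 2, 1, 3, 4, 5, 3, 0, 2, 1, 3, 4, 0, 2, 1, 0], [232, 233]),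
   (112, [2, 3, 4, 5, 6, 7, 6, 3, 4, 5, 1, 3, 4, 2, 3, 0, 2, 1, 3, 4, 5, 6, 5, 1, 3, 4, 2, 3, 0, 2, 1, 3, 4, 5, 3, 0, 2, 1, 3, 4, 0, 2, 1, 0], [232, 233]),
   (113, [2, 3, 4, 5, 6, 7, 6, 3, 4, 5, 1, 3, 4, 2, 3, 0, 2, 1, 3, 4, 5, 6, 5, 4, 3, 0, 2, 1, 3, 4, 5, 2, 3, 0, 2, 1, 3, 4, 0, 2, 1, 0], [232, 233])]

/-- extensions of representative 1, part 2 -/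
def tabE8_1_2 : List (ℕ × List ℕ × List ℕ) :=
  [(115, [2, 3, 4, 5, 6, 7, 4, 5, 6, 0, 2, 3, 4, 5, 1, 3, 4, 2, 3, 0, 2, 1, 3, 4, 5, 6, 4, 2, 3, 0, 2, 1, 3, 4, 5, 3, 0, 2, 1, 3, 0, 2, 1, 0], [232, 233]),
   (116, [2, 3, 4, 5, 6, 7, 6, 4, 5, 1, 3, 4, 2, 3, 0, 2, 1, 3, 4, 5, 6, 5, 1, 3, 4, 2, 3, 0, 2, 1, 3, 4, 5, 3, 0, 2, 1, 3, 0, 2, 1, 0], [232, 233]),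
   (118, [2, 3, 4, 5, 6, 7, 5, 6, 0, 2, 3, 4, 5, 1, 3, 4, 2, 3, 0, 2, 1, 3, 4, 5, 6, 4, 2, 3, 0, 2, 1, 3, 4, 3, 0, 2, 1, 3, 0, 2, 1, 0], [232, 233]),
   (121, [2, 3, 4, 5, 6, 7, 6, 0, 2, 3, 4, 5, 1, 3, 4, 2, 3, 0, 2, 1, 3, 4, 5, 4, 2, 3, 0, 2, 1, 3, 4, 3, 0, 2, 1, 3, 0, 2, 1, 0], [232, 233]),
   (123, [2, 3, 4, 5, 6, 7, 6, 5, 1, 3, 4, 2, 3, 0, 2, 1, 3, 4, 5, 6, 5, 1, 3, 4, 2, 3, 0, 2, 1, 3, 4, 3, 0, 2, 1, 3, 0, 2, 1, 0], [232, 233]),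
   (124, [2, 3, 4, 5, 6, 7, 6, 5, 1, 3, 4, 2, 3, 0, 2, 1, 3, 4, 5, 1, 3, 4, 2, 3, 0, 2, 1, 3, 4, 3, 0, 2, 1, 3, 0, 2, 1, 0], [232, 233]),
   (126, [2, 3, 4, 5, 6, 7, 6, 4, 5, 1, 3, 4, 2, 3, 0, 2, 1, 3, 4, 5, 6, 5, 4, 3, 0, 2, 1, 3, 4, 5, 2, 3, 0, 2, 1, 3, 0, 2, 1, 0], [232, 233]),
   (127, [2, 3, 4, 5, 6, 7, 6, 5, 1, 3, 4, 2, 3, 0, 2, 1, 3, 4, 5, 6, 5, 4, 3, 0, 2, 1, 3, 4, 2, 3, 0, 2, 1, 3, 0, 2, 1, 0], [232, 233]),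
   (128, [2, 3, 4, 5, 6, 7, 6, 5, 1, 3, 4, 2, 3, 0, 2, 1, 3, 4, 5, 4, 3, 0, 2, 1, 3, 4, 2, 3, 0, 2, 1, 3, 0, 2, 1, 0], [232, 233]),
   (130, [2, 3, 4, 5, 6, 7, 6, 3, 4, 5, 1, 3, 4, 2, 3, 0, 2, 1, 3, 4, 5, 6, 5, 4, 3, 0, 2, 1, 3, 4, 5, 0, 2, 1, 3, 4, 0, 2, 1, 0], [232, 233]),
   (131, [2, 3, 4, 5, 6, 7, 6, 4, 5, 1, 3, 4, 2, 3, 0, 2, 1, 3, 4, 5, 6, 5, 4, 3, 0, 2, 1, 3, 4, 5, 0, 2, 1, 3, 0, 2, 1, 0], [232, 233]),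
   (132, [2, 3, 4, 5, 6, 7, 6, 5, 1, 3, 4, 2, 3, 0, 2, 1, 3, 4, 5, 6, 5, 4, 3, 0, 2, 1, 3, 4, 0, 2, 1, 3, 0, 2, 1, 0], [232, 233]),
   (133, [2, 3, 4, 5, 6, 7, 6, 5, 1, 3, 4, 2, 3, 0, 2, 1, 3, 4, 5, 4, 3, 0, 2, 1, 3, 4, 0, 2, 1, 3, 0, 2, 1, 0], [232, 233]),
   (135, [2, 3, 4, 5, 6, 7, 6, 2, 3, 4, 5, 1, 3, 4, 2, 3, 0, 2, 1, 3, 4, 5, 6, 5, 4, 3, 0, 2, 1, 3, 4, 5, 0, 2, 1, 3, 4, 2, 1, 3, 0], [232, 233]),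
   (136, [2, 3, 4, 5, 6, 7, 6, 3, 4, 5, 1, 3, 4, 2, 3, 0, 2, 1, 3, 4, 5, 6, 5, 4, 3, 0, 2, 1, 3, 4, 5, 0, 2, 1, 3, 4, 2, 1, 0], [232, 233]),
   (137, [2, 3, 4, 5, 6, 7, 6, 4, 5, 1, 3, 4, 2, 3, 0, 2, 1, 3, 4, 5, 6, 5, 4, 3, 0, 2, 1, 3, 4, 5, 0, 2, 1, 3, 2, 1, 0], [232, 233]),
   (138, [2, 3, 4, 5, 6, 7, 6, 5, 1, 3, 4, 2, 3, 0, 2, 1, 3, 4, 5, 6, 5, 4, 3, 0, 2, 1, 3, 4, 0, 2, 1, 3, 2, 1, 0], [232, 233]),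
   (139, [2, 3, 4, 5, 6, 7, 6, 5, 1, 3, 4, 2, 3, 0, 2, 1, 3, 4, 5, 4, 3, 0, 2, 1, 3, 4, 0, 2, 1, 3, 2, 1, 0], [232, 233]),
   (141, [2, 3, 4, 5, 6, 7, 6, 3, 4, 5, 1, 3, 4, 2, 3, 0, 2, 1, 3, 4, 5, 6, 5, 4, 3, 0, 2, 1, 3, 4, 5, 0, 2, 1, 3, 4, 0, 2, 3, 0, 2, 0], [232, 233]),
   (142, [2, 3, 4, 5, 6, 7, 6, 2, 3, 4, 5, 1, 3, 4, 2, 3, 0, 2, 1, 3, 4, 5, 6, 5, 4, 3, 0, 2, 1, 3, 4, 5, 0, 2, 1, 3, 4, 2, 3, 0, 2, 0], [232, 233]),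
   (143, [2, 3, 4, 5, 6, 7, 6, 2, 3, 4, 5, 1, 3, 4, 2, 3, 0, 2, 1, 3, 4, 5, 6, 5, 4, 3, 0, 2, 1, 3, 4, 5, 1, 3, 4, 0, 2, 1, 3, 0, 2, 0], [232, 233]),
   (144, [2, 3, 4, 5, 6, 7, 6, 2, 3, 4, 5, 1, 3, 4, 2, 3, 0, 2, 1, 3, 4, 5, 6, 0, 2, 3, 4, 5, 4, 3, 0, 2, 1, 3, 4, 0, 2, 1, 3, 0, 2, 0], [232, 233]),
   (145, [2, 3, 4, 5, 6, 7, 6, 5, 4, 3, 2, 1, 3, 4, 5, 6, 5, 1, 3, 4, 2, 3, 0, 2, 1, 3, 4, 5, 4, 3, 0, 2, 1, 3, 4, 0, 2, 1, 3, 0, 2, 0], [232, 233]),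
   (147, [2, 3, 4, 5, 6, 7, 6, 3, 4, 5, 1, 3, 4, 2, 3, 0, 2, 1, 3, 4, 5, 6, 5, 4, 3, 0, 2, 1, 3, 4, 5, 0, 2, 1, 3, 4, 2, 0], [232, 233]),
   (148, [2, 3, 4, 5, 6, 7, 6, 4, 5, 1, 3, 4, 2, 3, 0, 2, 1, 3, 4, 5, 6, 5, 4, 3, 0, 2, 1, 3, 4, 5, 0, 2, 1, 3, 2, 0], [232, 233]),
   (149, [2, 3, 4, 5, 6, 7, 6, 5, 1, 3, 4, 2, 3, 0, 2, 1, 3, 4, 5, 6, 5, 4, 3, 0, 2, 1, 3, 4, 0, 2, 1, 3, 2, 0], [232, 233]),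
   (150, [2, 3, 4, 5, 6, 7, 6, 5, 1, 3, 4, 2, 3, 0, 2, 1, 3, 4, 5, 4, 3, 0, 2, 1, 3, 4, 0, 2, 1, 3, 2, 0], [232, 233]),
   (152, [2, 3, 4, 5, 6, 7, 6, 4, 5, 1, 3, 4, 2, 3, 0, 2, 1, 3, 4, 5, 6, 5, 4, 3, 0, 2, 1, 3, 4, 5, 1, 3, 0, 2, 1, 0], [232, 233]),
   (153, [2, 3, 4, 5, 6, 7, 6, 5, 1, 3, 4, 2, 3, 0, 2, 1, 3, 4, 5, 6, 5, 4, 3, 0, 2, 1, 3, 4, 1, 3, 0, 2, 1, 0], [232, 233]),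
   (154, [2, 3, 4, 5, 6, 7, 6, 5, 1, 3, 4, 2, 3, 0, 2, 1, 3, 4, 5, 4, 3, 0, 2, 1, 3, 4, 1, 3, 0, 2, 1, 0], [232, 233])]

/-- extensions of representative 1, part 3 -/
def tabE8_1_3 : List (ℕ × List ℕ × List ℕ) :=
  [(156, [2, 3, 4, 5, 6, 7, 6, 5, 1, 3, 4, 2, 3, 0, 2, 1, 3, 4, 5, 6, 5, 0, 2, 3, 4, 3, 0, 2, 1, 3, 0, 2, 1, 0], [232, 233]),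
   (157, [2, 3, 4, 5, 6, 7, 6, 5, 1, 3, 4, 2, 3, 0, 2, 1, 3, 4, 5, 0, 2, 3, 4, 3, 0, 2, 1, 3, 0, 2, 1, 0], [232, 233]),
   (159, [2, 3, 4, 5, 6, 7, 6, 5, 4, 3, 2, 1, 3, 4, 5, 4, 2, 3, 0, 2, 1, 3, 4, 3, 0, 2, 1, 3, 0, 2, 1, 0], [232, 233]),
   (162, [2, 3, 4, 5, 6, 7, 6, 2, 3, 4, 5, 1, 3, 4, 2, 3, 0, 2, 1, 3, 4, 5, 6, 5, 4, 3, 0, 2, 1, 3, 4, 5, 0, 2, 1, 3, 4, 2, 1, 3, 2], [232, 233]),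
   (163, [2, 3, 4, 5, 6, 7, 6, 2, 3, 4, 5, 1, 3, 4, 2, 3, 0, 2, 1, 3, 4, 5, 6, 5, 4, 3, 0, 2, 1, 3, 4, 5, 0, 2, 1, 3, 4, 2, 1, 3], [232, 233]),
   (164, [2, 3, 4, 5, 6, 7, 6, 3, 4, 5, 1, 3, 4, 2, 3, 0, 2, 1, 3, 4, 5, 6, 5, 4, 3, 0, 2, 1, 3, 4, 5, 0, 2, 1, 3, 4, 2, 1], [232, 233]),
   (165, [2, 3, 4, 5, 6, 7, 6, 4, 5, 1, 3, 4, 2, 3, 0, 2, 1, 3, 4, 5, 6, 5, 4, 3, 0, 2, 1, 3, 4, 5, 0, 2, 1, 3, 2, 1], [232, 233]),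
   (166, [2, 3, 4, 5, 6, 7, 6, 5, 1, 3, 4, 2, 3, 0, 2, 1, 3, 4, 5, 6, 5, 4, 3, 0, 2, 1, 3, 4, 0, 2, 1, 3, 2, 1], [232, 233]),
   (167, [2, 3, 4, 5, 6, 7, 6, 5, 1, 3, 4, 2, 3, 0, 2, 1, 3, 4, 5, 4, 3, 0, 2, 1, 3, 4, 0, 2, 1, 3, 2, 1], [232, 233]),
   (169, [2, 3, 4, 5, 6, 7, 6, 4, 5, 3, 4, 2, 3, 0, 2, 1, 3, 4, 5, 6, 5, 4, 3, 0, 2, 1, 3, 4, 5, 0, 2, 3, 4, 3, 2], [232, 233]),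
   (170, [2, 3, 4, 5, 6, 7, 6, 4, 5, 3, 4, 2, 3, 0, 2, 1, 3, 4, 5, 6, 5, 4, 3, 0, 2, 1, 3, 4, 5, 0, 2, 3, 2], [232, 233]),
   (171, [2, 3, 4, 5, 6, 7, 6, 5, 3, 4, 2, 3, 0, 2, 1, 3, 4, 5, 6, 5, 4, 3, 0, 2, 1, 3, 4, 0, 2, 3, 2], [232, 233]),
   (172, [2, 3, 4, 5, 6, 7, 6, 5, 3, 4, 2, 3, 0, 2, 1, 3, 4, 5, 4, 3, 0, 2, 1, 3, 4, 0, 2, 3, 2], [232, 233]),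
   (174, [2, 3, 4, 5, 6, 7, 6, 4, 5, 3, 4, 2, 3, 0, 2, 1, 3, 4, 5, 6, 5, 4, 3, 0, 2, 1, 3, 4, 5, 0, 2], [232, 233]),
   (175, [2, 3, 4, 5, 6, 7, 6, 5, 3, 4, 2, 3, 0, 2, 1, 3, 4, 5, 6, 5, 4, 3, 0, 2, 1, 3, 4, 0, 2], [232, 233]),
   (176, [2, 3, 4, 5, 6, 7, 6, 5, 3, 4, 2, 3, 0, 2, 1, 3, 4, 5, 4, 3, 0, 2, 1, 3, 4, 0, 2], [232, 233]),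
   (178, [2, 3, 4, 5, 6, 7, 6, 5, 4, 2, 3, 0, 2, 1, 3, 4, 5, 6, 5, 4, 3, 0, 2, 1, 3, 0, 2], [232, 233]),
   (179, [2, 3, 4, 5, 6, 7, 6, 5, 4, 2, 3, 0, 2, 1, 3, 4, 5, 4, 3, 0, 2, 1, 3, 0, 2], [232, 233]),
   (181, [2, 3, 4, 5, 6, 7, 6, 5, 4, 2, 3, 0, 2, 1, 3, 4, 3, 0, 2, 1, 3, 0, 2], [232, 233]),
   (184, [2, 3, 4, 5, 6, 7, 6, 4, 5, 3, 4, 2, 3, 0, 2, 1, 3, 4, 5, 6, 5, 4, 3, 0, 2, 1, 3, 4, 5, 0], [232, 233]),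
   (185, [2, 3, 4, 5, 6, 7, 6, 5, 3, 4, 2, 3, 0, 2, 1, 3, 4, 5, 6, 5, 4, 3, 0, 2, 1, 3, 4, 0], [232, 233]),
   (186, [2, 3, 4, 5, 6, 7, 6, 5, 3, 4, 2, 3, 0, 2, 1, 3, 4, 5, 4, 3, 0, 2, 1, 3, 4, 0], [232, 233]),
   (188, [2, 3, 4, 5, 6, 7, 6, 5, 4, 2, 3, 0, 2, 1, 3, 4, 5, 6, 5, 4, 3, 0, 2, 1, 3, 0], [232, 233]),
   (189, [2, 3, 4, 5, 6, 7, 6, 5, 4, 2, 3, 0, 2, 1, 3, 4, 5, 4, 3, 0, 2, 1, 3, 0], [232, 233]),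
   (191, [2, 3, 4, 5, 6, 7, 6, 5, 4, 2, 3, 0, 2, 1, 3, 4, 3, 0, 2, 1, 3, 0], [232, 233]),
   (194, [2, 3, 4, 5, 6, 7, 6, 5, 4, 3, 0, 2, 1, 3, 4, 5, 6, 5, 4, 3, 0, 2, 1, 0], [232, 233]),
   (195, [2, 3, 4, 5, 6, 7, 6, 5, 4, 3, 0, 2, 1, 3, 4, 5, 4, 3, 0, 2, 1, 0], [232, 233]),
   (197, [2, 3, 4, 5, 6, 7, 6, 5, 4, 3, 0, 2, 1, 3, 4, 3, 0, 2, 1, 0], [232, 233]),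
   (200, [2, 3, 4, 5, 6, 7, 6, 5, 4, 3, 0, 2, 1, 3, 0, 2, 1, 0], [232, 233]),
   (204, [2, 3, 4, 5, 6, 7, 0, 2, 3, 4, 5, 6, 4, 5, 3, 4, 2, 3, 0, 2, 0], [232, 233])]

/-- extensions of representative 1, part 4 -/
def tabE8_1_4 : List (ℕ × List ℕ × List ℕ) :=
  [(205, [2, 3, 4, 5, 6, 7, 6, 0, 2, 3, 4, 5, 3, 4, 2, 3, 0, 2, 0], [232, 233]),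
   (207, [2, 3, 4, 5, 6, 7, 6, 5, 0, 2, 3, 4, 2, 3, 0, 2, 0], [232, 233]),
   (210, [2, 3, 4, 5, 6, 7, 6, 5, 4, 0, 2, 3, 0, 2, 0], [232, 233]),
   (214, [2, 3, 4, 5, 6, 7, 6, 5, 4, 3, 0, 2, 0], [232, 233]),
   (219, [2, 3, 4, 5, 6, 7, 6, 5, 4, 3, 2, 0], [232, 233]),
   (226, [2, 3, 4, 5, 6, 7, 6, 5, 4, 3, 2], [232, 233])]

/-- extensions of representative 1 -/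
def tabE8_1 : List (ℕ × List ℕ × List ℕ) :=
  tabE8_1_0 ++ tabE8_1_1 ++ tabE8_1_2 ++ tabE8_1_3 ++ tabE8_1_4

/-- extensions of representative 2, part 0 -/
def tabE8_2_0 : List (ℕ × List ℕ × List ℕ) :=
  [(78, [6, 0, 2, 3, 4, 5, 1, 3, 4, 2, 3, 0, 2, 1, 3, 4, 5, 6, 7, 6, 5, 4, 3, 2, 1, 3, 4, 5, 6, 4, 3, 2, 1, 3, 4, 5, 4, 3, 2, 1, 3, 4], [228, 222, 218]),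
   (79, [6, 0, 2, 3, 4, 5, 1, 3, 4, 2, 3, 0, 2, 1, 3, 4, 5, 6, 7, 4, 3, 2, 1, 3, 4, 5, 6, 5, 4, 3, 2, 1, 3, 4, 5, 4, 3, 2, 1, 3, 4], [228, 222, 218]),
   (80, [0, 2, 3, 4, 5, 1, 3, 4, 2, 3, 0, 2, 1, 3, 4, 5, 6, 7, 5, 4, 3, 2, 1, 3, 4, 5, 6, 5, 4, 3, 2, 1, 3, 4, 5, 4, 3, 2, 1, 3, 4], [228, 222, 218]),
   (81, [7, 6, 0, 2, 3, 4, 5, 1, 3, 4, 2, 3, 0, 2, 1, 3, 4, 5, 6, 7, 4, 3, 2, 1, 3, 4, 5, 6, 4, 3, 2, 1, 3, 4, 5, 4, 3, 2, 1, 3, 4], [228, 222, 218]),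
   (82, [0, 2, 3, 4, 5, 1, 3, 4, 2, 3, 0, 2, 1, 3, 4, 5, 6, 7, 6, 5, 4, 3, 2, 1, 3, 4, 5, 6, 4, 3, 2, 1, 3, 4, 5, 4, 3, 2, 1, 3, 4], [228, 222, 218]),
   (83, [0, 2, 3, 4, 5, 1, 3, 4, 2, 3, 0, 2, 1, 3, 4, 5, 6, 7, 4, 3, 2, 1, 3, 4, 5, 6, 5, 4, 3, 2, 1, 3, 4, 5, 4, 3, 2, 1, 3, 4], [228, 222, 218]),
   (84, [7, 6, 0, 2, 3, 4, 5, 1, 3, 4, 2, 3, 0, 2, 1, 3, 4, 5, 6, 7, 4, 3, 2, 1, 3, 4, 5, 6, 4, 3, 2, 1, 3, 4, 5, 4, 3, 2, 1, 3], [228, 222, 218]),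
   (85, [0, 2, 3, 4, 5, 1, 3, 4, 2, 3, 0, 2, 1, 3, 4, 5, 6, 7, 6, 5, 4, 3, 2, 1, 3, 4, 5, 6, 4, 3, 2, 1, 3, 4, 5, 4, 3, 2, 1, 3], [228, 222, 218]),
   (86, [0, 2, 3, 4, 5, 1, 3, 4, 2, 3, 0, 2, 1, 3, 4, 5, 6, 7, 4, 3, 2, 1, 3, 4, 5, 6, 5, 4, 3, 2, 1, 3, 4, 5, 4, 3, 2, 1, 3], [228, 222, 218]),
   (87, [0, 2, 3, 4, 5, 1, 3, 4, 2, 3, 0, 2, 1, 3, 4, 5, 6, 7, 4, 3, 2, 1, 3, 4, 5, 6, 4, 5, 4, 3, 2, 1, 3, 4, 3, 2, 1, 3], [228, 222, 218]),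
   (88, [7, 6, 0, 2, 3, 4, 5, 1, 3, 4, 2, 3, 0, 2, 1, 3, 4, 5, 6, 7, 4, 3, 2, 1, 3, 4, 5, 6, 4, 3, 2, 1, 3, 4, 5, 3, 4, 3, 2, 1], [228, 222, 218]),
   (89, [0, 2, 3, 4, 5, 1, 3, 4, 2, 3, 0, 2, 1, 3, 4, 5, 6, 7, 6, 5, 4, 3, 2, 1, 3, 4, 5, 6, 4, 3, 2, 1, 3, 4, 5, 3, 4, 3, 2, 1], [228, 222, 218]),
   (90, [0, 2, 3, 4, 5, 1, 3, 4, 2, 3, 0, 2, 1, 3, 4, 5, 6, 7, 4, 3, 2, 1, 3, 4, 5, 6, 5, 4, 3, 2, 1, 3, 4, 5, 3, 4, 3, 2, 1], [228, 222, 218]),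
   (91, [0, 2, 3, 4, 5, 1, 3, 4, 2, 3, 0, 2, 1, 3, 4, 5, 6, 7, 4, 3, 2, 1, 3, 4, 5, 6, 3, 4, 5, 4, 3, 2, 1, 3, 4, 3, 2, 1], [228, 222, 218]),
   (92, [0, 2, 3, 4, 5, 1, 3, 4, 2, 3, 0, 2, 1, 3, 4, 5, 6, 7, 4, 3, 2, 1, 3, 4, 5, 6, 4, 5, 3, 4, 3, 2, 1, 3, 2, 1], [228, 222, 218]),
   (105, [7, 6, 0, 2, 3, 4, 5, 1, 3, 4, 2, 3, 0, 2, 1, 3, 4, 5, 6, 7, 3, 4, 5, 6, 4, 3, 2, 1, 3, 4, 5, 4, 3], [228, 222, 218]),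
   (106, [0, 2, 3, 4, 5, 1, 3, 4, 2, 3, 0, 2, 1, 3, 4, 5, 6, 7, 6, 5, 4, 3, 2, 1, 3, 4, 5, 6, 3, 4, 5, 4, 3], [228, 222, 218]),
   (107, [0, 2, 3, 4, 5, 1, 3, 4, 2, 3, 0, 2, 1, 3, 4, 5, 6, 7, 3, 4, 5, 6, 5, 4, 3, 2, 1, 3, 4, 5, 4, 3], [228, 222, 218]),
   (108, [0, 2, 3, 4, 5, 1, 3, 4, 2, 3, 0, 2, 1, 3, 4, 5, 6, 7, 3, 4, 5, 6, 4, 5, 4, 3, 2, 1, 3, 4, 3], [228, 222, 218]),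
   (109, [0, 2, 3, 4, 5, 1, 3, 4, 2, 3, 0, 2, 1, 3, 4, 5, 6, 7, 3, 4, 5, 6, 3, 4, 5, 3, 4, 3, 2, 1, 3], [228, 222, 218]),
   (110, [7, 6, 0, 2, 3, 4, 5, 1, 3, 4, 2, 3, 0, 2, 1, 3, 4, 5, 6, 7, 4, 5, 6, 4, 3, 2, 1, 3, 4, 5, 4], [228, 222, 218]),
   (111, [0, 2, 3, 4, 5, 1, 3, 4, 2, 3, 0, 2, 1, 3, 4, 5, 6, 7, 6, 5, 4, 3, 2, 1, 3, 4, 5, 6, 4, 5, 4], [228, 222, 218]),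
   (112, [0, 2, 3, 4, 5, 1, 3, 4, 2, 3, 0, 2, 1, 3, 4, 5, 6, 7, 4, 5, 6, 5, 4, 3, 2, 1, 3, 4, 5, 4], [228, 222, 218]),
   (113, [0, 2, 3, 4, 5, 1, 3, 4, 2, 3, 0, 2, 1, 3, 4, 5, 6, 7, 4, 5, 6, 4, 5, 4, 3, 2, 1, 3, 4], [228, 222, 218]),
   (114, [7, 6, 0, 2, 3, 4, 5, 1, 3, 4, 2, 3, 0, 2, 1, 3, 4, 5, 6, 7, 5, 6, 4, 3, 2, 1, 3, 4, 5], [228, 222, 218]),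
   (115, [0, 2, 3, 4, 5, 1, 3, 4, 2, 3, 0, 2, 1, 3, 4, 5, 6, 7, 6, 5, 4, 3, 2, 1, 3, 4, 5, 6, 5], [228, 222, 218]),
   (116, [0, 2, 3, 4, 5, 1, 3, 4, 2, 3, 0, 2, 1, 3, 4, 5, 6, 7, 5, 6, 5, 4, 3, 2, 1, 3, 4, 5], [228, 222, 218]),
   (117, [6, 0, 2, 3, 4, 5, 1, 3, 4, 2, 3, 0, 2, 1, 3, 4, 5, 6, 7, 5, 4, 3, 2, 1, 3, 4, 5, 6], [228, 222, 218]),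
   (118, [0, 2, 3, 4, 5, 1, 3, 4, 2, 3, 0, 2, 1, 3, 4, 5, 6, 7, 6, 5, 4, 3, 2, 1, 3, 4, 5, 6], [228, 222, 218]),
   (119, [7, 6, 0, 2, 3, 4, 5, 1, 3, 4, 2, 3, 0, 2, 1, 3, 4, 5, 6, 7, 5, 4, 3, 2, 1, 3, 4, 5], [228, 222, 218])]

/-- extensions of representative 2, part 1 -/
def tabE8_2_1 : List (ℕ × List ℕ × List ℕ) :=
  [(120, [6, 0, 2, 3, 4, 5, 1, 3, 4, 2, 3, 0, 2, 1, 3, 4, 5, 6, 5, 4, 3, 2, 1, 3, 4, 5], [228, 222, 218]),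
   (121, [0, 2, 3, 4, 5, 1, 3, 4, 2, 3, 0, 2, 1, 3, 4, 5, 6, 7, 6, 5, 4, 3, 2, 1, 3, 4, 5], [228, 222, 218]),
   (122, [0, 2, 3, 4, 5, 1, 3, 4, 2, 3, 0, 2, 1, 3, 4, 5, 6, 5, 4, 3, 2, 1, 3, 4, 5], [228, 222, 218]),
   (123, [0, 2, 3, 4, 5, 1, 3, 4, 2, 3, 0, 2, 1, 3, 4, 5, 6, 7, 5, 6, 5, 4, 3, 2, 1, 3, 4], [228, 222, 218]),
   (124, [0, 2, 3, 4, 5, 1, 3, 4, 2, 3, 0, 2, 1, 3, 4, 5, 6, 7, 6, 5, 4, 3, 2, 1, 3, 4], [228, 222, 218]),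
   (125, [0, 2, 3, 4, 5, 1, 3, 4, 2, 3, 0, 2, 1, 3, 4, 5, 6, 5, 4, 3, 2, 1, 3, 4], [228, 222, 218]),
   (126, [0, 2, 3, 4, 5, 1, 3, 4, 2, 3, 0, 2, 1, 3, 4, 5, 6, 7, 5, 6, 4, 5, 4, 3, 2, 1, 3], [228, 222, 218]),
   (127, [0, 2, 3, 4, 5, 1, 3, 4, 2, 3, 0, 2, 1, 3, 4, 5, 6, 7, 4, 5, 6, 5, 4, 3, 2, 1, 3], [228, 222, 218]),
   (128, [0, 2, 3, 4, 5, 1, 3, 4, 2, 3, 0, 2, 1, 3, 4, 5, 6, 7, 6, 4, 5, 4, 3, 2, 1, 3], [228, 222, 218]),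
   (129, [0, 2, 3, 4, 5, 1, 3, 4, 2, 3, 0, 2, 1, 3, 4, 5, 6, 4, 5, 4, 3, 2, 1, 3], [228, 222, 218]),
   (130, [0, 2, 3, 4, 5, 1, 3, 4, 2, 3, 0, 2, 1, 3, 4, 5, 6, 7, 4, 5, 6, 3, 4, 5, 3, 4, 3, 2, 1], [228, 222, 218]),
   (131, [0, 2, 3, 4, 5, 1, 3, 4, 2, 3, 0, 2, 1, 3, 4, 5, 6, 7, 5, 6, 3, 4, 5, 4, 3, 2, 1], [228, 222, 218]),
   (132, [0, 2, 3, 4, 5, 1, 3, 4, 2, 3, 0, 2, 1, 3, 4, 5, 6, 7, 3, 4, 5, 6, 5, 4, 3, 2, 1], [228, 222, 218]),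
   (133, [0, 2, 3, 4, 5, 1, 3, 4, 2, 3, 0, 2, 1, 3, 4, 5, 6, 7, 6, 3, 4, 5, 4, 3, 2, 1], [228, 222, 218]),
   (134, [0, 2, 3, 4, 5, 1, 3, 4, 2, 3, 0, 2, 1, 3, 4, 5, 6, 3, 4, 5, 4, 3, 2, 1], [228, 222, 218]),
   (147, [0, 2, 3, 4, 5, 1, 3, 4, 2, 3, 0, 2, 1, 3, 4, 5, 6, 7, 4, 5, 6, 2, 1, 3, 4, 5, 3, 4, 3], [228, 222, 218]),
   (148, [0, 2, 3, 4, 5, 1, 3, 4, 2, 3, 0, 2, 1, 3, 4, 5, 6, 7, 5, 6, 2, 1, 3, 4, 5, 4, 3], [228, 222, 218]),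
   (149, [0, 2, 3, 4, 5, 1, 3, 4, 2, 3, 0, 2, 1, 3, 4, 5, 6, 7, 4, 3, 2, 1, 3, 4, 5, 6, 5, 3, 4, 3], [228, 222, 218]),
   (150, [0, 2, 3, 4, 5, 1, 3, 4, 2, 3, 0, 2, 1, 3, 4, 5, 6, 7, 6, 2, 1, 3, 4, 5, 4, 3], [228, 222, 218]),
   (151, [0, 2, 3, 4, 5, 1, 3, 4, 2, 3, 0, 2, 1, 3, 4, 5, 6, 2, 1, 3, 4, 5, 4, 3], [228, 222, 218]),
   (152, [0, 2, 3, 4, 5, 1, 3, 4, 2, 3, 0, 2, 1, 3, 4, 5, 6, 7, 5, 6, 3, 2, 1, 3, 4, 5, 4], [228, 222, 218]),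
   (153, [0, 2, 3, 4, 5, 1, 3, 4, 2, 3, 0, 2, 1, 3, 4, 5, 6, 7, 4, 3, 2, 1, 3, 4, 5, 6, 5, 4], [228, 222, 218]),
   (154, [0, 2, 3, 4, 5, 1, 3, 4, 2, 3, 0, 2, 1, 3, 4, 5, 6, 7, 6, 3, 2, 1, 3, 4, 5, 4], [228, 222, 218]),
   (155, [0, 2, 3, 4, 5, 1, 3, 4, 2, 3, 0, 2, 1, 3, 4, 5, 6, 3, 2, 1, 3, 4, 5, 4], [228, 222, 218]),
   (156, [0, 2, 3, 4, 5, 1, 3, 4, 2, 3, 0, 2, 1, 3, 4, 5, 6, 7, 4, 3, 2, 1, 3, 4, 5, 6, 5], [228, 222, 218]),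
   (157, [0, 2, 3, 4, 5, 1, 3, 4, 2, 3, 0, 2, 1, 3, 4, 5, 6, 7, 6, 4, 3, 2, 1, 3, 4, 5], [228, 222, 218]),
   (158, [0, 2, 3, 4, 5, 1, 3, 4, 2, 3, 0, 2, 1, 3, 4, 5, 6, 4, 3, 2, 1, 3, 4, 5], [228, 222, 218]),
   (159, [0, 2, 3, 4, 5, 1, 3, 4, 2, 3, 0, 2, 1, 3, 4, 5, 6, 7, 4, 3, 2, 1, 3, 4], [228, 222, 218]),
   (160, [1, 3, 4, 2, 3, 0, 2, 1, 3, 4, 5, 6, 1, 3, 4, 2, 3, 0, 2, 1, 3, 4], [228, 222, 218]),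
   (161, [0, 2, 3, 4, 1, 3, 2, 0], [228, 222, 218])]

/-- extensions of representative 2 -/
def tabE8_2 : List (ℕ × List ℕ × List ℕ) :=
  tabE8_2_0 ++ tabE8_2_1

/-- extensions of representative 3, part 0 -/
def tabE8_3_0 : List (ℕ × List ℕ × List ℕ) :=
  [(35, [0, 2, 3, 4, 5, 6, 0, 2, 3, 4, 5, 1, 3, 4, 2, 3, 0, 2, 1, 3, 4, 5, 4, 2, 3, 0, 2, 1, 3, 4, 0, 2, 1, 3, 0, 2, 1, 0], [226, 220, 213, 216]),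
   (45, [0, 2, 3, 4, 5, 6, 0, 2, 3, 4, 5, 1, 3, 4, 2, 3, 0, 2, 1, 3, 4, 5, 4, 2, 3, 0, 2, 1, 3, 4, 0, 2, 1, 3, 0, 2, 0], [226, 220, 213, 216]),
   (51, [0, 2, 3, 4, 5, 6, 0, 2, 3, 4, 5, 1, 3, 4, 2, 3, 0, 2, 1, 3, 4, 5, 4, 2, 3, 0, 2, 1, 3, 4, 2, 1, 3, 0, 2, 1, 0], [226, 220, 213, 216]),
   (64, [0, 2, 3, 4, 5, 6, 0, 2, 3, 4, 5, 1, 3, 4, 2, 3, 0, 2, 1, 3, 4, 5, 2, 3, 0, 2, 1, 3, 4, 2, 3, 0, 2, 1, 3, 2, 1, 0], [226, 220, 213, 216]),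
   (68, [0, 2, 3, 4, 5, 6, 0, 2, 3, 4, 5, 1, 3, 4, 2, 3, 0, 2, 1, 3, 4, 5, 2, 3, 0, 2, 1, 3, 4, 0, 2, 1, 3, 0, 2, 1, 0], [226, 220, 213, 216]),
   (73, [0, 2, 3, 4, 5, 6, 0, 2, 3, 4, 5, 1, 3, 4, 2, 3, 0, 2, 1, 3, 4, 5, 2, 3, 0, 2, 1, 3, 4, 0, 2, 1, 3, 0, 2, 0], [226, 220, 213, 216]),
   (87, [0, 2, 3, 4, 5, 6, 3, 0, 2, 1, 3, 4, 5, 3, 4, 2, 3, 0, 2, 1, 3, 4, 3, 0, 2, 1, 3, 2], [226, 220, 213, 216]),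
   (91, [0, 2, 3, 4, 5, 6, 7, 3, 0, 2, 1, 3, 4, 5, 3, 4, 2, 3, 0, 2, 1, 3, 4, 0, 2, 1, 3, 2, 1], [226, 220, 213, 216]),
   (97, [0, 2, 3, 4, 5, 6, 7, 3, 4, 2, 3, 0, 2, 1, 3, 4, 5, 4, 3, 0, 2, 1, 3, 4, 3, 0, 2, 1, 3, 1], [226, 220, 213, 216]),
   (98, [0, 2, 3, 4, 5, 6, 3, 4, 2, 3, 0, 2, 1, 3, 4, 5, 4, 3, 0, 2, 1, 3, 4, 0, 2, 3, 2, 1], [226, 220, 213, 216]),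
   (102, [0, 2, 3, 4, 5, 6, 3, 0, 2, 1, 3, 4, 5, 3, 4, 2, 3, 0, 2, 1, 3, 4, 0, 2, 1, 3, 2], [226, 220, 213, 216]),
   (109, [0, 2, 3, 4, 5, 6, 7, 3, 4, 2, 3, 0, 2, 1, 3, 4, 5, 4, 3, 0, 2, 1, 3, 4, 3, 0, 2, 1, 3], [226, 220, 213, 216]),
   (119, [3, 4, 5, 6, 7, 2, 1, 3, 4, 5, 6, 0, 2, 3, 4, 5, 1, 3, 4, 2, 3, 0, 2, 1, 3, 4, 5, 6, 7, 5, 3, 4, 2, 3, 0, 2, 1, 3, 4, 5, 6, 5, 4, 3, 0, 2, 1, 3, 4, 5, 2, 1, 3, 4, 0, 2, 1, 3, 0], [152, 135, 126, 141]),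
   (120, [5, 6, 7, 3, 4, 5, 6, 0, 2, 3, 4, 5, 1, 3, 4, 2, 3, 0, 2, 1, 3, 4, 5, 6, 7, 6, 4, 5, 1, 3, 4, 2, 3, 0, 2, 1, 3, 4, 5, 6, 5, 4, 3, 0, 2, 1, 3, 4, 5, 1, 3, 4, 0, 2, 1, 3, 0], [152, 135, 126, 141]),
   (130, [0, 2, 3, 4, 5, 6, 3, 0, 2, 1, 3, 4, 5, 4, 3, 2, 1, 3, 4, 0, 2, 1], [226, 220, 213, 216]),
   (137, [0, 2, 3, 4, 5, 6, 7, 4, 2, 3, 0, 2, 1, 3, 4, 5, 4, 3, 2, 1, 3, 1, 0], [226, 220, 213, 216]),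
   (141, [0, 2, 3, 4, 5, 6, 3, 4, 2, 3, 0, 2, 1, 3, 4, 5, 4, 3, 0, 2, 1, 3, 4, 0, 2, 3, 2], [226, 220, 213, 216]),
   (142, [0, 2, 3, 4, 5, 6, 3, 0, 2, 1, 3, 4, 5, 4, 3, 2, 1, 3, 4, 0, 2], [226, 220, 213, 216]),
   (148, [0, 2, 3, 4, 5, 6, 4, 2, 3, 0, 2, 1, 3, 4, 5, 4, 3, 2, 1, 3, 0], [226, 220, 213, 216]),
   (152, [0, 2, 3, 4, 5, 6, 7, 4, 2, 3, 0, 2, 1, 3, 4, 5, 4, 3, 2, 0], [226, 220, 213, 216]),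
   (166, [0, 2, 3, 4, 5, 6, 0, 2, 3, 4, 5, 3, 4, 2, 3, 0, 2, 1, 3, 4, 3, 0, 2, 1, 3, 2, 1], [226, 220, 213, 216]),
   (171, [0, 2, 3, 4, 5, 6, 0, 2, 3, 4, 5, 3, 4, 2, 3, 0, 2, 1, 3, 4, 3, 0, 2, 1, 3, 2], [226, 220, 213, 216]),
   (175, [0, 2, 3, 4, 5, 6, 0, 2, 3, 4, 5, 3, 4, 2, 3, 0, 2, 1, 3, 4, 1, 3, 0, 2, 1], [226, 220, 213, 216]),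
   (188, [0, 2, 3, 4, 5, 6, 0, 2, 3, 4, 5, 3, 4, 3, 0, 2, 1, 3, 1, 0], [226, 220, 213, 216]),
   (194, [0, 2, 3, 4, 5, 6, 0, 2, 3, 4, 5, 3, 4, 3, 0, 2, 1, 0], [226, 220, 213, 216]),
   (204, [0, 2, 3, 4, 5, 6, 0, 2, 3, 4, 5, 3, 4, 3, 0, 2, 0], [226, 220, 213, 216])]

/-- extensions of representative 3 -/
def tabE8_3 : List (ℕ × List ℕ × List ℕ) :=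
  tabE8_3_0

/-- extensions of representative 4, part 0 -/
def tabE8_4_0 : List (ℕ × List ℕ × List ℕ) :=
  [(71, [3, 4, 5, 6, 7, 2, 1, 3, 4, 5, 6, 0, 2, 3, 4, 5, 1, 3, 4, 2, 3, 0, 2, 1, 3, 4, 5, 6, 7, 0, 2, 3, 4, 5, 6, 2, 1, 3, 4, 5, 2, 3, 0, 2, 1, 3, 1], [152, 135, 126, 141, 226]),
   (100, [5, 3, 4, 2, 3, 0, 2, 1, 3, 4, 5, 6, 7, 5, 4, 3, 2, 1, 3, 4, 5, 6, 0, 2, 3, 4, 5, 1, 3, 4, 2, 3, 0, 2, 1, 3, 4, 5, 6, 7, 4, 2, 3, 0, 2, 1, 3, 4, 5, 6, 5, 4, 2, 3, 0, 2, 1, 3, 4, 5, 0, 2, 3, 4, 2, 3, 2, 0], [152, 135, 126, 141, 120]),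
   (107, [0, 2, 3, 4, 5, 6, 7, 2, 1, 3, 4, 5, 6, 0, 2, 3, 4, 5, 1, 3, 4, 2, 3, 0, 2, 1, 3, 4, 5, 6, 7, 4, 3, 0, 2, 1, 3, 4, 5, 6, 5, 4, 3, 0, 2, 1, 3, 4, 5, 3, 0, 2, 1, 3, 4, 0, 2, 0], [152, 135, 126, 141, 161]),
   (113, [0, 2, 3, 4, 5, 6, 7, 2, 1, 3, 4, 5, 6, 0, 2, 3, 4, 5, 1, 3, 4, 2, 3, 0, 2, 1, 3, 4, 5, 6, 7, 4, 3, 0, 2, 1, 3, 4, 5, 6, 5, 3, 4, 2, 3, 0, 2, 1, 3, 4, 5, 0, 2, 1, 3, 4, 0, 2, 3, 0], [152, 135, 126, 141, 161]),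
   (126, [0, 2, 3, 4, 5, 6, 7, 2, 1, 3, 4, 5, 6, 0, 2, 3, 4, 5, 1, 3, 4, 2, 3, 0, 2, 1, 3, 4, 5, 6, 7, 4, 3, 0, 2, 1, 3, 4, 5, 6, 5, 3, 4, 2, 3, 0, 2, 1, 3, 4, 5, 2, 1, 3, 4, 0, 2, 3, 0], [152, 135, 126, 141, 161]),
   (132, [5, 3, 4, 2, 3, 0, 2, 1, 3, 4, 5, 6, 7, 6, 4, 5, 1, 3, 4, 2, 3, 0, 2, 1, 3, 4, 5, 6, 5, 4, 3, 0, 2, 1, 3, 4, 5, 3, 4, 2, 3, 0, 2, 1, 3, 2, 1], [152, 135, 126, 141, 161]),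
   (139, [5, 3, 4, 2, 3, 0, 2, 1, 3, 4, 5, 6, 7, 6, 5, 4, 3, 2, 1, 3, 4, 5, 6, 0, 2, 3, 4, 5, 1, 3, 4, 2, 3, 0, 2, 1, 3, 4, 5, 6, 7, 0, 2, 1, 3, 4, 5, 6, 5, 3, 4, 2, 3, 0, 2, 1, 3, 4, 5, 1, 3, 4, 0, 2, 3, 2, 0], [152, 135, 126, 141, 119]),
   (168, [5, 6, 7, 3, 4, 5, 6, 0, 2, 3, 4, 5, 1, 3, 4, 2, 3, 0, 2, 1, 3, 4, 5, 6, 7, 0, 2, 1, 3, 4, 5, 6, 3, 2, 1, 3, 4, 5, 4, 2, 3, 0, 2, 1, 3, 1], [152, 135, 126, 141, 226])]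

/-- extensions of representative 4 -/
def tabE8_4 : List (ℕ × List ℕ × List ℕ) :=
  tabE8_4_0

/-- classification certificate -/
def classE8 : Inv2.ClassData :=
  ⟨[[], [239], [232, 233], [228, 222, 218], [226, 220, 213, 216]], [152, 135, 126, 141], [142, 131, 137, 136],
   [(([]), tabE8_0), (([239]), tabE8_1), (([232, 233]), tabE8_2), (([228, 222, 218]), tabE8_3), (([226, 220, 213, 216]), tabE8_4)]⟩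

theorem slE8_sym : Inv2.chkSym chevE8 auxE8 = true := by decide +kernel

/-- one row of the chain check -/
def chainRowE8 (r : ℕ) : Bool :=
  decide (Inv2.inn chevE8 auxE8 r r = 2) && decide (Inv2.inn chevE8 auxE8 r (chevE8.nroots - 1 - r) = -2) &&
    (row chevE8 r).all fun e =>
      Nat.beq e.2.toList.length 1 && decide (Inv2.inn chevE8 auxE8 r e.1 = -1) &&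
        e.2.toList.all fun q => decide (q.2 % 2 = 1)

/-- one row of the check of positive pairs -/
def posRowE8 (r : ℕ) : Bool :=
  (List.range' (half chevE8) (half chevE8)).all fun s =>
    Nat.beq r s ||
      (decide (Inv2.inn chevE8 auxE8 r s = 0)) ||
      (decide (Inv2.inn chevE8 auxE8 r s = -1) && (row chevE8 r).any fun e => Nat.beq e.1 s) ||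
      (decide (Inv2.inn chevE8 auxE8 r s = 1) && (Nat.blt s r ||
        (row chevE8 r).any fun e => Nat.ble (half chevE8) e.1 && e.2.toList.any fun q => Nat.beq q.1 s))

theorem nroots_half_E8 : chevE8.nroots = 240 ∧ half chevE8 = 120 := by decide +kernel

theorem chainE8_low : (List.range' 0 120).all chainRowE8 = true := by decide +kernel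

theorem chainE8_high : (List.range' 120 120).all chainRowE8 = true := by decide +kernel

theorem posE8_low : (List.range' 120 50).all posRowE8 = true := by decide +kernel

theorem posE8_high : (List.range' 170 70).all posRowE8 = true := by decide +kernel

theorem slE8_chain : Inv2.chkChain chevE8 auxE8 = true := by
  rw [Inv2.chkChain, List.all_eq_true]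
  intro r hr
  rw [List.mem_range, nroots_half_E8.1] at hr
  show chainRowE8 r = true
  by_cases c : r < 120
  · exact List.all_eq_true.1 chainE8_low r (List.mem_range'_1.2 (by omega))
  · exact List.all_eq_true.1 chainE8_high r (List.mem_range'_1.2 (by omega))

theorem slE8_pos : Inv2.chkPos chevE8 auxE8 = true := by
  rw [Inv2.chkPos, List.all_eq_true]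
  intro r hr
  rw [List.mem_range'_1, nroots_half_E8.2] at hr
  show posRowE8 r = true
  by_cases c : r < 170
  · exact List.all_eq_true.1 posE8_low r (List.mem_range'_1.2 (by omega))
  · exact List.all_eq_true.1 posE8_high r (List.mem_range'_1.2 (by omega))

theorem slE8 : Inv2.SL chevE8 auxE8 :=
  ⟨certE8, slE8_sym, slE8_chain, slE8_pos⟩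

theorem classE8_tab : Inv2.chkTab chevE8 auxE8 classE8 = true := by decide +kernel

theorem classE8_quad : Inv2.chkQuad chevE8 auxE8 classE8 = true := by decide +kernel

end CfsgLib.Lie.Chev
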