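/-
Ranks of `g - 1` in characteristic two from bit vectors.
-/
import Cfsg.Agent.Lib.Lie.CharTwoInv.Classify
import Mathlib.LinearAlgebra.Matrix.Rank

set_option autoImplicit false

namespace CfsgLib.Lie.Chev

open Cfsg.Lie (ChevalleyDatum)
open scoped Matrix

namespace Inv2

/-- insert into a sorted list, or delete if present -/
noncomputable def tog (x : ℕ) : List ℕ → List ℕ :=
  fun L => List.rec [x] (fun y ys ih => bif Nat.beq x y then ys else bif Nat.blt x y then x :: y :: ys else y :: ih) L

/-- add a sparse vector -/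
noncomputable def addV (u v : List ℕ) : List ℕ := List.rec v (fun x _ ih => tog x ih) u

/-- combine the columns selected by a sparse vector -/
noncomputable def combine (A : List (List ℕ)) (c : List ℕ) : List ℕ :=
  List.rec [] (fun j _ ih => addV (A.getD j []) ih) c

/-- product of matrices given by their sparse columns -/
noncomputable def bMul (A B : List (List ℕ)) : List (List ℕ) := B.map (combine A)

/-- columns of the identity -/
def idCols (n : ℕ) : List (List ℕ) := (List.range n).map fun j => [j]

/-- columns of `M + 1` -/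
noncomputable def addOne (n : ℕ) (M : List (List ℕ)) : List (List ℕ) :=
  (List.range n).map fun j => tog j (M.getD j [])

/-- coordinate `i` of a sparse vector as a field element -/
def vF (F : Type*) [Field F] (c : List ℕ) (i : ℕ) : F := (c.map fun x => if x = i then (1 : F) else 0).sum

/-- the matrix of a list of sparse columns -/
def bMat (F : Type*) [Field F] (m k : ℕ) (cols : List (List ℕ)) : Matrix (Fin m) (Fin k) F :=
  Matrix.of fun a b => vF F (cols.getD (b : ℕ) []) (a : ℕ)

variable {F : Type*} [Field F]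

theorem vF_nil (i : ℕ) : vF F [] i = 0 := rfl

theorem vF_cons (x : ℕ) (c : List ℕ) (i : ℕ) : vF F (x :: c) i = (if x = i then 1 else 0) + vF F c i := by
  simp [vF]

theorem vF_tog [CharP F 2] (x i : ℕ) : ∀ L : List ℕ, vF F (tog x L) i = (if x = i then 1 else 0) + vF F L i
  | [] => vF_cons x [] i
  | y :: ys => by
    show vF F (bif Nat.beq x y then ys else bif Nat.blt x y then x :: y :: ys else y :: tog x ys) i = _
    by_cases hxy : x = y
    · subst hxy
      rw [nat_beq_iff.2 rfl, cond_true, vF_cons, ← add_assoc, CharTwo.add_self_eq_zero, zero_add]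
    · rw [Bool.eq_false_iff.2 fun h => hxy (nat_beq_iff.1 h), cond_false]
      cases Nat.blt x y
      · rw [cond_false, vF_cons, vF_tog x i ys, vF_cons]; ring
      · rw [cond_true, vF_cons]

theorem vF_addV [CharP F 2] (v : List ℕ) (i : ℕ) : ∀ u : List ℕ, vF F (addV u v) i = vF F u i + vF F v i
  | [] => by rw [vF_nil, zero_add]; rfl
  | x :: u => by
    show vF F (tog x (addV u v)) i = _
    rw [vF_tog, vF_addV v i u, vF_cons, add_assoc]

theorem vF_combine [CharP F 2] (A : List (List ℕ)) : ∀ (c : List ℕ) (i : ℕ),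
    vF F (combine A c) i = ∑ j : Fin A.length, vF F (A.getD (j : ℕ) []) i * vF F c (j : ℕ)
  | [], i => by simp [combine, vF_nil]
  | x :: c, i => by
    show vF F (addV (A.getD x []) (combine A c)) i = _
    rw [vF_addV, vF_combine A c i]
    simp only [vF_cons, mul_add, Finset.sum_add_distrib, mul_ite, mul_one, mul_zero]
    congr 1
    by_cases hx : x < A.length
    · rw [Finset.sum_eq_single (⟨x, hx⟩ : Fin A.length)]
      · simp
      · exact fun j _ hj => if_neg fun e => hj (Fin.ext e.symm)
      · simp
    · rw [List.getD_eq_default _ _ (by omega), vF_nil]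
      exact (Finset.sum_eq_zero fun j _ => if_neg (fun e => hx (by omega))).symm

theorem bMat_mul [CharP F 2] {m k n : ℕ} {A : List (List ℕ)} (hA : A.length = k) (B : List (List ℕ)) :
    bMat F m n (bMul A B) = bMat F m k A * bMat F k n B := by
  subst hA
  ext a b
  simp only [bMat, Matrix.of_apply, Matrix.mul_apply, bMul]
  rw [← vF_combine]
  congr 1
  conv_lhs => rw [show ([] : List ℕ) = combine A [] from rfl]
  rw [List.getD_map]

theorem bMat_id (n : ℕ) : bMat F n n (idCols n) = 1 := by
  ext a b
  simp [bMat, idCols, vF, List.getD_eq_getElem?_getD, b.2, Matrix.one_apply, Fin.ext_iff, eq_comm]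

theorem bMat_addOne [CharP F 2] (n : ℕ) (M : List (List ℕ)) : bMat F n n (addOne n M) = bMat F n n M - 1 := by
  ext a b
  have h1 : (addOne n M).getD (b : ℕ) [] = tog (b : ℕ) (M.getD (b : ℕ) []) := by
    simp [addOne, List.getD_eq_getElem?_getD, b.2]
  rw [bMat, Matrix.of_apply, h1, vF_tog, Matrix.sub_apply, bMat, Matrix.of_apply, Matrix.one_apply,
    CharTwo.sub_eq_add, add_comm]
  simp only [Fin.ext_iff, eq_comm]

/-- one column of `x_r(1) - 1` modulo two -/
noncomputable def xCol (D : ChevalleyDatum) (r c : ℕ) : List ℕ :=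
  (colEntries D r c).foldr (fun e acc => bif decide (e.2.2.2 % 2 = 1) then tog e.2.1 acc else acc) []

/-- the columns of `x_r(1)` -/
noncomputable def xCols (D : ChevalleyDatum) (r : ℕ) : List (List ℕ) :=
  (List.range (D.rank + D.nroots)).map fun b => tog b (xCol D r b)

/-- the columns of the product -/
noncomputable def prodCols (D : ChevalleyDatum) : List ℕ → List (List ℕ)
  | [] => idCols (D.rank + D.nroots)
  | r :: T => bMul (xCols D r) (prodCols D T)

/-- certificate that `∏ x_r(1) - 1` has rank `r` -/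
noncomputable def chkRankCols (n r : ℕ) (N U V : List (List ℕ)) : Bool :=
  Nat.beq N.length n && Nat.beq U.length n && Nat.beq V.length r &&
    decide (bMul (bMul U N) V = idCols r) && decide (bMul (bMul (bMul N V) U) N = N)

/-- certificate for a list of roots -/
noncomputable def chkRank (D : ChevalleyDatum) (T : List ℕ) (r : ℕ) (U V : List (List ℕ)) : Bool :=
  T.all (fun s => Nat.blt s D.nroots) &&
    chkRankCols (D.rank + D.nroots) r (addOne (D.rank + D.nroots) (prodCols D T)) U V

theorem rank_of_chk [CharP F 2] {n r : ℕ} {N U V : List (List ℕ)} (h : chkRankCols n r N U V = true) :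
    (bMat F n n N).rank = r := by
  simp only [chkRankCols, Bool.and_eq_true, nat_beq_iff, decide_eq_true_iff] at h
  obtain ⟨⟨⟨⟨hN, hU⟩, hV⟩, h1⟩, h2⟩ := h
  have e1 : bMat F r n U * bMat F n n N * bMat F n r V = 1 := by
    rw [← bMat_id, ← h1, bMat_mul (k := n) (by simp [bMul, hN]), bMat_mul hU]
  have e2 : bMat F n n N * bMat F n r V * bMat F r n U * bMat F n n N = bMat F n n N := by
    conv_rhs => rw [← h2]
    rw [bMat_mul (k := n) (by simp [bMul, hU]), bMat_mul (k := r) (by simp [bMul, hV]), bMat_mul hN]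
  refine le_antisymm ?_ ?_
  · calc (bMat F n n N).rank = (bMat F n n N * bMat F n r V * (bMat F r n U * bMat F n n N)).rank := by
          rw [← Matrix.mul_assoc, e2]
      _ ≤ (bMat F n n N * bMat F n r V).rank := Matrix.rank_mul_le_left _ _
      _ ≤ r := Matrix.rank_le_width _
  · calc r = (1 : Matrix (Fin r) (Fin r) F).rank := by simp
      _ = (bMat F r n U * bMat F n n N * bMat F n r V).rank := by rw [e1]
      _ ≤ (bMat F r n U * bMat F n n N).rank := Matrix.rank_mul_le_left _ _
      _ ≤ (bMat F n n N).rank := Matrix.rank_mul_le_right _ _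

/-- numbering of the coordinates -/
def idxEquiv (D : ChevalleyDatum) : Fin (D.rank + D.nroots) ≃ D.Idx := finSumFinEquiv.symm

theorem code_idxEquiv (D : ChevalleyDatum) (a : Fin (D.rank + D.nroots)) : code D (idxEquiv D a) = (a : ℕ) := by
  obtain ⟨x, rfl⟩ := finSumFinEquiv.surjective a
  rw [idxEquiv, Equiv.symm_apply_apply]
  cases x <;> rfl

variable {D : ChevalleyDatum} {X : Aux}

theorem xCols_spec [CharP F 2] (C : Cert D X) {r : ℕ} (hr : r < D.nroots) :
    (D.x F r 1).submatrix (idxEquiv D) (idxEquiv D) = bMat F _ _ (xCols D r) := by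
  rw [xMat_eq D hr (C.neg_ne hr) (C.key_ne hr)]
  ext a b
  have h1 : (xCols D r).getD (b : ℕ) [] = tog (b : ℕ) (xCol D r b) := by
    simp [xCols, List.getD_eq_getElem?_getD, b.2]
  rw [bMat, Matrix.of_apply, h1, vF_tog, Matrix.submatrix_apply, Matrix.add_apply,
    Matrix.one_apply]
  congr 1
  · simp only [EmbeddingLike.apply_eq_iff_eq, Fin.ext_iff, eq_comm]
  · simp only [matOf, Matrix.of_apply, code_idxEquiv, one_pow, mul_one]
    have key : ∀ L : List (ℕ × ℕ × ℕ × ℤ),
        vF F (L.foldr (fun e acc => bif decide (e.2.2.2 % 2 = 1) then tog e.2.1 acc else acc) []) (a : ℕ) =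
          (L.map fun e => if e.2.1 = (a : ℕ) then (e.2.2.2 : F) else 0).sum := by
      intro L
      induction L with
      | nil => simp [vF_nil]
      | cons e L ih =>
        rw [List.foldr_cons, List.map_cons, List.sum_cons]
        by_cases ho : e.2.2.2 % 2 = 1
        · rw [decide_eq_true ho, cond_true, vF_tog, ih, cast_of_odd ho]
        · rw [decide_eq_false ho, cond_false, ih]
          have h0 : ((e.2.2.2 : ℤ) : F) = 0 := (CharP.intCast_eq_zero_iff F 2 _).2 (by omega)
          simp [h0]
    rw [xCol, key, colEntries_sum, list_sum_filter]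
    refine congrArg List.sum (List.map_congr_left fun e _ => ?_)
    by_cases h : e.2.2.1 = (b : ℕ)
    · rw [nat_beq_iff.2 h]; simp [h]
    · rw [Bool.eq_false_iff.2 fun h' => h (nat_beq_iff.1 h')]; simp [h]

end Inv2

open Inv2

namespace Rel

variable {D : ChevalleyDatum} {X : Aux} {F : Type*} [Field F] {G : Type*} [Group G] (R : Rel D X F G)
include R

/-- the rank of `g - 1` -/
noncomputable def rkSub (g : G) : ℕ := (R.mat g - 1).rank

theorem rkSub_conj {g h : G} (hc : IsConj g h) : R.rkSub g = R.rkSub h := by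
  obtain ⟨k, rfl⟩ := isConj_iff.1 hc
  have hu : IsUnit (R.mat k).det := (Matrix.isUnit_iff_isUnit_det _).1 (R.θ k : GL D.Idx F).isUnit
  have e : (R.mat (k * g * k⁻¹) - 1) * R.mat k = R.mat k * (R.mat g - 1) := by
    rw [sub_mul, mul_sub, one_mul, mul_one, ← R.mat_mul, ← R.mat_mul, inv_mul_cancel_right]
  unfold rkSub
  rw [← Matrix.rank_mul_eq_left_of_isUnit_det (R.mat k) (R.mat (k * g * k⁻¹) - 1) hu, e,
    Matrix.rank_mul_eq_right_of_isUnit_det _ _ hu]

theorem rkSub_one : R.rkSub 1 = 0 := by simp [rkSub, R.mat_one]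

variable [CharP F 2]

theorem prodCols_spec : ∀ {T : List ℕ}, (∀ s ∈ T, s < D.nroots) →
    (R.mat (R.prodOne T)).submatrix (idxEquiv D) (idxEquiv D) = bMat F _ _ (prodCols D T)
  | [], _ => by rw [R.prodOne_nil, R.mat_one, Matrix.submatrix_one_equiv, prodCols, bMat_id]
  | r :: T, h => by
    rw [R.prodOne_cons, R.mat_mul, R.mat_xe, prodCols, bMat_mul (k := D.rank + D.nroots) (by simp [xCols]),
      ← xCols_spec R.cert (h r (by simp)), ← prodCols_spec fun s hs => h s (by simp [hs]),
      Matrix.submatrix_mul_equiv]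

theorem rkSub_prodOne {T : List ℕ} {r : ℕ} {U V : List (List ℕ)} (h : chkRank D T r U V = true) :
    R.rkSub (R.prodOne T) = r := by
  simp only [chkRank, Bool.and_eq_true, List.all_eq_true, nat_blt_iff] at h
  have h1 := rank_of_chk (F := F) h.2
  rw [bMat_addOne, ← R.prodCols_spec h.1] at h1
  rw [rkSub, ← h1, ← Matrix.rank_submatrix (R.mat (R.prodOne T) - 1) (idxEquiv D) (idxEquiv D),
    show (R.mat (R.prodOne T) - 1).submatrix (idxEquiv D) (idxEquiv D) =
      (R.mat (R.prodOne T)).submatrix (idxEquiv D) (idxEquiv D) - 1 by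
    rw [← Matrix.submatrix_one_equiv (idxEquiv D)]; rfl]

end Rel

end CfsgLib.Lie.Chev
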