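/-
The classes of involutions from the classification and the ranks.
-/
import Cfsg.Agent.Lib.Lie.CharTwoInv.Rank

set_option autoImplicit false

namespace CfsgLib.Lie.Chev

open Cfsg.Lie (ChevalleyDatum)
open Inv2

namespace Inv2

/-- representatives are orthogonal, the trivial one apart, with distinct positive ranks -/
def chkReps (D : ChevalleyDatum) (X : Aux) (reps : List (List ℕ)) (L : List (List ℕ × ℕ)) : Bool :=
  reps.all (fun T => T.isEmpty || L.any fun p => decide (p.1 = T)) &&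
  L.all (fun p => p.1.all (fun r => Nat.blt r D.nroots) && !Nat.beq p.2 0 &&
    decide (p.1.Pairwise fun r s => inn D X r s = 0) &&
    L.all fun p' => decide (p.1 = p'.1) || !Nat.beq p.2 p'.2)

end Inv2

theorem involution_classes {D : ChevalleyDatum} {X : Aux} (S : SL D X) (F : Type*) [Field F] [Fintype F]
    [CharP F 2] {d : ClassData} (hd : chkTab D X d = true) (hq : chkQuad D X d = true) {L : List (List ℕ × ℕ)}
    (hL : chkReps D X d.reps L = true)
    (hrk : ∀ p ∈ L, (chevRel S.cert F).rkSub ((chevRel S.cert F).prodOne p.1) = p.2) :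
    (∀ p ∈ L, orderOf ((chevRel S.cert F).prodOne p.1) = 2) ∧
    (∀ g : ↥(D.group F), orderOf g = 2 → ∃ p ∈ L, IsConj g ((chevRel S.cert F).prodOne p.1)) ∧
    ∀ p ∈ L, ∀ p' ∈ L, IsConj ((chevRel S.cert F).prodOne p.1) ((chevRel S.cert F).prodOne p'.1) → p.1 = p'.1 := by
  simp only [chkReps, Bool.and_eq_true, List.all_eq_true, List.any_eq_true, Bool.or_eq_true, decide_eq_true_iff,
    List.isEmpty_iff, nat_blt_iff, Bool.not_eq_true', Nat.beq_eq] at hL
  obtain ⟨hcov, hL⟩ := hL
  have hbeq : ∀ a b : ℕ, Nat.beq a b = false → a ≠ b := fun a b h e => by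
    rw [nat_beq_iff.2 e] at h; cases h
  refine ⟨fun p hp => ?_, fun g hg => ?_, fun p hp p' hp' hc => ?_⟩
  · obtain ⟨⟨⟨h1, h2⟩, h3⟩, -⟩ := hL p hp
    have hO : OrthL D X p.1 := ⟨h1, h3.imp_of_mem fun {a b} ha hb hab =>
      ⟨hab, by rw [S.inn_comm (h1 b hb) (h1 a ha)]; exact hab⟩⟩
    refine orderOf_eq_prime (by rw [sq]; exact (chevRel S.cert F).prodOne_sq S hO) fun e => ?_
    have h := hrk p hp
    rw [e, (chevRel S.cert F).rkSub_one] at h
    exact hbeq _ _ h2 h.symm
  · obtain ⟨T, hT, hc⟩ := exists_rep_group S F hd hq hg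
    rcases hcov T hT with rfl | ⟨p, hp, rfl⟩
    · rw [(chevRel S.cert F).prodOne_nil] at hc
      rw [isConj_one_left.1 hc, orderOf_one] at hg
      exact absurd hg (by norm_num)
    · exact ⟨p, hp, hc⟩
  · refine ((hL p hp).2 p' hp').resolve_right fun h => hbeq _ _ h ?_
    rw [← hrk p hp, ← hrk p' hp']
    exact (chevRel S.cert F).rkSub_conj hc

end CfsgLib.Lie.Chev
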