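/-
Ranks of the representatives of the involutions of type E6 in characteristic two.
-/
import Cfsg.Agent.Lib.Lie.CharTwoInv.Rank

set_option autoImplicit false

namespace CfsgLib.Lie.Chev

open Cfsg.Lie

/-- row selection for representative 1 -/
def rankUE6_1 : List (List ℕ) := [[], [], [], [], [], [0, 1], [], [], [], [], [], [], [], [], [], [], [], [], [], [], [], [], [], [], [], [], [], [], [], [], [], [], [], [], [], [], [], [], [], [], [], [], [], [], [], [], [], [], [], [], [], [], [2], [3], [4], [5], [6], [7], [8], [9], [10], [11], [], [], [], [], [], [12], [13], [14], [15], [16], [17], [18], [19], [20], [21], [0]]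
/-- column selection for representative 1 -/
def rankVE6_1 : List (List ℕ) := [[1], [6], [7], [8], [9], [10], [11], [12], [13], [14], [15], [16], [22], [23], [24], [25], [26], [27], [28], [29], [30], [31]]

theorem rankE6_1 : Inv2.chkRank chevE6 [71] 22 rankUE6_1 rankVE6_1 = true := by decide +kernel

/-- row selection for representative 2 -/
def rankUE6_2 : List (List ℕ) := [[], [], [], [], [1, 5, 7], [0, 7], [], [], [], [], [], [], [], [], [], [], [], [], [], [], [], [], [], [], [], [], [], [], [], [2, 21], [], [], [], [], [], [], [], [3, 24], [], [], [4, 25], [], [6], [], [9], [], [], [11], [8, 29], [10, 30], [], [12], [], [], [], [14], [13, 31], [], [15], [], [16], [17], [18], [19], [20], [22], [21], [23], [26], [24], [27], [25], [0], [28], [0, 1], [29], [30], [31]]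
/-- column selection for representative 2 -/
def rankVE6_2 : List (List ℕ) := [[0], [2], [6], [7], [8], [9], [10], [11], [12], [13], [14], [15], [16], [17], [18], [19], [20], [21], [22], [23], [25], [27], [28], [32], [34], [35], [36], [39], [41], [43], [46], [54]]

theorem rankE6_2 : Inv2.chkRank chevE6 [68, 66] 32 rankUE6_2 rankVE6_2 = true := by decide +kernel

/-- row selection for representative 3 -/
def rankUE6_3 : List (List ℕ) := [[], [0, 1, 2, 7, 9, 19], [], [], [0, 9, 19], [1, 7, 9], [], [], [], [], [], [], [], [], [], [], [], [], [], [], [], [], [], [], [], [], [], [], [], [], [], [], [], [], [], [], [], [], [], [5, 17], [8, 18], [6, 31], [], [], [], [11], [22], [3, 25], [10, 35], [12], [3, 23], [26], [], [14], [28], [4, 32], [15], [4, 29], [33], [17], [18], [0, 2], [20, 36], [21, 37], [3, 13], [24], [27], [4, 16], [30], [34], [31], [2], [36], [1, 2], [35], [37], [13, 23, 25], [16, 29, 32]]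
/-- column selection for representative 3 -/
def rankVE6_3 : List (List ℕ) := [[0], [2], [3], [6], [7], [8], [9], [10], [11], [12], [13], [14], [15], [16], [17], [18], [19], [20], [21], [22], [23], [24], [25], [26], [27], [28], [29], [30], [32], [33], [34], [35], [36], [37], [38], [42], [43], [44]]

theorem rankE6_3 : Inv2.chkRank chevE6 [55, 65, 67] 38 rankUE6_3 rankVE6_3 = true := by decide +kernel

end CfsgLib.Lie.Chev
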