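/-
Ranks of the representatives of the involutions of type E7 in characteristic two.
-/
import Cfsg.Agent.Lib.Lie.CharTwoInv.Rank

set_option autoImplicit false

namespace CfsgLib.Lie.Chev

open Cfsg.Lie

/-- row selection for representative 1 -/
def rankUE7_1 : List (List ℕ) := [[], [], [], [], [], [], [0, 1], [], [], [], [], [], [], [], [], [], [], [], [], [], [], [], [], [], [], [], [], [], [], [], [], [], [], [], [], [], [], [], [], [], [], [], [], [], [], [], [], [], [], [], [], [], [], [], [], [], [], [], [], [], [], [], [], [], [], [], [], [], [], [], [], [], [], [], [], [], [], [], [], [], [], [], [], [], [], [], [], [], [], [], [], [], [], [], [], [], [], [], [], [], [2], [3], [4], [5], [6], [7], [8], [9], [10], [11], [12], [13], [14], [15], [16], [17], [18], [19], [20], [21], [22], [23], [24], [25], [26], [27], [28], [29], [30], [31], [32], [33], [0]]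
/-- column selection for representative 1 -/
def rankVE7_1 : List (List ℕ) := [[0], [7], [8], [9], [10], [11], [12], [13], [14], [15], [16], [17], [18], [19], [20], [21], [22], [23], [24], [25], [26], [27], [28], [29], [30], [31], [32], [33], [34], [35], [36], [37], [38], [39]]

theorem rankE7_1 : Inv2.chkRank chevE7 [125] 34 rankUE7_1 rankVE7_1 = true := by decide +kernel

/-- row selection for representative 2 -/
def rankUE7_2 : List (List ℕ) := [[], [], [], [], [0, 2, 35], [], [1, 35], [], [], [], [], [], [], [], [], [], [], [], [], [], [], [], [], [], [], [], [], [], [], [], [], [], [], [], [], [], [], [], [], [], [], [], [], [], [], [], [], [], [], [], [], [], [], [], [], [], [], [], [], [], [], [], [], [], [], [], [], [], [], [], [], [36], [37], [], [38], [39], [], [], [40], [41], [], [], [], [42], [43], [], [], [], [44], [45], [], [], [46], [47], [], [48], [49], [50], [51], [1], [3, 18], [4, 24], [5, 27], [6, 28], [7], [8], [9, 31], [10, 32], [11], [12], [13, 33], [14], [15], [16], [17], [18], [19, 34], [20], [21], [22], [23], [24], [25], [26], [27], [28], [29], [30], [31], [32], [33], [34], [0, 1]]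
/-- column selection for representative 2 -/
def rankVE7_2 : List (List ℕ) := [[0], [5], [7], [8], [9], [10], [11], [12], [13], [14], [15], [16], [17], [18], [19], [20], [21], [22], [23], [24], [25], [26], [27], [28], [29], [30], [31], [32], [33], [34], [35], [36], [37], [38], [39], [40], [41], [42], [43], [44], [46], [47], [50], [51], [55], [56], [60], [61], [64], [65], [67], [68]]

theorem rankE7_2 : Inv2.chkRank chevE7 [92, 125] 52 rankUE7_2 rankVE7_2 = true := by decide +kernel

/-- row selection for representative 3 -/
def rankUE7_3 : List (List ℕ) := [[], [], [0, 3, 36, 41], [], [0, 1, 3, 36], [], [0, 1, 2, 3, 41], [], [], [], [], [], [], [], [], [], [], [], [], [], [], [], [], [], [], [], [], [], [], [], [], [], [], [], [], [], [], [], [], [], [], [], [], [], [], [], [], [], [], [], [], [], [], [], [], [], [], [], [], [], [], [], [], [], [], [], [], [], [], [], [], [37, 58], [38, 59], [], [39, 60], [40, 61], [44], [45], [42], [43], [], [48], [49], [46], [47], [], [52], [53], [50], [51], [56], [57], [54], [55], [1], [58], [59], [60], [61], [1, 2], [4, 14, 19, 34], [5, 20, 25, 35], [6, 28], [7, 29], [8,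 26], [9, 27], [10, 32], [11, 33], [12, 30], [13, 31], [14, 34], [15], [16], [17], [18], [19, 34], [20, 35], [21], [22], [23], [24], [25, 35], [26], [27], [28], [29], [30], [31], [32], [33], [34], [35], [0, 2]]
/-- column selection for representative 3 -/
def rankVE7_3 : List (List ℕ) := [[0], [3], [5], [7], [8], [9], [10], [11], [12], [13], [14], [15], [16], [17], [18], [19], [20], [21], [22], [23], [24], [25], [26], [27], [28], [29], [30], [31], [32], [33], [34], [35], [36], [37], [38], [39], [40], [41], [42], [43], [44], [45], [46], [47], [48], [49], [50], [51], [52], [53], [55], [56], [57], [58], [60], [61], [62], [63], [64], [65], [67], [68]]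

theorem rankE7_3 : Inv2.chkRank chevE7 [87, 92, 125] 62 rankUE7_3 rankVE7_3 = true := by decide +kernel

/-- row selection for representative 4 -/
def rankUE7_4 : List (List ℕ) := [[], [], [1, 35, 52], [], [0, 2, 35], [], [], [], [], [], [], [], [], [], [], [], [], [], [], [], [], [], [], [], [], [], [], [], [], [], [], [], [], [], [], [], [], [], [], [], [], [], [], [], [], [], [], [], [], [], [], [], [], [], [], [], [], [], [], [], [], [], [], [], [], [], [], [], [], [], [52], [36, 37], [37], [], [38, 39], [39], [], [], [40, 41], [41], [], [], [], [42, 43], [43], [], [], [], [44, 45], [45], [], [], [46, 47], [47], [], [48, 49], [49], [50, 51], [51], [1, 52], [3, 18], [4, 24], [5, 27], [6, 28], [7, 8], [8], [9, 31], [10, 32], [11, 12], [12], [13, 33], [14, 15], [15], [16, 17], [17], [18], [19, 34], [20, 21], [21], [22, 23], [23], [24], [25, 26], [26], [27], [28], [29, 30], [30], [31], [32], [33], [34], [0, 1, 52]]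
/-- column selection for representative 4 -/
def rankVE7_4 : List (List ℕ) := [[0], [5], [7], [8], [9], [10], [11], [12], [13], [14], [15], [16], [17], [18], [19], [20], [21], [22], [23], [24], [25], [26], [27], [28], [29], [30], [31], [32], [33], [34], [35], [36], [37], [38], [39], [40], [41], [42], [43], [44], [46], [47], [50], [51], [55], [56], [60], [61], [64], [65], [67], [68], [69]]

theorem rankE7_4 : Inv2.chkRank chevE7 [63, 92, 125] 53 rankUE7_4 rankVE7_4 = true := by decide +kernel

/-- row selection for representative 5 -/
def rankUE7_5 : List (List ℕ) := [[], [], [0, 3, 36, 41], [], [0, 1, 3, 36, 50], [], [0, 1, 2, 3, 41, 50], [], [], [], [], [], [], [], [], [], [], [], [], [], [], [], [], [], [], [], [], [], [], [], [], [], [], [], [], [], [], [], [], [], [], [], [], [], [], [], [], [], [], [], [], [], [], [], [], [], [], [], [], [], [], [], [], [], [], [], [], [], [], [], [], [37, 59], [38, 60], [], [39, 61], [40, 62], [44, 53], [45, 54], [42, 51], [43, 52], [], [48, 57], [49, 58], [46, 55], [47, 56], [50], [53], [54], [51], [52], [57], [58], [55], [56], [1, 50], [59], [60], [61], [62], [1, 2,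 50], [4, 14, 19, 34], [5, 20, 25, 35], [6, 10, 28, 32], [7, 11, 29, 33], [8, 12, 26, 30], [9, 13, 27, 31], [10, 32], [11, 33], [12, 30], [13, 31], [14, 34], [15], [16], [17], [18], [19, 34], [20, 35], [21], [22], [23], [24], [25, 35], [26, 30], [27, 31], [28, 32], [29, 33], [30], [31], [32], [33], [34], [35], [0, 2]]
/-- column selection for representative 5 -/
def rankVE7_5 : List (List ℕ) := [[0], [3], [5], [7], [8], [9], [10], [11], [12], [13], [14], [15], [16], [17], [18], [19], [20], [21], [22], [23], [24], [25], [26], [27], [28], [29], [30], [31], [32], [33], [34], [35], [36], [37], [38], [39], [40], [41], [42], [43], [44], [45], [46], [47], [48], [49], [50], [51], [52], [53], [54], [55], [56], [57], [58], [60], [61], [62], [63], [64], [65], [67], [68]]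

theorem rankE7_5 : Inv2.chkRank chevE7 [78, 87, 92, 125] 63 rankUE7_5 rankVE7_5 = true := by decide +kernel

end CfsgLib.Lie.Chev
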