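/-
Ranks of the representatives of the involutions of type E8 in characteristic two.
-/
import Cfsg.Agent.Lib.Lie.CharTwoInv.Rank

set_option autoImplicit false

namespace CfsgLib.Lie.Chev

open Cfsg.Lie

/-- row selection for representative 1 -/
def rankUE8_1 : List (List ℕ) := [[], [], [], [], [], [], [0, 1], [], [], [], [], [], [], [], [], [], [], [], [], [], [], [], [], [], [], [], [], [], [], [], [], [], [], [], [], [], [], [], [], [], [], [], [], [], [], [], [], [], [], [], [], [], [], [], [], [], [], [], [], [], [], [], [], [], [], [], [], [], [], [], [], [], [], [], [], [], [], [], [], [], [], [], [], [], [], [], [], [], [], [], [], [], [], [], [], [], [], [], [], [], [], [], [], [], [], [], [], [], [], [], [], [], [], [], [], [], [], [], [], [], [], [], [], [], [], [], [], [], [2], [], [3], [], [], [4], [], [], [], [5], [], [], [], [], [6], [], [], [], [], [], [7], [], [], [], [], [], [8], [], [], [], [], [9], [], [], [], [10], [], [], [11], [], [12], [13], [], [], [], [], [], [], [14], [], [], [], [], [15], [], [], [], [16], [], [], [17], [], [18], [19], [], [], [], [20], [], [], [21], [], [22], [23], [], [], [24], [], [25], [26], [],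 [27], [28], [29], [], [], [30], [], [31], [32], [], [33], [34], [35], [], [36], [37], [38], [39], [], [40], [41], [42], [43], [44], [45], [], [46], [47], [48], [49], [50], [51], [52], [53], [54], [55], [56], [57], [0]]
/-- column selection for representative 1 -/
def rankVE8_1 : List (List ℕ) := [[7], [8], [9], [10], [11], [12], [13], [14], [15], [16], [17], [18], [19], [20], [22], [23], [24], [25], [26], [27], [29], [30], [31], [32], [34], [35], [36], [38], [39], [41], [44], [45], [46], [48], [49], [51], [54], [55], [57], [60], [64], [65], [67], [70], [74], [79], [86], [87], [89], [92], [96], [101], [107], [113], [118], [122], [125], [127]]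

theorem rankE8_1 : Inv2.chkRank chevE8 [239] 58 rankUE8_1 rankVE8_1 = true := by decide +kernel

/-- row selection for representative 2 -/
def rankUE8_2 : List (List ℕ) := [[], [], [1, 8, 9], [], [], [], [], [0, 1, 9], [], [], [], [], [], [], [], [], [], [], [], [], [], [], [], [], [], [], [], [], [], [], [], [], [], [], [], [], [], [], [], [], [], [], [], [], [], [], [], [], [], [], [], [], [], [], [], [], [], [], [], [], [], [], [], [], [], [], [], [], [], [], [], [], [], [], [], [], [], [], [], [], [], [], [], [], [], [], [], [], [], [], [], [], [], [], [], [], [], [], [], [], [], [], [], [], [], [], [], [2, 80], [3, 81], [4, 82], [5, 83], [6, 84], [7, 85], [], [], [], [], [], [], [], [], [], [], [], [], [], [], [], [], [], [], [], [], [], [], [], [], [], [], [], [], [], [], [], [], [], [], [], [], [10, 86], [11, 87], [12, 88], [13, 89], [14, 90], [15, 91], [], [], [], [], [], [], [], [], [], [], [], [], [], [], [], [16], [17], [18], [19], [20], [21], [22], [23], [24], [25], [26], [27], [28], [29], [30], [31], [32], [33], [34], [35], [36], [37], [38], [39], [40], [41], [42], [43], [44], [45], [46], [47], [48], [49], [50], [51], [52], [53],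 [54], [55], [56], [57], [58], [59], [60], [61], [62], [63], [64], [65], [66], [67], [68], [69], [70], [71], [72], [73], [74], [75], [76], [77], [78], [79], [80], [81], [82], [83], [84], [85], [0, 1], [0], [86], [87], [88], [89], [90], [91]]
/-- column selection for representative 2 -/
def rankVE8_2 : List (List ℕ) := [[0], [1], [8], [9], [10], [11], [12], [13], [14], [15], [16], [17], [18], [19], [20], [21], [22], [23], [24], [25], [26], [27], [28], [29], [30], [31], [32], [33], [34], [35], [36], [37], [38], [39], [40], [41], [42], [43], [44], [45], [46], [47], [48], [49], [50], [51], [52], [53], [54], [55], [56], [57], [58], [59], [60], [61], [62], [63], [64], [65], [66], [67], [68], [69], [70], [71], [72], [73], [74], [75], [76], [77], [78], [79], [80], [81], [82], [83], [84], [85], [101], [102], [103], [104], [105], [106], [143], [144], [145], [146], [147], [148]]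

theorem rankE8_2 : Inv2.chkRank chevE8 [232, 233] 92 rankUE8_2 rankVE8_2 = true := by decide +kernel

/-- row selection for representative 3 -/
def rankUE8_3 : List (List ℕ) := [[], [], [], [], [1, 20, 24], [0, 14, 20], [], [1, 2, 14, 20, 24], [], [], [], [], [], [], [], [], [], [], [], [], [], [], [], [], [], [], [], [], [], [], [], [], [], [], [], [], [], [], [], [], [], [], [], [], [], [], [], [], [], [], [], [], [], [], [], [], [], [], [], [], [], [], [], [], [], [], [], [], [], [5, 54], [], [], [], [], [], [], [], [], [], [], [], [], [], [], [], [], [], [], [], [], [], [6, 55], [], [], [7, 63], [], [], [], [8, 66], [], [], [], [], [9, 67], [17, 83], [], [], [], [], [10, 70], [], [], [], [], [], [11, 71], [18, 88], [], [], [], [12, 72], [19, 89], [], [], [13, 73], [], [], [], [], [15], [16], [], [22], [23], [], [], [27], [28], [], [], [], [31], [32], [25, 99], [29, 101], [], [], [34], [35], [], [], [], [], [40], [41], [38, 104], [], [], [43], [44], [], [], [48], [49], [], [57], [58], [3, 75], [4, 76], [54], [21, 98], [26, 100], [30, 102], [33, 103], [], [36], [37], [39, 105], [42, 106], [], [45], [46], [47, 107], [], [50], [51], [], [3,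 59], [4, 60], [77], [78], [55], [56, 108], [74, 109], [3, 52], [4, 53], [], [61], [62], [79], [80], [63], [], [64], [65], [81], [82], [66], [84], [85], [67], [83], [], [68], [69], [86], [87], [70], [90], [91], [71], [88], [92], [93], [72], [89], [0, 1, 2], [94], [95], [73], [0, 2], [99], [101], [104], [96], [97], [2], [98], [100], [102], [103], [105], [106], [107], [108], [109], [52, 59, 75], [53, 60, 76]]
/-- column selection for representative 3 -/
def rankVE8_3 : List (List ℕ) := [[0], [2], [6], [8], [9], [10], [11], [12], [13], [14], [15], [16], [17], [18], [19], [20], [21], [22], [23], [24], [25], [26], [27], [28], [29], [30], [31], [32], [33], [34], [35], [36], [37], [38], [39], [40], [41], [42], [44], [45], [46], [47], [48], [49], [50], [51], [52], [54], [55], [56], [57], [58], [60], [61], [62], [63], [64], [65], [66], [67], [68], [70], [71], [73], [74], [75], [77], [78], [79], [80], [82], [83], [84], [85], [86], [87], [88], [89], [90], [92], [93], [96], [97], [100], [101], [102], [107], [108], [111], [112], [113], [114], [118], [119], [122], [123], [125], [126], [131], [134], [135], [139], [140], [146], [151], [152], [157], [161], [164],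 [186]]

theorem rankE8_3 : Inv2.chkRank chevE8 [228, 222, 218] 110 rankUE8_3 rankVE8_3 = true := by decide +kernel

/-- row selection for representative 4 -/
def rankUE8_4 : List (List ℕ) := [[], [], [], [], [0, 1, 3, 17, 23, 27], [3, 27, 30], [2, 23, 27], [0, 17, 23], [], [], [], [], [], [], [], [], [], [], [], [], [], [], [], [], [], [], [], [], [], [], [], [], [], [], [], [], [], [], [], [], [], [], [], [], [], [], [], [], [], [], [], [], [], [], [], [], [], [], [], [], [], [], [], [], [], [], [], [], [], [], [], [], [], [], [], [], [], [], [], [], [], [], [], [], [], [], [], [], [], [], [], [], [], [], [], [], [], [], [], [], [], [], [], [], [], [], [], [11, 75], [], [], [], [], [], [12, 76], [19, 102], [], [], [], [13, 77], [20, 103], [25, 106], [], [14, 78], [21, 104], [26, 107], [15, 79], [22, 105], [16, 80], [], [], [], [], [], [], [], [], [], [], [31, 111], [34, 114], [], [], [], [28, 109], [32, 112], [35, 115], [37, 117], [], [], [40], [41], [44], [50], [4, 60], [5, 81], [42], [45], [4, 51], [61], [6, 82], [4, 47], [53], [63], [7, 84], [56], [66], [8, 87], [70], [9, 91], [10, 96], [24, 108], [29, 110], [33, 113], [36, 116], [38, 118],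 [39, 119], [], [43], [46], [5, 52], [6, 62], [83], [5, 48], [54], [7, 64], [85], [57], [8, 67], [88], [9, 71], [92], [18, 97], [6, 49], [7, 55], [65], [86], [8, 58], [68], [89], [10, 72], [18, 93], [98], [9, 59], [10, 69], [18, 90], [73], [94], [99], [74], [95], [100], [101], [75], [76], [102], [77], [103], [106], [78], [104], [107], [1], [79], [105], [1, 3], [111], [114], [80], [1, 2, 3], [109], [112], [115], [117], [47, 51, 60], [0, 1, 2, 3], [108], [110], [113], [116], [118], [119], [48, 52, 81], [49, 62, 82], [55, 64, 84], [58, 67, 87], [59, 71, 91], [69, 72, 96], [90, 93, 97]]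
/-- column selection for representative 4 -/
def rankVE8_4 : List (List ℕ) := [[0], [1], [2], [3], [8], [9], [10], [11], [12], [13], [14], [15], [16], [17], [18], [19], [20], [21], [22], [23], [24], [25], [26], [27], [28], [29], [30], [31], [32], [33], [34], [35], [36], [37], [38], [39], [40], [41], [42], [43], [44], [45], [46], [47], [48], [49], [50], [51], [52], [53], [54], [55], [56], [57], [58], [59], [60], [61], [62], [63], [64], [65], [66], [67], [68], [69], [70], [71], [72], [73], [74], [75], [76], [77], [78], [80], [81], [82], [83], [84], [85], [86], [87], [88], [89], [90], [91], [92], [93], [94], [95], [96], [97], [98], [99], [100], [101], [102], [103], [104], [105], [106], [109], [110], [111], [112], [116], [117], [128], [129], [130], [131], [132], [133], [135], [136], [137], [141], [142], [148]]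

theorem rankE8_4 : Inv2.chkRank chevE8 [226, 220, 213, 216] 120 rankUE8_4 rankVE8_4 = true := by decide +kernel

end CfsgLib.Lie.Chev
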